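import Cfsg.Agent.H72.MC10

set_option autoImplicit false
set_option linter.unusedSectionVars false
set_option linter.style.haveILetI false
set_option linter.unusedVariables false

/-!
# p-groups of maximal class: elements outside the two exceptional two-step centralizers (helper72)
-/

universe u

namespace Cfsg.Agent.H72.MC

open Subgroup
open scoped commutatorElement

variable {G : Type u} [Group G]

namespace Max

variable {p n : ℕ} [hp : Fact p.Prime]

theorem unif_of_not_mem (h : Max G p n) (hp2 : p ≠ 2) (hn : 4 ≤ n) {s : G} (hs1 : s ∉ M G 2) (hs2 : s ∉ M G (n - 2)) :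
    Unif G n s := by
  haveI := h.finite
  obtain ⟨h1, -⟩ := blackburn hp2 n hn G h
  intro j hj hjn
  rcases Nat.lt_or_ge n (j + 3) with h3 | h3
  · obtain rfl : j = n - 2 := by omega
    exact hs2
  · rw [← h.M_eq_of_le (by omega) le_rfl (by omega) hj hjn (h1 j hj h3)]
    exact hs1

/-- Blackburn: for `p` odd, an element of a `p`-group of maximal class of order `≥ p ^ 4` that lies neither in
`M G 2 = C(γ₂ / γ₄)` nor in `M G (n - 2) = C(Z₂)` has a centralizer of order `≤ p ^ 2`. -/
theorem card_centralizer_of_not_mem (h : Max G p n) (hp2 : p ≠ 2) (hn : 4 ≤ n) {s : G} (hs1 : s ∉ M G 2)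
    (hs2 : s ∉ M G (n - 2)) : Nat.card (centralizer ({s} : Set G)) ≤ p ^ 2 :=
  h.card_centralizer_le hn (h.unif_of_not_mem hp2 hn hs1 hs2)

/-- two proper subgroups outside which centralizers have order `≤ p ^ 2` (`p` odd) -/
theorem exists_two_subgroups (h : Max G p n) (hp2 : p ≠ 2) (hn : 4 ≤ n) :
    ∃ A B : Subgroup G, A.index = p ∧ B.index = p ∧ ∀ s : G, s ∉ A → s ∉ B → Nat.card (centralizer ({s} : Set G)) ≤ p ^ 2 :=
  ⟨M G 2, M G (n - 2), h.index_M (by omega) le_rfl (by omega), h.index_M (by omega) (by omega) (by omega),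
    fun _ h1 h2 => h.card_centralizer_of_not_mem hp2 hn h1 h2⟩

theorem mem_M_last (h : Max G p n) (hn : 4 ≤ n) {g : G} : g ∈ M G (n - 2) ↔ g ∈ centralizer (K G (n - 2) : Set G) := by
  rw [mem_M, mem_centralizer_iff]
  constructor
  · intro h1 x hx
    have h2 := h1 x hx
    rw [show n - 2 + 2 = n by omega, h.K_n (by omega), mem_bot, commutatorElement_eq_one_iff_mul_comm] at h2
    exact h2.symm
  · intro h1 x hx
    rw [(commutatorElement_eq_one_iff_mul_comm).2 (h1 x hx).symm]
    exact one_mem _

end Max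

end Cfsg.Agent.H72.MC
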