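import Mathlib

set_option autoImplicit false

/-! Symmetric groups of degree at most four are solvable (helper72). -/

namespace Cfsg.Agent.H72

theorem isSolvable_perm_fin_four : Group.IsSolvable (Equiv.Perm (Fin 4)) := by
  have h4 : Nat.card (Fin 4) = 4 := Nat.card_fin 4
  have hV : Group.IsSolvable (alternatingGroup.kleinFour (Fin 4)) := by
    have hc : Nat.card (alternatingGroup.kleinFour (Fin 4)) = 2 ^ 2 := by
      rw [alternatingGroup.kleinFour_card_of_card_eq_four h4]; rfl
    have : Fact (Nat.Prime 2) := ⟨Nat.prime_two⟩
    have := (IsPGroup.of_card hc).isNilpotent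
    infer_instance
  have hA : Group.IsSolvable (alternatingGroup (Fin 4)) := by
    apply Group.isSolvable_of_ker_le_range (alternatingGroup.kleinFour (Fin 4)).subtype
      (Abelianization.of (G := alternatingGroup (Fin 4)))
    rw [Abelianization.ker_of, Subgroup.range_subtype, alternatingGroup.kleinFour_eq_commutator h4]
  apply Group.isSolvable_of_ker_le_range (alternatingGroup (Fin 4)).subtype
      (Equiv.Perm.sign (α := Fin 4))
  rw [Subgroup.range_subtype]
  exact le_of_eq alternatingGroup_eq_sign_ker.symm

theorem isSolvable_perm_of_card_le_four {α : Type*} [Finite α] (h : Nat.card α ≤ 4) :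
    Group.IsSolvable (Equiv.Perm α) := by
  have := isSolvable_perm_fin_four
  have : Fintype α := Fintype.ofFinite α
  rw [Nat.card_eq_fintype_card] at h
  obtain ⟨e⟩ : Nonempty (α ↪ Fin 4) := Function.Embedding.nonempty_of_card_le (by simpa using h)
  exact Group.isSolvable_of_isSolvable_injective (f := Equiv.Perm.viaEmbeddingHom e)
    (Equiv.Perm.viaEmbeddingHom_injective e)

/-- A group of permutations moving at most four points is solvable. -/
theorem isSolvable_of_support_le {α : Type*} (S : Finset α) (hS : S.card ≤ 4)
    (K : Subgroup (Equiv.Perm α)) (hK : ∀ σ ∈ K, ∀ x, x ∉ S → σ x = x) : Group.IsSolvable K := by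
  classical
  have h1 : Group.IsSolvable (Equiv.Perm S) := isSolvable_perm_of_card_le_four (by simpa using hS)
  have h2 : Group.IsSolvable (Equiv.Perm.ofSubtype (p := fun x => x ∈ S)).range :=
    Group.isSolvable_of_surjective (MonoidHom.rangeRestrict_surjective _)
  have hle : K ≤ (Equiv.Perm.ofSubtype (p := fun x => x ∈ S)).range := by
    intro σ hσ
    have hmem : ∀ x, x ∈ S ↔ σ x ∈ S := by
      intro x
      constructor
      · intro hx
        by_contra hc
        have := hK σ⁻¹ (K.inv_mem hσ) (σ x) hc
        have h3 : σ⁻¹ (σ x) = x := σ.symm_apply_apply x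
        rw [h3] at this
        rw [← this] at hc
        exact hc hx
      · intro hx
        by_contra hc
        rw [hK σ hσ x hc] at hx
        exact hc hx
    refine ⟨σ.subtypePerm (fun x => (hmem x).symm), ?_⟩
    apply Equiv.Perm.ofSubtype_subtypePerm
    intro x hx
    by_contra hc
    exact hx (hK σ hσ x hc)
  exact Group.isSolvable_of_isSolvable_injective (Subgroup.inclusion_injective hle)

/-- The join of two elementwise commuting solvable subgroups is solvable. -/
theorem isSolvable_sup_of_commute {G : Type*} [Group G] (H K : Subgroup G) (hH : Group.IsSolvable H)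
    (hK : Group.IsSolvable K) (hc : ∀ a ∈ H, ∀ b ∈ K, a * b = b * a) :
    Group.IsSolvable ↥(H ⊔ K) := by
  have hc' : ∀ (a : H) (b : K), Commute (H.subtype a) (K.subtype b) := fun a b => hc a a.2 b b.2
  have h1 : Group.IsSolvable (MonoidHom.noncommCoprod H.subtype K.subtype hc').range :=
    Group.isSolvable_of_surjective (MonoidHom.rangeRestrict_surjective _)
  rw [MonoidHom.noncommCoprod_range, Subgroup.range_subtype, Subgroup.range_subtype] at h1
  exact h1

end Cfsg.Agent.H72
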