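import Mathlib

set_option autoImplicit false

/-! Conjugacy class sizes as centralizer indices; subgroups of coprime indices (helper72). -/

namespace Cfsg.Agent.H72

open Subgroup

/-- The conjugacy class of `x` as a set. -/
def Cl {G : Type*} [Group G] (x : G) : Set G := Set.range (fun g => g * x * g⁻¹)

/-- The centralizer of `x`. -/
abbrev Cx {G : Type*} [Group G] (x : G) : Subgroup G := Subgroup.centralizer ({x} : Set G)

section

variable {G : Type*} [Group G]

theorem mem_Cx {x g : G} : g ∈ Cx x ↔ g * x = x * g := Subgroup.mem_centralizer_singleton_iff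

theorem mem_Cl_self (x : G) : x ∈ Cl x := ⟨1, by simp⟩

theorem conj_mem_Cl (x g : G) : g * x * g⁻¹ ∈ Cl x := ⟨g, rfl⟩

theorem mem_Cl_conj {x u : G} (g : G) : u ∈ Cl x ↔ g * u * g⁻¹ ∈ Cl x := by
  constructor
  · rintro ⟨h, rfl⟩
    exact ⟨g * h, by group⟩
  · rintro ⟨h, hh⟩
    refine ⟨g⁻¹ * h, ?_⟩
    have hh' : h * x * h⁻¹ = g * u * g⁻¹ := hh
    show g⁻¹ * h * x * (g⁻¹ * h)⁻¹ = u
    have e : g⁻¹ * h * x * (g⁻¹ * h)⁻¹ = g⁻¹ * (h * x * h⁻¹) * g := by group
    rw [e, hh']; group

theorem card_Cl (x : G) : Nat.card (Cl x) = (Cx x).index := by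
  symm
  have hwd : ∀ a b : G, (QuotientGroup.leftRel (Cx x)) a b → a * x * a⁻¹ = b * x * b⁻¹ := by
    intro a b hab
    rw [QuotientGroup.leftRel_apply, mem_Cx] at hab
    calc a * x * a⁻¹ = a * (x * (a⁻¹ * b)) * b⁻¹ := by group
      _ = a * ((a⁻¹ * b) * x) * b⁻¹ := by rw [hab]
      _ = b * x * b⁻¹ := by group
  let f : G ⧸ Cx x → Cl x := fun q => Quotient.liftOn' q (fun g => (⟨g * x * g⁻¹, g, rfl⟩ : Cl x))
    (fun a b hab => Subtype.ext (hwd a b hab))
  apply Nat.card_eq_of_bijective f
  constructor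
  · intro p q
    induction p using Quotient.inductionOn' with
    | h a =>
      induction q using Quotient.inductionOn' with
      | h b =>
        intro h
        have h' : a * x * a⁻¹ = b * x * b⁻¹ := congrArg Subtype.val h
        apply Quotient.sound'
        rw [QuotientGroup.leftRel_apply, mem_Cx]
        calc a⁻¹ * b * x = a⁻¹ * (b * x * b⁻¹) * b := by group
          _ = a⁻¹ * (a * x * a⁻¹) * b := by rw [h']
          _ = x * (a⁻¹ * b) := by group
  · rintro ⟨_, g, rfl⟩
    exact ⟨Quotient.mk'' g, rfl⟩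

theorem Cx_index_eq_one_iff {x : G} : (Cx x).index = 1 ↔ x ∈ Subgroup.center G := by
  rw [Subgroup.index_eq_one, Subgroup.mem_center_iff]
  constructor
  · intro h g
    have : g ∈ Cx x := by rw [h]; exact Subgroup.mem_top g
    exact mem_Cx.1 this
  · intro h
    rw [eq_top_iff]
    intro g _
    exact mem_Cx.2 (h g)

theorem center_le_Cx (x : G) : Subgroup.center G ≤ Cx x := fun _ hz =>
  mem_Cx.2 (Subgroup.mem_center_iff.1 hz x).symm

end

section coprime

variable {G : Type*} [Group G] [Finite G] {H K : Subgroup G}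

theorem relIndex_eq_index_of_coprime (hc : (H.index).Coprime K.index) : H.relIndex K = H.index := by
  have h1 : (H ⊓ K).relIndex K * K.index = (H ⊓ K).index := Subgroup.relIndex_mul_index inf_le_right
  rw [Subgroup.inf_relIndex_right] at h1
  have h2 : H.index ∣ H.relIndex K * K.index := by
    rw [h1]; exact Subgroup.index_dvd_of_le inf_le_left
  have h3 : H.index ∣ H.relIndex K := hc.dvd_of_dvd_mul_right h2
  have h4 : H.relIndex K ≤ H.index := by
    have := Subgroup.relIndex_le_of_le_right (H := H) (K := K) (L := ⊤) le_top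
      (by rw [Subgroup.relIndex_top_right]; exact Subgroup.index_ne_zero_of_finite)
    rwa [Subgroup.relIndex_top_right] at this
  have h5 : H.relIndex K ≠ 0 := Subgroup.index_ne_zero_of_finite (H := H.subgroupOf K)
  exact le_antisymm h4 (Nat.le_of_dvd (Nat.pos_of_ne_zero h5) h3)

theorem inf_index_of_coprime (hc : (H.index).Coprime K.index) : (H ⊓ K).index = H.index * K.index := by
  have h1 : (H ⊓ K).relIndex K * K.index = (H ⊓ K).index := Subgroup.relIndex_mul_index inf_le_right
  rw [Subgroup.inf_relIndex_right, relIndex_eq_index_of_coprime hc] at h1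
  exact h1.symm

/-- Subgroups of coprime indices factorize the group. -/
theorem exists_mul_of_coprime_index (hc : (H.index).Coprime K.index) (g : G) :
    ∃ a ∈ H, ∃ b ∈ K, g = a * b := by
  have hwd : ∀ a b : K, (QuotientGroup.leftRel (H.subgroupOf K)) a b →
      (QuotientGroup.leftRel H) (a : G) (b : G) := by
    intro a b hab
    rw [QuotientGroup.leftRel_apply] at hab ⊢
    exact hab
  let f : K ⧸ H.subgroupOf K → G ⧸ H := Quotient.map' (fun k : K => (k : G)) hwd
  have hf : Function.Injective f := by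
    intro p q
    induction p using Quotient.inductionOn' with
    | h a =>
      induction q using Quotient.inductionOn' with
      | h b =>
        intro h
        apply Quotient.sound'
        rw [QuotientGroup.leftRel_apply]
        have h' : (QuotientGroup.mk (a : G) : G ⧸ H) = QuotientGroup.mk (b : G) := h
        have h2 : (a : G)⁻¹ * b ∈ H := QuotientGroup.eq.1 h'
        exact h2
  have hcard : Nat.card (K ⧸ H.subgroupOf K) = Nat.card (G ⧸ H) := relIndex_eq_index_of_coprime hc
  have hs : Function.Surjective f := ((Nat.bijective_iff_injective_and_card f).2 ⟨hf, hcard⟩).2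
  obtain ⟨q, hq⟩ := hs ((g⁻¹ : G) : G ⧸ H)
  obtain ⟨k, rfl⟩ := QuotientGroup.mk_surjective q
  have h1 : ((k : G) : G ⧸ H) = ((g⁻¹ : G) : G ⧸ H) := hq
  have h2 : (k : G)⁻¹ * g⁻¹ ∈ H := QuotientGroup.eq.1 h1
  refine ⟨((k : G)⁻¹ * g⁻¹)⁻¹, H.inv_mem h2, (k : G)⁻¹, K.inv_mem k.2, by group⟩

end coprime

end Cfsg.Agent.H72
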