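import Cfsg.Agent.S5284
import Cfsg.Agent.S5235
import Cfsg.Agent.S4189
import Cfsg.Agent.H71.MetaTwo

set_option autoImplicit false
set_option linter.style.haveILetI false
set_option linter.unusedSectionVars false

/-!
# Automorphisms of metacyclic `2`-groups
-/

namespace Cfsg.Agent.H72

open Cfsg Cfsg.FusionSystem Cfsg.Agent.Fus Subgroup
open scoped commutatorElement

universe u

/-- quotients of metacyclic groups -/
theorem isMetacyclic_of_surjective {A B : Type*} [Group A] [Group B] (f : A →* B) (hf : Function.Surjective f)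
    (h : Cfsg.IsMetacyclic A) : Cfsg.IsMetacyclic B := by
  obtain ⟨N, hN, hNc, hQ⟩ := h
  have hM : (N.map f).Normal := hN.map _ hf
  refine ⟨N.map f, hM, ?_, ?_⟩
  · exact isCyclic_of_surjective (f.subgroupMap N) (f.subgroupMap_surjective N)
  · refine isCyclic_of_surjective (QuotientGroup.map N (N.map f) f (Subgroup.le_comap_map f N)) ?_
    intro y
    obtain ⟨y, rfl⟩ := QuotientGroup.mk_surjective y
    obtain ⟨x, rfl⟩ := hf y
    exact ⟨QuotientGroup.mk x, rfl⟩

/-- the number of solutions of `x ^ p = 1` -/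
theorem card_torsion_le {p : ℕ} [hp : Fact p.Prime] {A : Type*} [CommGroup A] [Finite A] (h : Cfsg.IsMetacyclic A) :
    Nat.card (powMonoidHom p : A →* A).ker ≤ p ^ 2 := by
  obtain ⟨N, hN, hNc, hQ⟩ := H65.isMetacyclic_subgroup h (powMonoidHom p : A →* A).ker
  have hexp : ∀ x : (powMonoidHom p : A →* A).ker, x ^ p = 1 := fun x => Subtype.ext x.2
  rw [Subgroup.card_eq_card_quotient_mul_card_subgroup N, pow_two]
  refine Nat.mul_le_mul ?_ ?_
  · obtain ⟨g, hg⟩ := hQ.exists_generator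
    rw [← orderOf_eq_card_of_forall_mem_zpowers hg]
    apply orderOf_le_of_pow_eq_one hp.out.pos
    obtain ⟨x, rfl⟩ := QuotientGroup.mk_surjective g
    rw [← QuotientGroup.mk_pow, hexp]; rfl
  · obtain ⟨g, hg⟩ := hNc.exists_generator
    rw [← orderOf_eq_card_of_forall_mem_zpowers hg]
    apply orderOf_le_of_pow_eq_one hp.out.pos
    exact Subtype.ext (hexp g)

theorem le_card_torsion {p : ℕ} [hp : Fact p.Prime] {A : Type*} [CommGroup A] [Finite A] (hA : p ∣ Nat.card A) :
    p ≤ Nat.card (powMonoidHom p : A →* A).ker := by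
  obtain ⟨x, hx⟩ := exists_prime_orderOf_dvd_card' p hA
  have h1 : zpowers x ≤ (powMonoidHom p : A →* A).ker := by
    rw [zpowers_le]
    show x ^ p = 1
    rw [← hx, pow_orderOf_eq_one]
  have h2 := Subgroup.card_le_of_le h1
  rwa [Nat.card_zpowers, hx] at h2

theorem homocyclic_of_meta {p : ℕ} [hp : Fact p.Prime] {A : Type*} [CommGroup A] [Finite A] (hA : IsPGroup p A)
    (h : Cfsg.IsMetacyclic A) {n : ℕ} (hn : 0 < n) {H : Type*} [CommGroup H]
    (e : A ≃* (Multiplicative (ZMod (p ^ n)) × Multiplicative (ZMod (p ^ n))) × H) :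
    Nonempty (A ≃* Multiplicative (ZMod (p ^ n)) × Multiplicative (ZMod (p ^ n))) := by
  haveI : NeZero (p ^ n) := ⟨pow_ne_zero _ hp.out.ne_zero⟩
  haveI : Finite (Multiplicative (ZMod (p ^ n))) := inferInstanceAs (Finite (ZMod (p ^ n)))
  let π : A →* H := (MonoidHom.snd _ _).comp e.toMonoidHom
  have hπ : Function.Surjective π := fun h => ⟨e.symm (1, h), by
    show (e (e.symm (1, h))).2 = h
    rw [MulEquiv.apply_symm_apply]⟩
  haveI : Finite H := Finite.of_surjective π hπ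
  have hHp : IsPGroup p H := hA.of_surjective π hπ
  have hZ : p ∣ Nat.card (Multiplicative (ZMod (p ^ n))) := by
    have : Nat.card (Multiplicative (ZMod (p ^ n))) = p ^ n := Nat.card_zmod (p ^ n)
    rw [this]; exact dvd_pow_self p hn.ne'
  have hsub : Subsingleton H := by
    rw [← not_nontrivial_iff_subsingleton]
    intro hne
    have h1 : p ∣ Nat.card H := by
      obtain ⟨k, hk⟩ := hHp.exists_card_eq
      rw [hk]
      refine dvd_pow_self p ?_
      rintro rfl
      rw [pow_zero] at hk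
      exact (not_nontrivial_iff_subsingleton.2 (Nat.card_eq_one_iff_unique.1 hk).1) hne
    have h2 : Cfsg.IsMetacyclic ((Multiplicative (ZMod (p ^ n)) × Multiplicative (ZMod (p ^ n))) × H) :=
      isMetacyclic_of_surjective e.toMonoidHom e.surjective h
    have h3 := card_torsion_le (p := p) h2
    have hker : ∀ {B C : Type _} [CommGroup B] [CommGroup C] [Finite B] [Finite C],
        Nat.card (powMonoidHom p : (B × C) →* (B × C)).ker =
          Nat.card (powMonoidHom p : B →* B).ker * Nat.card (powMonoidHom p : C →* C).ker := by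
      intro B C _ _ _ _
      rw [← Nat.card_prod]
      refine Nat.card_congr ?_
      exact
        { toFun := fun x => (⟨x.1.1, congrArg Prod.fst x.2⟩, ⟨x.1.2, congrArg Prod.snd x.2⟩)
          invFun := fun x => ⟨(x.1.1, x.2.1), Prod.ext x.1.2 x.2.2⟩
          left_inv := fun _ => rfl
          right_inv := fun _ => rfl }
    rw [hker] at h3
    have h4 : Nat.card (powMonoidHom p : (Multiplicative (ZMod (p ^ n)) × Multiplicative (ZMod (p ^ n))) →* _).ker =
        Nat.card (powMonoidHom p : Multiplicative (ZMod (p ^ n)) →* _).ker * Nat.card (powMonoidHom p : Multiplicative (ZMod (p ^ n)) →* _).ker := by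
      rw [← Nat.card_prod]
      refine Nat.card_congr ?_
      exact
        { toFun := fun x => (⟨x.1.1, congrArg Prod.fst x.2⟩, ⟨x.1.2, congrArg Prod.snd x.2⟩)
          invFun := fun x => ⟨(x.1.1, x.2.1), Prod.ext x.1.2 x.2.2⟩
          left_inv := fun _ => rfl
          right_inv := fun _ => rfl }
    rw [h4] at h3
    have h5 := le_card_torsion (p := p) hZ
    have h6 := le_card_torsion (p := p) h1
    have h7 : p * p * p ≤ p ^ 2 := (Nat.mul_le_mul (Nat.mul_le_mul h5 h5) h6).trans h3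
    have h8 := hp.out.two_le
    nlinarith [Nat.pos_of_ne_zero hp.out.ne_zero, mul_pos (Nat.pos_of_ne_zero hp.out.ne_zero) (Nat.pos_of_ne_zero hp.out.ne_zero)]
  haveI : Unique H := { default := 1, uniq := fun _ => Subsingleton.elim _ _ }
  exact ⟨e.trans MulEquiv.prodUnique⟩

/-- an automorphism of a metacyclic abelian 2-group which is not homocyclic has 2-power order. -/
theorem aut_abelian_meta {p : ℕ} [hp : Fact p.Prime] {Q : Type*} [CommGroup Q] [Finite Q] (hQ : IsPGroup p Q)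
    (hm : Cfsg.IsMetacyclic Q)
    (hd : ¬ ∃ n : ℕ, 0 < n ∧ Nonempty (Q ≃* Multiplicative (ZMod (p ^ n)) × Multiplicative (ZMod (p ^ n))))
    (H : Subgroup (MulAut Q)) (hH : (Nat.card H).Coprime p) :
    (∀ a ∈ H, ∀ b ∈ H, a * b = b * a) ∧ ∀ a ∈ H, a ^ (p - 1) = 1 := by
  let E : MulAut (⊤ : Subgroup Q) ≃* MulAut Q := MulAut.congr Subgroup.topEquiv
  have h1 := S5284.auts_of_distinct (p := p) (S := (⊤ : Subgroup Q)) (hQ.to_subgroup _) (fun x _ y _ => mul_comm x y)
    (by
      rintro ⟨n, H', hH', hn, ⟨e⟩⟩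
      exact hd ⟨n, hn, homocyclic_of_meta hQ hm hn (Subgroup.topEquiv.symm.trans e)⟩)
    (H.comap E.toMonoidHom) (by
      have h2 : H.comap E.toMonoidHom = H.map E.symm.toMonoidHom := Subgroup.comap_equiv_eq_map_symm' E H
      rw [h2, ← Nat.card_congr (H.equivMapOfInjective E.symm.toMonoidHom E.symm.injective).toEquiv]
      exact hH)
  refine ⟨fun a ha b hb => ?_, fun a ha => ?_⟩
  · have h2 := h1.1 (E.symm a) (by rw [mem_comap]; simpa using ha) (E.symm b) (by rw [mem_comap]; simpa using hb)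
    apply E.symm.injective
    rw [map_mul, map_mul, h2]
  · have h2 := h1.2 (E.symm a) (by rw [mem_comap]; simpa using ha)
    apply E.symm.injective
    rw [map_pow, h2, map_one]

theorem odd_aut_abelian_meta {Q : Type*} [CommGroup Q] [Finite Q] (hQ : IsPGroup 2 Q)
    (hm : Cfsg.IsMetacyclic Q)
    (hd : ¬ ∃ n : ℕ, 0 < n ∧ Nonempty (Q ≃* Multiplicative (ZMod (2 ^ n)) × Multiplicative (ZMod (2 ^ n))))
    (β : MulAut Q) (hβ : (orderOf β).Coprime 2) : β = 1 := by
  haveI : Fact (Nat.Prime 2) := ⟨Nat.prime_two⟩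
  have h1 := (aut_abelian_meta hQ hm hd (zpowers β) (by rw [Nat.card_zpowers]; exact hβ)).2 β (mem_zpowers β)
  rwa [show 2 - 1 = 1 from rfl, pow_one] at h1

theorem sq_central {Y : Type*} [Group Y] (hc : ∀ x y : Y, ⁅x, y⁆ ∈ center Y) (h2 : ∀ x y : Y, ⁅x, y⁆ ^ 2 = 1)
    (x y : Y) : x ^ 2 * y = y * x ^ 2 := by
  have h1 : ⁅x ^ 2, y⁆ = 1 := by
    have h3 : ⁅x ^ 2, y⁆ = x * ⁅x, y⁆ * x⁻¹ * ⁅x, y⁆ := by
      rw [commutatorElement_def, commutatorElement_def, pow_two]; group
    rw [h3, mem_center_iff.1 (hc x y) x, mul_inv_cancel_right, ← pow_two, h2]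
  exact commutatorElement_eq_one_iff_mul_comm.1 h1

/-- class two with commutators of order two -/
theorem pow_four_mul {Y : Type*} [Group Y] (hc : ∀ x y : Y, ⁅x, y⁆ ∈ center Y) (h2 : ∀ x y : Y, ⁅x, y⁆ ^ 2 = 1)
    (x y : Y) : (x * y) ^ 4 = x ^ 4 * y ^ 4 := by
  have h3 : (x * y) ^ 2 = x ^ 2 * y ^ 2 * ⁅y⁻¹, x⁻¹⁆ := by
    have h4 := mem_center_iff.1 (hc y⁻¹ x⁻¹) y
    calc (x * y) ^ 2 = x * (x * (y * ⁅y⁻¹, x⁻¹⁆)) * y := by
          rw [commutatorElement_def, pow_two]; group
      _ = x * (x * (y * (⁅y⁻¹, x⁻¹⁆ * y))) := by simp only [mul_assoc]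
      _ = x * (x * (y * (y * ⁅y⁻¹, x⁻¹⁆))) := by rw [h4]
      _ = x ^ 2 * y ^ 2 * ⁅y⁻¹, x⁻¹⁆ := by rw [pow_two, pow_two]; simp only [mul_assoc]
  have hcom : Commute (x ^ 2 * y ^ 2) ⁅y⁻¹, x⁻¹⁆ := mem_center_iff.1 (hc y⁻¹ x⁻¹) _
  have hcom2 : Commute (x ^ 2) (y ^ 2) := sq_central hc h2 x _
  rw [show 4 = 2 * 2 from rfl, pow_mul, h3, hcom.mul_pow, h2, mul_one, hcom2.mul_pow, ← pow_mul, ← pow_mul]

theorem four_central {Y : Type*} [Group Y] (hc : ∀ x y : Y, ⁅x, y⁆ ∈ center Y) (h2 : ∀ x y : Y, ⁅x, y⁆ ^ 2 = 1)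
    (x y : Y) : Commute (x ^ 4) y := by
  have h1 := sq_central hc h2 (x ^ 2) y
  rwa [← pow_mul] at h1

theorem pow_two_pow_mul {Y : Type*} [Group Y] (hc : ∀ x y : Y, ⁅x, y⁆ ∈ center Y) (h2 : ∀ x y : Y, ⁅x, y⁆ ^ 2 = 1)
    {n : ℕ} (hn : 2 ≤ n) (x y : Y) : (x * y) ^ 2 ^ n = x ^ 2 ^ n * y ^ 2 ^ n := by
  obtain ⟨m, rfl⟩ : ∃ m, n = m + 2 := ⟨n - 2, by omega⟩
  have h3 : 2 ^ (m + 2) = 4 * 2 ^ m := by rw [pow_succ, pow_succ]; ring
  rw [h3, pow_mul, pow_four_mul hc h2, (four_central hc h2 x (y ^ 4)).mul_pow, ← pow_mul, ← pow_mul]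

/-- a nonabelian metacyclic 2-group with a nontrivial automorphism of odd order has `|X : X'| = 4`. -/
theorem index_commutator_of_aut {X : Type u} [Group X] [Finite X] (hX : IsPGroup 2 X) (hm : Cfsg.IsMetacyclic X)
    (hna : ¬ ∀ x y : X, x * y = y * x) (β : MulAut X) (hβ : (orderOf β).Coprime 2) (hβ1 : β ≠ 1) :
    (commutator X).index = 4 := by
  haveI : Fact (Nat.Prime 2) := ⟨Nat.prime_two⟩
  have hcop : ∀ {γ : MulAut X} (n : ℕ), (orderOf γ).Coprime 2 → γ ^ 2 ^ n = 1 → γ = 1 := by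
    intro γ n h1 h2
    exact orderOf_eq_one_iff.1 (Nat.Coprime.eq_one_of_dvd (h1.pow_right n) (orderOf_dvd_of_pow_eq_one h2))
  have hCF : commutator X ≤ frattini X := Solv.commutator_le_frattini_of_pGroup hX
  have hofs : Function.Surjective (Abelianization.of : X →* Abelianization X) := QuotientGroup.mk'_surjective _
  have hAp : IsPGroup 2 (Abelianization X) := hX.of_surjective Abelianization.of hofs
  have hAm : Cfsg.IsMetacyclic (Abelianization X) := isMetacyclic_of_surjective Abelianization.of hofs hm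
  haveI : Finite (Abelianization X) := Finite.of_surjective _ hofs
  by_cases hd : ∃ n : ℕ, 0 < n ∧ Nonempty (Abelianization X ≃* Multiplicative (ZMod (2 ^ n)) × Multiplicative (ZMod (2 ^ n)))
  swap
  · exfalso
    have hpow : ∀ (k : ℕ) (x : X), ((β.abelianizationCongr : MulAut (Abelianization X)) ^ k) (Abelianization.of x) =
        Abelianization.of ((β ^ k) x) := by
      intro k x
      induction k with
      | zero => rfl
      | succ k ih =>
        rw [pow_succ', pow_succ', MulAut.mul_apply, MulAut.mul_apply, ih]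
        exact abelianizationCongr_of β _
    have hβ' : (β.abelianizationCongr : MulAut (Abelianization X)) = 1 := by
      apply odd_aut_abelian_meta hAp hAm hd
      refine Nat.Coprime.coprime_dvd_left (orderOf_dvd_of_pow_eq_one ?_) hβ
      ext y
      obtain ⟨x, rfl⟩ := hofs y
      rw [hpow, pow_orderOf_eq_one]; rfl
    obtain ⟨k, hk⟩ := S5235.pow_eq_one_of_frattini hX β (fun x => by
      apply hCF
      have h1 := hpow 1 x
      rw [pow_one, hβ', pow_one] at h1
      have h2 : Abelianization.of (β x * x⁻¹) = 1 := by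
        rw [map_mul, map_inv, ← h1]; exact mul_inv_cancel _
      rwa [← MonoidHom.mem_ker, Abelianization.ker_of] at h2)
    exact hβ1 (hcop k hβ hk)
  obtain ⟨n, hn, ⟨e⟩⟩ := hd
  have hidx : (commutator X).index = 2 ^ n * 2 ^ n := by
    show Nat.card (Abelianization X) = _
    rw [Nat.card_congr e.toEquiv, Nat.card_prod]
    show Nat.card (ZMod (2 ^ n)) * Nat.card (ZMod (2 ^ n)) = _
    rw [Nat.card_zmod]
  rcases Nat.lt_or_ge n 2 with hn2 | hn2
  · obtain rfl : n = 1 := by omega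
    rw [hidx]; norm_num
  exfalso
  have hexp : ∀ x : X, x ^ 2 ^ n ∈ commutator X := by
    intro x
    have h1 : Abelianization.of (x ^ 2 ^ n) = 1 := by
      apply e.injective
      rw [map_pow, map_pow, map_one]
      have hz : ∀ z : Multiplicative (ZMod (2 ^ n)), z ^ 2 ^ n = 1 := by
        intro z
        apply Multiplicative.toAdd.injective
        rw [toAdd_pow, toAdd_one, nsmul_eq_mul]
        rw [ZMod.natCast_self, zero_mul]
      exact Prod.ext (hz _) (hz _)
    rwa [← MonoidHom.mem_ker, Abelianization.ker_of] at h1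
  -- the commutator subgroup
  obtain ⟨⟨c, hcC⟩, hcgen⟩ := (H65.isCyclic_commutator_of_metacyclic hm).exists_generator
  have hgen : ∀ x ∈ commutator X, ∃ k : ℤ, c ^ k = x := by
    intro x hx
    obtain ⟨k, hk⟩ := hcgen ⟨x, hx⟩
    exact ⟨k, congrArg Subtype.val hk⟩
  have hc1 : c ≠ 1 := by
    rintro rfl
    apply hna
    intro x y
    obtain ⟨k, hk⟩ := hgen ⁅x, y⁆ (commutator_mem_commutator (mem_top _) (mem_top _))
    rw [one_zpow] at hk
    exact commutatorElement_eq_one_iff_mul_comm.1 hk.symm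
  have heven : ∀ k : ℤ, c ^ k ∈ zpowers (c ^ 2) → Even k := by
    intro k hk
    by_contra hodd
    rw [Int.not_even_iff_odd] at hodd
    have h1 : c ∈ zpowers (c ^ 2) := by
      have h2 := H71.mem_zpowers_of_odd hX (x := c) hodd
      exact (zpowers_le.2 hk) h2
    obtain ⟨l, hl⟩ := h1
    have h3 : c ^ (2 * l - 1) = 1 := by
      have : (c ^ 2) ^ l = c := hl
      rw [← zpow_natCast, ← zpow_mul] at this
      rw [zpow_sub, zpow_one]
      rw [show (2 : ℤ) * l = ((2 : ℕ) : ℤ) * l by push_cast; ring, this, mul_inv_cancel]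
    have h4 := H71.mem_zpowers_of_odd hX (x := c) (i := 2 * l - 1) ⟨l - 1, by ring⟩
    rw [h3, zpowers_one_eq_bot, mem_bot] at h4
    exact hc1 h4
  have heven' : ∀ k : ℤ, Even k → c ^ k ∈ zpowers (c ^ 2) := by
    rintro k ⟨l, rfl⟩
    refine ⟨l, ?_⟩
    show (c ^ 2) ^ l = _
    rw [← zpow_natCast, ← zpow_mul]; congr 1; push_cast; ring
  have hinv : ∀ f : MulAut X, ∀ x ∈ zpowers (c ^ 2), f x ∈ zpowers (c ^ 2) := by
    intro f x hx
    obtain ⟨l, rfl⟩ := hx
    obtain ⟨k, hk⟩ := hgen (f c) (by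
      have := (commutator X).characteristic_iff_map_eq
      have h2 : (commutator X).map f.toMonoidHom = commutator X :=
        Subgroup.characteristic_iff_map_eq.1 inferInstance f
      rw [← h2]
      exact ⟨c, hcC, rfl⟩)
    refine ⟨k * l, ?_⟩
    show (c ^ 2) ^ (k * l) = f ((c ^ 2) ^ l)
    rw [map_zpow, map_pow, ← hk, ← zpow_natCast, ← zpow_natCast, ← zpow_mul, ← zpow_mul, ← zpow_mul]
    congr 1; push_cast; ring
  set N : Subgroup X := zpowers (c ^ 2) with hNdef
  have hNC : N ≤ commutator X := zpowers_le.2 (pow_mem hcC 2)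
  haveI hNn : N.Normal := ⟨fun x hx g => hinv (MulAut.conj g) x hx⟩
  have hc : ∀ x y : X ⧸ N, ⁅x, y⁆ ∈ center (X ⧸ N) := by
    intro x y
    obtain ⟨x, rfl⟩ := QuotientGroup.mk_surjective x
    obtain ⟨y, rfl⟩ := QuotientGroup.mk_surjective y
    rw [mem_center_iff]
    intro g
    obtain ⟨g, rfl⟩ := QuotientGroup.mk_surjective g
    obtain ⟨k, hk⟩ := hgen ⁅x, y⁆ (commutator_mem_commutator (mem_top _) (mem_top _))
    have h1 : ⁅(x : X ⧸ N), (y : X ⧸ N)⁆ = ((c ^ k : X) : X ⧸ N) := by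
      rw [hk]; rfl
    rw [h1]
    obtain ⟨j, hj⟩ := H71.comm_eq_sq hX (a := c) (b := g) (by
      obtain ⟨k', hk'⟩ := hgen (g * c * g⁻¹) ((inferInstance : (commutator X).Normal).conj_mem c hcC g)
      exact ⟨k', hk'⟩) k
    have h2 : g * c ^ k * g⁻¹ * (c ^ k)⁻¹ ∈ N := by
      rw [hj]; exact heven' _ ⟨j, by ring⟩
    have h3 : ((g * c ^ k * g⁻¹ * (c ^ k)⁻¹ : X) : X ⧸ N) = 1 := (QuotientGroup.eq_one_iff _).2 h2
    rw [QuotientGroup.mk_mul, QuotientGroup.mk_mul, QuotientGroup.mk_mul, QuotientGroup.mk_inv, QuotientGroup.mk_inv,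
      mul_inv_eq_one, mul_inv_eq_iff_eq_mul] at h3
    exact h3
  have hc2 : ∀ x y : X ⧸ N, ⁅x, y⁆ ^ 2 = 1 := by
    intro x y
    obtain ⟨x, rfl⟩ := QuotientGroup.mk_surjective x
    obtain ⟨y, rfl⟩ := QuotientGroup.mk_surjective y
    obtain ⟨k, hk⟩ := hgen ⁅x, y⁆ (commutator_mem_commutator (mem_top _) (mem_top _))
    have h1 : ⁅(x : X ⧸ N), (y : X ⧸ N)⁆ = ((c ^ k : X) : X ⧸ N) := by
      rw [hk]; rfl
    rw [h1, ← QuotientGroup.mk_pow, QuotientGroup.eq_one_iff, ← zpow_natCast, ← zpow_mul]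
    exact heven' _ ⟨k, by push_cast; ring⟩
  let φ : (X ⧸ N) →* (X ⧸ N) := MonoidHom.mk' (fun y => y ^ 2 ^ n) (pow_two_pow_mul hc hc2 hn2)
  let K : Subgroup X := (φ.comp (QuotientGroup.mk' N)).ker
  have hmK : ∀ x, x ∈ K ↔ x ^ 2 ^ n ∈ N := by
    intro x
    rw [← QuotientGroup.eq_one_iff (x ^ 2 ^ n), QuotientGroup.mk_pow]; rfl
  have hK1 : K ≠ ⊤ := by
    intro hK
    have hall : ∀ x : X, x ^ 2 ^ n ∈ N := fun x => (hmK x).1 (by rw [hK]; trivial)
    obtain ⟨A, hA, hAc, hQc⟩ := hm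
    have hCA : commutator X ≤ A := H65.commutator_le_of_metacyclic hQc
    have h1 : (N.subgroupOf A).index ≤ 2 ^ n := H65.index_le_of_cyclic hAc _ (by positivity) (fun a => by
      rw [mem_subgroupOf]; exact hall _)
    have h2 : (⊥ : Subgroup (X ⧸ A)).index ≤ 2 ^ n := H65.index_le_of_cyclic hQc _ (by positivity) (fun a => by
      obtain ⟨a, rfl⟩ := QuotientGroup.mk_surjective a
      rw [mem_bot, ← QuotientGroup.mk_pow, QuotientGroup.eq_one_iff]
      exact hCA (hexp a))
    rw [index_bot] at h2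
    have h3 : N.relIndex A * A.index = N.index := relIndex_mul_index (hNC.trans hCA)
    have h4 : N.relIndex (commutator X) * (commutator X).index = N.index := relIndex_mul_index hNC
    have h5 : N.relIndex (commutator X) ≠ 1 := by
      intro h
      rw [relIndex_eq_one] at h
      have h6 := heven 1 (by rw [zpow_one]; exact h hcC)
      exact absurd h6 (by decide)
    have h6 : N.relIndex (commutator X) ≠ 0 := (N.subgroupOf (commutator X)).index_ne_zero_of_finite
    have h7 : N.relIndex A * A.index ≤ 2 ^ n * 2 ^ n := Nat.mul_le_mul h1 h2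
    rw [h3, ← h4, hidx] at h7
    have h8 : 0 < 2 ^ n * 2 ^ n := by positivity
    have h9 : 2 ≤ N.relIndex (commutator X) := by omega
    have h10 := Nat.mul_le_mul_right (2 ^ n * 2 ^ n) h9
    omega
  -- index two
  have hKidx : K.index = 2 := by
    obtain ⟨x0, hx0⟩ : ∃ x0, x0 ∉ K := by
      by_contra hcon
      push Not at hcon
      exact hK1 (eq_top_iff.2 fun x _ => hcon x)
    rw [index_eq_two_iff]
    refine ⟨x0, fun b => ?_⟩
    have hne : ∀ x : X, ¬ x ∈ K → ∃ k : ℤ, Odd k ∧ x ^ 2 ^ n = c ^ k := by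
      intro x hx
      obtain ⟨k, hk⟩ := hgen _ (hexp x)
      refine ⟨k, ?_, hk.symm⟩
      rw [← Int.not_even_iff_odd]
      intro he
      exact hx ((hmK x).2 (by rw [← hk]; exact heven' k he))
    by_cases hb : b ∈ K
    · exact Or.inr ⟨hb, fun h => hx0 ((mul_mem_cancel_left hb).1 h)⟩
    · refine Or.inl ⟨?_, hb⟩
      obtain ⟨k, hk, hk'⟩ := hne b hb
      obtain ⟨l, hl, hl'⟩ := hne x0 hx0
      show (φ.comp (QuotientGroup.mk' N)) (b * x0) = 1
      rw [map_mul]
      show ((b : X ⧸ N)) ^ 2 ^ n * (x0 : X ⧸ N) ^ 2 ^ n = 1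
      rw [← QuotientGroup.mk_pow, ← QuotientGroup.mk_pow, hk', hl', ← QuotientGroup.mk_mul, ← zpow_add,
        QuotientGroup.eq_one_iff]
      exact heven' _ (hk.add_odd hl)
  have hβK : ∀ x ∈ K, β x ∈ K := by
    intro x hx
    rw [hmK, ← map_pow]
    exact hinv β _ ((hmK x).1 hx)
  have hF4 := H71.index_frattini_le hX hm
  have hKF : ¬ K ≤ frattini X := by
    intro hle
    obtain ⟨y, hy⟩ : ∃ y, y ∉ K := by
      by_contra hcon
      push Not at hcon
      exact hK1 (eq_top_iff.2 fun x _ => hcon x)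
    have h1 : zpowers y ⊔ frattini X = ⊤ := by
      rw [eq_top_iff]
      intro x _
      by_cases hx : x ∈ K
      · exact (le_sup_right : frattini X ≤ _) (hle hx)
      · have h2 : x * y⁻¹ ∈ K := by
          rw [mul_mem_iff_of_index_two hKidx]
          simp [hx, hy]
        have h3 := mul_mem ((le_sup_right : frattini X ≤ zpowers y ⊔ frattini X) (hle h2))
          ((le_sup_left : zpowers y ≤ zpowers y ⊔ frattini X) (mem_zpowers y))
        simpa using h3
    have h2 := frattini_nongenerating h1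
    apply hna
    intro a b
    obtain ⟨i, rfl⟩ := (h2 ▸ mem_top a : a ∈ zpowers y)
    obtain ⟨j, rfl⟩ := (h2 ▸ mem_top b : b ∈ zpowers y)
    exact zpow_mul_comm y i j
  obtain ⟨x1, hx1K, hx1F⟩ := SetLike.not_le_iff_exists.1 hKF
  have hβF : β x1 ∉ frattini X := fun h => hx1F ((H71.frattini_equiv β x1).1 h)
  have hβx : β x1 * x1⁻¹ ∈ frattini X := by
    by_contra hcon
    have h1 := H71.closure_pair_eq_top hF4 hx1F hβF hcon
    apply hK1
    rw [eq_top_iff, ← h1, closure_le]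
    rintro z (rfl | rfl)
    · exact hx1K
    · exact hβK _ hx1K
  have h2 := H71.sq_trivial_of_fix hX hF4 β x1 hx1F hβx
  obtain ⟨k, hk⟩ := S5235.pow_eq_one_of_frattini hX (β ^ 2) (fun y => by rw [pow_two]; exact h2 y)
  rw [← pow_mul, ← pow_succ'] at hk
  exact hβ1 (hcop _ hβ hk)

/-- a non-`p`-group has a nontrivial element of order prime to `p` -/
theorem exists_coprime_ne_one {G : Type*} [Group G] [Finite G] {p : ℕ} [Fact p.Prime] (h : ¬ IsPGroup p G) :
    ∃ g : G, (orderOf g).Coprime p ∧ g ≠ 1 := by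
  by_contra hcon
  push Not at hcon
  apply h
  rw [IsPGroup.iff_card]
  refine ⟨(Nat.card G).factorization p, ?_⟩
  apply Nat.eq_of_factorization_eq Nat.card_pos.ne' (pow_ne_zero _ (Fact.out : p.Prime).ne_zero)
  intro q
  rw [Nat.Prime.factorization_pow Fact.out, Finsupp.single_apply]
  split_ifs with hq
  · rw [hq]
  · by_cases hqp : q.Prime
    · haveI : Fact q.Prime := ⟨hqp⟩
      apply Nat.factorization_eq_zero_of_not_dvd
      intro hd
      obtain ⟨g, hg⟩ := exists_prime_orderOf_dvd_card' q hd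
      have h1 := hcon g (by rw [hg]; exact (Nat.coprime_primes hqp Fact.out).2 (Ne.symm hq))
      rw [h1, orderOf_one] at hg
      exact hqp.one_lt.ne hg
    · exact Nat.factorization_eq_zero_of_not_prime _ hqp

theorem meta_two_aut {X : Type u} [Group X] [Finite X] (hX : IsPGroup 2 X)
    (hm : Cfsg.IsMetacyclic X) (hA : ¬ IsPGroup 2 (MulAut X)) :
    (Nonempty (X ≃* QuaternionGroup 2) ∧ (commutator X).index = 4 ∧ ¬ IsMulCommutative X) ∨
      ∃ n : ℕ, 0 < n ∧ Nonempty (X ≃* Multiplicative (ZMod (2 ^ n)) × Multiplicative (ZMod (2 ^ n))) := by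
  haveI : Fact (Nat.Prime 2) := ⟨Nat.prime_two⟩
  obtain ⟨β, hβ, hβ1⟩ := exists_coprime_ne_one hA
  by_cases hab : ∀ x y : X, x * y = y * x
  · right
    by_contra hd
    letI : CommGroup X := { (inferInstance : Group X) with mul_comm := hab }
    exact hβ1 (odd_aut_abelian_meta hX hm hd β hβ)
  · left
    have h1 := index_commutator_of_aut hX hm hab β hβ hβ1
    have h2 : ¬ IsMulCommutative X := fun h => hab (fun x y => h.is_comm.comm x y)
    exact ⟨S4189.result hX h2 h1 hA, h1, h2⟩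

end Cfsg.Agent.H72

namespace Cfsg.Agent.H72

open Cfsg Cfsg.FusionSystem Cfsg.Agent.Fus Subgroup

theorem isPGroup_autGroup_of_normal {Ω : Type*} [Group Ω] {S : Subgroup Ω} [Finite S] {p : ℕ} {F : FusionSystem S}
    (hn : F.IsNormal S) (hA : IsPGroup p (MulAut S)) {P : Subgroup Ω} (hP : P ≤ S) : IsPGroup p (F.autGroup P) := by
  rintro ⟨α, hα⟩
  obtain ⟨g, hg, hgP, hgS⟩ := (isNormal_iff_isMap.1 hn).2 P (ofAut α) (isMap_ofAut hP hα)
  have hg' : IsMap F S g := hg.mono le_sup_right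
  obtain ⟨k, hk⟩ := hA (hg'.aut hgS)
  refine ⟨k, Subtype.ext ?_⟩
  show α ^ p ^ k = 1
  have h1 := S5235.pow_restrict hP (κ := hg'.aut hgS) (β := α) (fun x hx => by
    rw [hg'.ofAut_aut hgS (hP hx), hgP x hx]) (p ^ k)
  apply ofAut_injective
  intro x hx
  rw [h1 x hx, hk, ofAut_one (hP hx), ofAut_one hx]

end Cfsg.Agent.H72
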