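import Cfsg.Agent.H72.SylRank2
import Cfsg.Agent.H81.SL2Elt

set_option autoImplicit false

/-!
# Sylow 2-subgroups of `GL₂(q)`, `q` odd: elements
-/

namespace Cfsg.Agent.H72

open Matrix

theorem fac_of_mod_four_one {q : ℕ} (h : q % 4 = 1) (hq : 1 < q) :
    q.factorization 2 = 0 ∧ (q + 1).factorization 2 = 1 ∧ 2 ≤ (q - 1).factorization 2 := by
  have hdvd : ∀ m n : ℕ, m ≠ 0 → (2 ^ n ∣ m ↔ n ≤ m.factorization 2) := fun m n hm =>
    Nat.Prime.pow_dvd_iff_le_factorization Nat.prime_two hm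
  refine ⟨Nat.factorization_eq_zero_of_not_dvd (by omega), ?_, ?_⟩
  · apply le_antisymm
    · by_contra hc
      obtain ⟨m, hm⟩ := (hdvd (q + 1) 2 (by omega)).2 (by omega)
      omega
    · exact (hdvd (q + 1) 1 (by omega)).1 ⟨(q + 1) / 2, by omega⟩
  · exact (hdvd (q - 1) 2 (by omega)).1 ⟨(q - 1) / 4, by omega⟩

theorem fac_of_mod_four_three {q : ℕ} (h : q % 4 = 3) :
    q.factorization 2 = 0 ∧ (q - 1).factorization 2 = 1 ∧ 2 ≤ (q + 1).factorization 2 := by
  have hdvd : ∀ m n : ℕ, m ≠ 0 → (2 ^ n ∣ m ↔ n ≤ m.factorization 2) := fun m n hm =>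
    Nat.Prime.pow_dvd_iff_le_factorization Nat.prime_two hm
  refine ⟨Nat.factorization_eq_zero_of_not_dvd (by omega), ?_, ?_⟩
  · apply le_antisymm
    · by_contra hc
      obtain ⟨m, hm⟩ := (hdvd (q - 1) 2 (by omega)).2 (by omega)
      omega
    · exact (hdvd (q - 1) 1 (by omega)).1 ⟨(q - 1) / 2, by omega⟩
  · exact (hdvd (q + 1) 2 (by omega)).1 ⟨(q + 1) / 4, by omega⟩

theorem exists_odd_part {m : ℕ} (hm : m ≠ 0) : ∃ k, Odd k ∧ m = 2 ^ m.factorization 2 * k := by
  refine ⟨m / 2 ^ m.factorization 2, ?_, ?_⟩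
  · rw [← Nat.not_even_iff_odd, even_iff_two_dvd]
    exact Nat.not_dvd_ordCompl Nat.prime_two hm
  · exact (Nat.ordProj_mul_ordCompl_eq_self m 2).symm

theorem mulVec_pow_of_eigen {K : Type*} [Field K] {x : Matrix (Fin 2) (Fin 2) K} {v : Fin 2 → K} {a : K}
    (hv : x *ᵥ v = a • v) (m : ℕ) : (x ^ m) *ᵥ v = a ^ m • v := by
  induction m with
  | zero => simp
  | succ m ih => rw [pow_succ', ← Matrix.mulVec_mulVec, ih, Matrix.mulVec_smul, hv, pow_succ, smul_smul]

theorem pow_eq_neg_one_of_eigen {K : Type*} [Field K] {x : Matrix (Fin 2) (Fin 2) K} {v w : Fin 2 → K} {a b : K}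
    (h : v 0 * w 1 - w 0 * v 1 ≠ 0) (hv : x *ᵥ v = a • v) (hw : x *ᵥ w = b • w) {m : ℕ} (ha : a ^ m = -1)
    (hb : b ^ m = -1) : x ^ m = -1 := by
  have : -(x ^ m) = 1 := by
    apply H81.eq_one_of_fix_two h
    · rw [Matrix.neg_mulVec, mulVec_pow_of_eigen hv, ha, neg_one_smul, neg_neg]
    · rw [Matrix.neg_mulVec, mulVec_pow_of_eigen hw, hb, neg_one_smul, neg_neg]
  rw [← this, neg_neg]

/-- an element of given order dividing the order of a cyclic group. -/
theorem exists_orderOf_eq {G : Type*} [Group G] [Finite G] [IsCyclic G] {n : ℕ} (hn : n ∣ Nat.card G) :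
    ∃ g : G, orderOf g = n := by
  obtain ⟨g, hg⟩ := IsCyclic.exists_ofOrder_eq_natCard (α := G)
  obtain ⟨k, hk⟩ := hn
  have hk0 : k ≠ 0 := by
    rintro rfl
    rw [mul_zero] at hk
    exact Nat.card_pos.ne' hk
  refine ⟨g ^ k, ?_⟩
  rw [orderOf_pow_of_dvd hk0 (by rw [hg, hk]; exact Dvd.intro_left _ rfl), hg, hk, Nat.mul_div_cancel _ (Nat.pos_of_ne_zero hk0)]

section
variable {F : Type*} [Field F] [Fintype F]

theorem card_GL2 : Nat.card (GL (Fin 2) F) =
    Fintype.card F * ((Fintype.card F - 1) * ((Fintype.card F - 1) * (Fintype.card F + 1))) := by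
  have h := Matrix.card_GL_field (𝔽 := F) 2
  rw [Fin.prod_univ_two] at h
  simp only [Fin.coe_ofNat_eq_mod, Nat.zero_mod, pow_zero, Nat.one_mod, pow_one] at h
  rw [h]
  have hq : 1 < Fintype.card F := Fintype.one_lt_card
  obtain ⟨k, hk⟩ : ∃ k, Fintype.card F = k + 2 := ⟨Fintype.card F - 2, by omega⟩
  rw [hk]
  have e1 : (k + 2) ^ 2 - 1 = (k + 3) * (k + 1) := by
    zify [Nat.one_le_pow 2 (k+2) (by omega)]
    ring
  have e2 : (k + 2) ^ 2 - (k + 2) = (k + 2) * (k + 1) := by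
    zify [Nat.le_self_pow (two_ne_zero) (k+2)]
    ring
  have e3 : k + 2 - 1 = k + 1 := by omega
  rw [e1, e2, e3]
  ring

theorem fac_card_GL2 (hq : Fintype.card F % 2 = 1) : (Nat.card (GL (Fin 2) F)).factorization 2 =
    2 * (Fintype.card F - 1).factorization 2 + (Fintype.card F + 1).factorization 2 := by
  have hq1 : 1 < Fintype.card F := Fintype.one_lt_card
  have h1 : Fintype.card F - 1 ≠ 0 := by omega
  rw [card_GL2, Nat.factorization_mul (by omega) (by positivity), Nat.factorization_mul (by omega) (by positivity),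
    Nat.factorization_mul (by omega) (by positivity)]
  simp only [Finsupp.add_apply]
  rw [Nat.factorization_eq_zero_of_not_dvd (n := Fintype.card F) (p := 2) (by omega)]
  ring

/-- `q ≡ 3 mod 4`: elements generating a quasi-dihedral group. -/
theorem exists_qd_elements (hq : Fintype.card F % 4 = 3) : ∃ x y : GL (Fin 2) F,
    orderOf x = 2 ^ ((Fintype.card F + 1).factorization 2 + 1) ∧ orderOf y = 2 ∧
    y * x * y⁻¹ = x ^ (2 ^ (Fintype.card F + 1).factorization 2 - 1) := by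
  have hodd : Odd (Fintype.card F) := by rw [Nat.odd_iff]; omega
  have h2 : (2 : F) ≠ 0 := H81.two_ne_zero_of_odd hodd
  have hneg : (-1 : F) ≠ 1 := by
    intro h
    apply h2
    linear_combination -h
  set a := (Fintype.card F + 1).factorization 2 with ha
  obtain ⟨-, -, ha2⟩ := fac_of_mod_four_three hq
  obtain ⟨k, hk, hka⟩ := exists_odd_part (m := Fintype.card F + 1) (by omega)
  rw [← ha] at hka ha2
  let K := AlgebraicClosure F
  have h2K : (2 : K) ≠ 0 := by
    intro h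
    apply h2
    apply (algebraMap F K).injective
    rw [map_zero, ← h, map_ofNat]
  have : NeZero ((2 ^ (a + 1) : ℕ) : K) := ⟨by rw [Nat.cast_pow, Nat.cast_ofNat]; exact pow_ne_zero _ h2K⟩
  obtain ⟨ζ, hζ⟩ := HasEnoughRootsOfUnity.exists_primitiveRoot K (2 ^ (a + 1))
  have hζ0 : ζ ≠ 0 := hζ.ne_zero (by positivity)
  have hζa : ζ ^ (2 ^ a) = -1 := by
    have h1 : (ζ ^ (2 ^ a)) ^ 2 = 1 := by rw [← pow_mul, ← pow_succ]; exact hζ.pow_eq_one
    rw [pow_two] at h1
    rcases mul_self_eq_one_iff.mp h1 with h | h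
    · exfalso
      have h3 := (hζ.pow_eq_one_iff_dvd _).mp h
      have := (Nat.pow_dvd_pow_iff_le_right (by norm_num : 1 < 2)).mp h3
      omega
    · exact h
  have hζq : ζ ^ (Fintype.card F + 1) = -1 := by
    rw [hka, pow_mul, hζa, hk.neg_one_pow]
  have hζi : ζ * ζ⁻¹ = 1 := mul_inv_cancel₀ hζ0
  have hζq' : ζ ^ Fintype.card F = -ζ⁻¹ := by
    rw [pow_succ] at hζq
    calc ζ ^ Fintype.card F = ζ ^ Fintype.card F * ζ * ζ⁻¹ := by rw [mul_assoc, hζi, mul_one]
      _ = -ζ⁻¹ := by rw [hζq, neg_one_mul]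
  obtain ⟨p, hpch⟩ := CharP.exists F
  have hp : Fact p.Prime := ⟨CharP.char_is_prime F p⟩
  have hpK : CharP K p := charP_of_injective_algebraMap (algebraMap F K).injective p
  obtain ⟨f, _, hf⟩ := FiniteField.card F p
  have ht : (ζ - ζ⁻¹) ^ Fintype.card F = ζ - ζ⁻¹ := by
    rw [hf, sub_pow_char_pow, ← hf, inv_pow, hζq']
    rw [inv_neg, inv_inv]
    ring
  obtain ⟨t, ht'⟩ := H81.mem_range_of_pow_card (ζ - ζ⁻¹) ht
  let X : GL (Fin 2) F := ⟨!![0, 1; 1, t], !![-t, 1; 1, 0], by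
    ext i j; fin_cases i <;> fin_cases j <;> simp [Matrix.mul_apply, Fin.sum_univ_two], by
    ext i j; fin_cases i <;> fin_cases j <;> simp [Matrix.mul_apply, Fin.sum_univ_two]⟩
  let Y : GL (Fin 2) F := ⟨!![1, t; 0, -1], !![1, t; 0, -1], by
    ext i j; fin_cases i <;> fin_cases j <;> simp [Matrix.mul_apply, Fin.sum_univ_two], by
    ext i j; fin_cases i <;> fin_cases j <;> simp [Matrix.mul_apply, Fin.sum_univ_two]⟩
  have hXa : X ^ (2 ^ a) = -1 := by
    apply Units.ext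
    rw [Units.val_pow_eq_pow_val]
    have h1 : (!![0, 1; 1, algebraMap F K t] : Matrix (Fin 2) (Fin 2) K) ^ (2 ^ a) = -1 := by
      rw [ht']
      apply pow_eq_neg_one_of_eigen (v := ![1, ζ]) (w := ![1, -ζ⁻¹]) (a := ζ) (b := -ζ⁻¹)
      · simp only [Matrix.cons_val_zero, Matrix.cons_val_one, one_mul]
        intro h
        have h3 : ζ ^ 2 = -1 := by
          have : ζ * (-ζ⁻¹ - ζ) = 0 := by rw [h, mul_zero]
          rw [mul_sub, mul_neg, mul_inv_cancel₀ hζ0] at this
          linear_combination -this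
        have h4 : ζ ^ 4 = 1 := by
          calc ζ ^ 4 = (ζ ^ 2) ^ 2 := by ring
            _ = 1 := by rw [h3]; ring
        have h5 := Nat.le_of_dvd (by norm_num) ((hζ.pow_eq_one_iff_dvd 4).1 h4)
        have h6 : 2 ^ 3 ≤ 2 ^ (a + 1) := Nat.pow_le_pow_right (by norm_num) (by omega)
        omega
      · ext i
        fin_cases i
        · simp [Matrix.mulVec, dotProduct, Fin.sum_univ_two]
        · simp [Matrix.mulVec, dotProduct, Fin.sum_univ_two]
          linear_combination -hζi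
      · ext i
        fin_cases i
        · simp [Matrix.mulVec, dotProduct, Fin.sum_univ_two]
        · simp [Matrix.mulVec, dotProduct, Fin.sum_univ_two]
          linear_combination -hζi
      · exact hζa
      · rw [neg_pow, inv_pow, hζa]
        have : Even (2 ^ a) := (Nat.even_pow.mpr ⟨even_two, by omega⟩)
        rw [this.neg_one_pow]
        norm_num
    refine Matrix.map_injective (algebraMap F K).injective ?_
    show (algebraMap F K).mapMatrix ((X : Matrix (Fin 2) (Fin 2) F) ^ 2 ^ a) =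
      (algebraMap F K).mapMatrix ((-1 : GL (Fin 2) F) : Matrix (Fin 2) (Fin 2) F)
    rw [map_pow]
    have h2 : (algebraMap F K).mapMatrix (X : Matrix (Fin 2) (Fin 2) F) = !![0, 1; 1, algebraMap F K t] := by
      ext i j; fin_cases i <;> fin_cases j <;> simp [X]
    rw [h2, h1]
    symm
    show (algebraMap F K).mapMatrix (-1 : Matrix (Fin 2) (Fin 2) F) = -1
    rw [map_neg, map_one]
  have hX1 : X ^ (2 ^ a - 1) = -X⁻¹ := by
    have h1 : X ^ (2 ^ a - 1) * X = -1 := by
      rw [← pow_succ, Nat.sub_add_cancel Nat.one_le_two_pow, hXa]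
    rw [eq_mul_inv_of_mul_eq h1, neg_one_mul]
  refine ⟨X, Y, ?_, ?_, ?_⟩
  · apply orderOf_eq_prime_pow
    · rw [hXa]
      intro h
      have h1 := congrArg (fun g : GL (Fin 2) F => (g : Matrix (Fin 2) (Fin 2) F) 0 0) h
      simp at h1
      exact hneg h1
    · rw [pow_succ, pow_mul, hXa]
      simp
  · apply orderOf_eq_prime
    · apply Units.ext
      rw [pow_two]
      ext i j; fin_cases i <;> fin_cases j <;> simp [Y, Matrix.mul_apply, Fin.sum_univ_two]
    · intro h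
      have h1 := congrArg (fun g : GL (Fin 2) F => (g : Matrix (Fin 2) (Fin 2) F) 1 1) h
      simp [Y] at h1
      exact hneg h1
  · rw [hX1, mul_inv_eq_iff_eq_mul]
    apply Units.ext
    ext i j; fin_cases i <;> fin_cases j <;> simp [X, Y, Matrix.mul_apply, Fin.sum_univ_two] <;> ring

/-- `q ≡ 1 mod 4`: elements generating a wreathed group. -/
theorem exists_wr_elements {a : ℕ} (ha : 2 ^ a ∣ Fintype.card F - 1) : ∃ x y z : GL (Fin 2) F,
    orderOf x = 2 ^ a ∧ x * y = y * x ∧ Subgroup.zpowers x ⊓ Subgroup.zpowers y = ⊥ ∧ orderOf z = 2 ∧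
      z * x * z⁻¹ = y := by
  classical
  obtain ⟨ζ, hζ⟩ := exists_orderOf_eq (G := Fˣ) (n := 2 ^ a) (by
    rw [Nat.card_units, Nat.card_eq_fintype_card]; exact ha)
  let D : Fˣ → Fˣ → GL (Fin 2) F := fun u v => ⟨!![(u : F), 0; 0, (v : F)], !![((u⁻¹ : Fˣ) : F), 0; 0, ((v⁻¹ : Fˣ) : F)], by
    ext i j; fin_cases i <;> fin_cases j <;> simp [Matrix.mul_apply, Fin.sum_univ_two], by
    ext i j; fin_cases i <;> fin_cases j <;> simp [Matrix.mul_apply, Fin.sum_univ_two]⟩
  let Z : GL (Fin 2) F := ⟨!![0, 1; 1, 0], !![0, 1; 1, 0], by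
    ext i j; fin_cases i <;> fin_cases j <;> simp [Matrix.mul_apply, Fin.sum_univ_two], by
    ext i j; fin_cases i <;> fin_cases j <;> simp [Matrix.mul_apply, Fin.sum_univ_two]⟩
  let φ : Fˣ × Fˣ →* GL (Fin 2) F := MonoidHom.mk' (fun w => D w.1 w.2) (by
    rintro ⟨u, v⟩ ⟨u', v'⟩
    apply Units.ext
    ext i j; fin_cases i <;> fin_cases j <;> simp [D, Matrix.mul_apply, Fin.sum_univ_two])
  have hφ : Function.Injective φ := by
    rw [injective_iff_map_eq_one]
    rintro ⟨u, v⟩ h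
    have h1 := congrArg (fun g : GL (Fin 2) F => (g : Matrix (Fin 2) (Fin 2) F) 0 0) h
    have h2 := congrArg (fun g : GL (Fin 2) F => (g : Matrix (Fin 2) (Fin 2) F) 1 1) h
    simp [φ, D] at h1 h2
    rw [h1, h2]; rfl
  refine ⟨φ (ζ, 1), φ (1, ζ), Z, ?_, ?_, ?_, ?_, ?_⟩
  · have h1 := orderOf_injective φ hφ (ζ, 1)
    rw [h1, Prod.orderOf_mk, hζ, orderOf_one, Nat.lcm_one_right]
  · have h1 : ((ζ, 1) : Fˣ × Fˣ) * (1, ζ) = (1, ζ) * (ζ, 1) := mul_comm _ _
    have h2 := congrArg φ h1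
    rw [map_mul, map_mul] at h2
    exact h2
  · rw [eq_bot_iff]
    rintro w ⟨h1, h2⟩
    obtain ⟨k, hk⟩ := Subgroup.mem_zpowers_iff.mp h1
    obtain ⟨l, hl⟩ := Subgroup.mem_zpowers_iff.mp h2
    rw [← map_zpow] at hk hl
    have h3 := hφ (hk.trans hl.symm)
    have h4 : ζ ^ k = 1 := by
      have := congrArg Prod.fst h3
      simpa using this
    rw [Subgroup.mem_bot, ← hk]
    have : ((ζ, 1) : Fˣ × Fˣ) ^ k = 1 := by
      apply Prod.ext
      · simpa using h4
      · simp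
    rw [this, map_one]
  · apply orderOf_eq_prime
    · apply Units.ext
      rw [pow_two]
      ext i j; fin_cases i <;> fin_cases j <;> simp [Z, Matrix.mul_apply, Fin.sum_univ_two]
    · intro h
      have h1 := congrArg (fun g : GL (Fin 2) F => (g : Matrix (Fin 2) (Fin 2) F) 0 1) h
      simp [Z] at h1
  · rw [mul_inv_eq_iff_eq_mul]
    apply Units.ext
    rw [Units.val_mul, Units.val_mul]
    show (!![0, 1; 1, 0] : Matrix (Fin 2) (Fin 2) F) * !![(ζ : F), 0; 0, ((1 : Fˣ) : F)] =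
      !![((1 : Fˣ) : F), 0; 0, (ζ : F)] * !![0, 1; 1, 0]
    rw [Matrix.mul_fin_two, Matrix.mul_fin_two]
    simp

theorem sylow_GL2 (P : Sylow 2 (GL (Fin 2) F)) :
    (Fintype.card F % 4 = 3 → Cfsg.IsQuasiDihedral (P : Subgroup (GL (Fin 2) F))) ∧
    (Fintype.card F % 4 = 1 → Cfsg.IsWreathed (P : Subgroup (GL (Fin 2) F))) := by
  have : Fact (Nat.Prime 2) := ⟨Nat.prime_two⟩
  have hq1 : 1 < Fintype.card F := Fintype.one_lt_card
  constructor
  · intro hq
    obtain ⟨x, y, hx, hy, hxy⟩ := exists_qd_elements hq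
    obtain ⟨-, h1, h2⟩ := fac_of_mod_four_three hq
    refine isQuasiDihedral_of_elements P (n := (Fintype.card F + 1).factorization 2 + 1) (by omega) ?_ x y hx hy
      (by rw [Nat.add_sub_cancel]; exact hxy)
    rw [P.card_eq_multiplicity, fac_card_GL2 (by omega), h1]
    congr 1
    omega
  · intro hq
    obtain ⟨-, h1, h2⟩ := fac_of_mod_four_one hq hq1
    obtain ⟨x, y, z, hx, hxy, hinf, hz, hzx⟩ := exists_wr_elements (F := F)
      (a := (Fintype.card F - 1).factorization 2) (Nat.ordProj_dvd _ _)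
    refine isWreathed_of_elements P h2 ?_ x y z hx hxy hinf hz hzx
    rw [P.card_eq_multiplicity, fac_card_GL2 (by omega), h1]

end

end Cfsg.Agent.H72
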