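import Cfsg.Agent.H72.KazBlock
import Cfsg.Agent.H72.Basic
import Cfsg.Agent.H72.ClassSize
import Cfsg.Agent.Solv.MinNormal
import Cfsg.Agent.S0144

/-!
Kazarin's theorem: an element whose class size is a power of a prime `p` lies in a normal solvable
subgroup; conjugates commute modulo `O_p(G)`.
-/

set_option autoImplicit false

namespace Cfsg.Agent.H72

open Cfsg Subgroup

universe u

/-- the join of a solvable subgroup and a solvable normal subgroup is solvable -/
theorem isSolvable_sup_of_normal {G : Type u} [Group G] (H K : Subgroup G) [K.Normal]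
    (hH : Group.IsSolvable H) (hK : Group.IsSolvable K) : Group.IsSolvable ↥(H ⊔ K) := by
  have h1 : Group.IsSolvable ↥(H.map (QuotientGroup.mk' K)) :=
    Group.isSolvable_of_surjective ((QuotientGroup.mk' K).subgroupMap_surjective H)
  have h2 : (H ⊔ K).map (QuotientGroup.mk' K) = H.map (QuotientGroup.mk' K) := by
    rw [Subgroup.map_sup, QuotientGroup.map_mk'_self, sup_bot_eq]
  have h3 : Group.IsSolvable ↥((H ⊔ K).map (QuotientGroup.mk' K)) := by rw [h2]; exact h1
  refine Group.isSolvable_of_ker_le_range (Subgroup.inclusion (le_sup_right : K ≤ H ⊔ K))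
    ((QuotientGroup.mk' K).subgroupMap (H ⊔ K)) ?_
  rintro ⟨x, hx⟩ hk
  have h4 : (QuotientGroup.mk' K) x = 1 := congrArg Subtype.val hk
  have hxK : x ∈ K := (QuotientGroup.eq_one_iff x).1 h4
  exact ⟨⟨x, hxK⟩, rfl⟩

/-- the solvable radical of a finite group -/
theorem exists_solvable_radical (G : Type u) [Group G] [Finite G] :
    ∃ R : Subgroup G, R.Normal ∧ Group.IsSolvable R ∧
      ∀ M : Subgroup G, M.Normal → Group.IsSolvable M → M ≤ R := by
  set S : Set (Subgroup G) := {M | M.Normal ∧ Group.IsSolvable M} with hS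
  have hne : S.Nonempty := ⟨⊥, inferInstance, inferInstance⟩
  have hmem := Solv.sSup_mem_of_sup_closed S hne (fun A hA B hB => by
    have := hA.1
    have := hB.1
    exact ⟨inferInstance, isSolvable_sup_of_normal A B hA.2 hB.2⟩)
  exact ⟨sSup S, hmem.1, hmem.2, fun M h1 h2 => le_sSup ⟨h1, h2⟩⟩

/-- a solvable normal subgroup of a normal subgroup lies in a solvable normal subgroup -/
theorem exists_solvable_normal_of_normal {G : Type u} [Group G] [Finite G] (N : Subgroup G) [N.Normal]
    (M : Subgroup N) (hM : M.Normal) (hMs : Group.IsSolvable M) :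
    ∃ R : Subgroup G, R.Normal ∧ Group.IsSolvable R ∧ M.map N.subtype ≤ R := by
  obtain ⟨R, hR, hRs, hmax⟩ := exists_solvable_radical N
  have hchar : R.Characteristic := by
    rw [Subgroup.characteristic_iff_map_le]
    intro ϕ
    apply hmax
    · exact hR.map _ ϕ.surjective
    · exact Group.isSolvable_of_surjective (ϕ.toMonoidHom.subgroupMap_surjective R)
  refine ⟨R.map N.subtype, inferInstance, ?_, Subgroup.map_mono (hmax M hM hMs)⟩
  exact Group.isSolvable_of_surjective (N.subtype.subgroupMap_surjective R)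

theorem exists_eq_pow_mul_pow {p q n : ℕ} (hn : n ≠ 0) (hp : p.Prime)
    (h : ∀ r : ℕ, r.Prime → r ∣ n → r = p ∨ r = q) : ∃ a b : ℕ, n = p ^ a * q ^ b := by
  obtain ⟨a, m, hm, rfl⟩ := Nat.exists_eq_pow_mul_and_not_dvd hn p hp.ne_one
  have hm0 : m ≠ 0 := by rintro rfl; exact hn (by simp)
  refine ⟨a, m.primeFactorsList.length, ?_⟩
  congr 1
  apply Nat.eq_prime_pow_of_unique_prime_dvd hm0
  intro d hd hdm
  rcases h d hd (hdm.mul_left _) with rfl | rfl
  · exact absurd hdm hm
  · rfl

theorem index_centralizer_subgroupOf {G : Type u} [Group G] (N : Subgroup G) (x : N) :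
    (Subgroup.centralizer ({x} : Set N)).index = (Subgroup.centralizer ({(x : G)} : Set G)).relIndex N := by
  unfold Subgroup.relIndex
  congr 1
  ext g
  rw [Subgroup.mem_subgroupOf, Subgroup.mem_centralizer_singleton_iff,
    Subgroup.mem_centralizer_singleton_iff, Subtype.ext_iff]
  rfl

theorem kaz_aux {p q : ℕ} (hp : p.Prime) (hq : q.Prime) (n : ℕ) :
    ∀ (G : Type u) [Group G] [Finite G], Nat.card G = n → ∀ (x : G) (k a : ℕ), orderOf x = q ^ k →
      (Subgroup.centralizer ({x} : Set G)).index = p ^ a →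
      ∃ R : Subgroup G, R.Normal ∧ Group.IsSolvable R ∧ x ∈ R := by
  induction n using Nat.strong_induction_on with
  | _ n ih =>
  intro G _ _ hG x k a hxo hxi
  by_cases hgen : Subgroup.normalClosure ({x} : Set G) = ⊤
  · obtain ⟨b, c, hbc⟩ := exists_eq_pow_mul_pow (p := p) (q := q) (Nat.card_pos (α := G)).ne' hp (by
      intro r hr hrG
      by_contra hcon
      push Not at hcon
      exact not_dvd_card_of_primePow_class hp hr hcon.1 hcon.2 hq hxo hxi hgen hrG)
    have hsol := S0144.result p q b c hp hq hbc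
    exact ⟨⊤, inferInstance, inferInstance, Subgroup.mem_top x⟩
  · set N := Subgroup.normalClosure ({x} : Set G) with hN
    have hxN : x ∈ N := Subgroup.subset_normalClosure (Set.mem_singleton x)
    have hlt : Nat.card N < n := by
      rw [← hG]
      exact lt_of_le_of_ne (Subgroup.card_le_card_group N) (fun h => hgen (Subgroup.eq_top_of_card_eq N h))
    have h1 : (Subgroup.centralizer ({(⟨x, hxN⟩ : N)} : Set N)).index ∣ p ^ a := by
      rw [index_centralizer_subgroupOf, ← hxi]
      exact relIndex_dvd_index_of_normal_right _ N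
    obtain ⟨b, -, hb⟩ := (Nat.dvd_prime_pow hp).1 h1
    obtain ⟨M, hM, hMs, hxM⟩ := ih _ hlt N rfl ⟨x, hxN⟩ k b (by rw [Subgroup.orderOf_mk]; exact hxo) hb
    obtain ⟨R, hR, hRs, hle⟩ := exists_solvable_normal_of_normal N M hM hMs
    exact ⟨R, hR, hRs, hle ⟨_, hxM, rfl⟩⟩

/-- **Kazarin's theorem** -/
theorem exists_solvable_of_primePow_class {G : Type u} [Group G] [Finite G] {p : ℕ} (hp : p.Prime)
    (x : G) (hx : ∃ a, (Subgroup.centralizer ({x} : Set G)).index = p ^ a) :
    ∃ R : Subgroup G, R.Normal ∧ Group.IsSolvable R ∧ x ∈ R := by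
  obtain ⟨R, hR, hRs, hmax⟩ := exists_solvable_radical G
  refine ⟨R, hR, hRs, ?_⟩
  have hpow : ∀ (y : G) (m : ℕ), (∃ a, (Subgroup.centralizer ({y} : Set G)).index = p ^ a) →
      ∃ a, (Subgroup.centralizer ({y ^ m} : Set G)).index = p ^ a := by
    rintro y m ⟨a, ha⟩
    have h1 : (Subgroup.centralizer ({y ^ m} : Set G)).index ∣ p ^ a := by
      rw [← ha]
      apply Subgroup.index_dvd_of_le
      intro g hg
      rw [Subgroup.mem_centralizer_singleton_iff] at hg ⊢
      exact ((show Commute g y from hg).pow_right m).eq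
    obtain ⟨b, -, hb⟩ := (Nat.dvd_prime_pow hp).1 h1
    exact ⟨b, hb⟩
  have key : ∀ n : ℕ, ∀ y : G, orderOf y = n →
      (∃ a, (Subgroup.centralizer ({y} : Set G)).index = p ^ a) → y ∈ R := by
    intro n
    induction n using Nat.recOnPrimeCoprime with
    | zero => intro y hy; exact absurd hy (orderOf_pos y).ne'
    | prime_pow q k hq =>
      rintro y hy ⟨a, ha⟩
      obtain ⟨M, hM, hMs, hyM⟩ := kaz_aux hp hq _ G rfl y k a hy ha
      exact hmax M hM hMs hyM
    | coprime a b ha hb hab iha ihb =>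
      intro y hy hc
      have h1 : y ^ a ∈ R := by
        apply ihb _ _ (hpow y a hc)
        rw [orderOf_pow_of_dvd (by omega) (by rw [hy]; exact Dvd.intro _ rfl), hy]
        exact Nat.mul_div_cancel_left b (by omega)
      have h2 : y ^ b ∈ R := by
        apply iha _ _ (hpow y b hc)
        rw [orderOf_pow_of_dvd (by omega) (by rw [hy]; exact Dvd.intro_left _ rfl), hy]
        exact Nat.mul_div_cancel a (by omega)
      obtain ⟨u, v, huv⟩ := Nat.isCoprime_iff_coprime.2 hab
      have h3 : y = (y ^ a) ^ u * (y ^ b) ^ v := by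
        rw [← zpow_natCast, ← zpow_natCast, ← zpow_mul, ← zpow_mul, ← zpow_add, mul_comm (a : ℤ),
          mul_comm (b : ℤ), huv, zpow_one]
      rw [h3]
      exact R.mul_mem (R.zpow_mem h1 u) (R.zpow_mem h2 v)
  exact key _ x rfl hx

/-- with trivial `p`-core the normal closure of `x` is abelian -/
theorem commute_of_pCore_eq_bot {G : Type u} [Group G] [Finite G] {p : ℕ} [hp : Fact p.Prime]
    (hcore : pCore p G = ⊥)
    (x : G) (hx : ∃ a, (Subgroup.centralizer ({x} : Set G)).index = p ^ a) (g h : G) :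
    (g * x * g⁻¹) * (h * x * h⁻¹) = (h * x * h⁻¹) * (g * x * g⁻¹) := by
  obtain ⟨R, hR, hRs, hxR⟩ := exists_solvable_of_primePow_class hp.out x hx
  obtain ⟨a, ha⟩ := hx
  set N := Subgroup.normalClosure ({x} : Set G) with hN
  have hxN : ∀ g, g * x * g⁻¹ ∈ N := fun g =>
    (Subgroup.normalClosure_normal).conj_mem _ (Subgroup.subset_normalClosure (Set.mem_singleton x)) g
  have hNR : N ≤ R := Subgroup.normalClosure_le_normal (by rintro _ rfl; exact hxR)
  have hNs : Group.IsSolvable N := Group.isSolvable_of_isSolvable_injective (Subgroup.inclusion_injective hNR)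
  -- `x` centralizes every normal `r`-subgroup
  have hcent : ∀ (r : Nat.Primes) (U : Subgroup G), U.Normal → IsPGroup (r : ℕ) U →
      ∀ (g : G), ∀ u ∈ U, (g * x * g⁻¹) * u = u * (g * x * g⁻¹) := by
    intro r U hU hUr g u hu
    by_cases hrp : (r : ℕ) = p
    · have h1 : U ≤ pCore p G := Solv.le_pCore hU (by rw [← hrp]; exact hUr)
      rw [hcore, le_bot_iff] at h1
      rw [h1, Subgroup.mem_bot] at hu
      rw [hu]; simp
    · have hr : Fact (r : ℕ).Prime := ⟨r.2⟩
      have h1 : ¬ (r : ℕ) ∣ (Cx x).index := by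
        show ¬ (r : ℕ) ∣ (Subgroup.centralizer ({x} : Set G)).index
        rw [ha]
        exact fun h => hrp ((Nat.prime_dvd_prime_iff_eq r.2 hp.out).1 (r.2.dvd_of_dvd_pow h))
      obtain ⟨Q, hQ⟩ := exists_sylow_le_of_not_dvd_index (Cx x) h1
      have h2 : U ≤ Cx x := (hUr.le_sylow_of_normal Q).trans hQ
      have h3 : g⁻¹ * u * g ∈ U := by
        have := hU.conj_mem u hu g⁻¹
        rwa [inv_inv] at this
      have h4 := mem_Cx.1 (h2 h3)
      calc (g * x * g⁻¹) * u = g * (x * (g⁻¹ * u * g)) * g⁻¹ := by group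
        _ = g * ((g⁻¹ * u * g) * x) * g⁻¹ := by rw [h4]
        _ = u * (g * x * g⁻¹) := by group
  -- `N` centralizes `F(N)`
  have hF : (⊤ : Subgroup N) ≤ Subgroup.centralizer (fittingSubgroup N : Set N) := by
    have h1 : fittingSubgroup N ≤ Subgroup.centralizer ((⊤ : Subgroup N) : Set N) := by
      rw [Solv.fitting_eq_iSup_pCore]
      apply iSup_le
      intro r
      intro u hu
      rw [Subgroup.mem_centralizer_iff]
      rintro ⟨y, hy⟩ -
      have hU : ((pCore (r : ℕ) N).map N.subtype) ≤ pCore (r : ℕ) G := Solv.map_subtype_pCore_le _ N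
      have hu' : (u : G) ∈ pCore (r : ℕ) G := hU ⟨u, hu, rfl⟩
      have hnor : (pCore (r : ℕ) G).Normal := inferInstance
      have h2 : Subgroup.normalClosure ({x} : Set G) ≤ Subgroup.centralizer ({(u : G)} : Set G) := by
        rw [Subgroup.normalClosure, Subgroup.closure_le]
        intro z hz
        rw [Group.mem_conjugatesOfSet_iff] at hz
        obtain ⟨w, hw, hwz⟩ := hz
        rw [Set.mem_singleton_iff] at hw
        subst hw
        obtain ⟨c, hc⟩ := isConj_iff.1 hwz
        rw [SetLike.mem_coe, Subgroup.mem_centralizer_singleton_iff, ← hc]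
        exact hcent r _ hnor (Solv.pCore_isPGroup _) c _ hu'
      have h3 := Subgroup.mem_centralizer_singleton_iff.1 (h2 hy)
      exact Subtype.ext h3
    rw [← Subgroup.le_centralizer_iff]
    exact h1
  have hFtop : fittingSubgroup N = ⊤ := top_le_iff.1 (hF.trans Solv.centralizer_fitting_le)
  have h5 : (⟨_, hxN g⟩ : N) ∈ Subgroup.centralizer (fittingSubgroup N : Set N) := hF (Subgroup.mem_top _)
  rw [Subgroup.mem_centralizer_iff] at h5
  have h6 := h5 ⟨_, hxN h⟩ (by rw [hFtop]; exact Subgroup.mem_top _)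
  exact (congrArg Subtype.val h6).symm

end Cfsg.Agent.H72
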