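import Cfsg.Agent.H32.SL2Five

set_option autoImplicit false

/-!
S3930, piece REV: a nonsolvable group with `p ^ k` involutions, all conjugate.
-/

namespace Cfsg.Agent.H72.PyrREV

open Matrix

section
variable (F : Type) [Field F] [DecidableEq F]

abbrev V : Type := Multiplicative (Fin 2 → F)

/-- the natural action -/
def phi : SpecialLinearGroup (Fin 2) F →* MulAut (V F) where
  toFun A := AddEquiv.toMultiplicative (SpecialLinearGroup.toLin' A).toAddEquiv
  map_one' := by
    ext1 v
    change Multiplicative.ofAdd ((SpecialLinearGroup.toLin' (1 : SpecialLinearGroup (Fin 2) F)) v.toAdd) = v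
    rw [map_one]
    rfl
  map_mul' A B := by
    ext1 v
    change Multiplicative.ofAdd ((SpecialLinearGroup.toLin' (A * B)) v.toAdd) =
      Multiplicative.ofAdd ((SpecialLinearGroup.toLin' A) ((SpecialLinearGroup.toLin' B) v.toAdd))
    rw [map_mul]
    rfl

abbrev G : Type := SemidirectProduct (V F) (SpecialLinearGroup (Fin 2) F) (phi F)

variable {F}

theorem phi_neg_one (v : V F) : phi F (-1) v = v⁻¹ := by
  change Multiplicative.ofAdd ((-1 : Matrix (Fin 2) (Fin 2) F) *ᵥ v.toAdd) = v⁻¹
  rw [Matrix.neg_mulVec, Matrix.one_mulVec]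
  rfl

theorem sq_eq_one (h2 : (2 : F) ≠ 0) (A : SpecialLinearGroup (Fin 2) F) (hA : A * A = 1) : A = 1 ∨ A = -1 := by
  have h1 : (A : Matrix (Fin 2) (Fin 2) F) * (A : Matrix (Fin 2) (Fin 2) F) = 1 := congrArg Subtype.val hA
  have hdet := A.det_coe
  rw [Matrix.det_fin_two] at hdet
  set a := (A : Matrix (Fin 2) (Fin 2) F) 0 0 with ha
  set b := (A : Matrix (Fin 2) (Fin 2) F) 0 1 with hb
  set c := (A : Matrix (Fin 2) (Fin 2) F) 1 0 with hc
  set d := (A : Matrix (Fin 2) (Fin 2) F) 1 1 with hd
  have e00 := congrFun (congrFun h1 0) 0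
  have e01 := congrFun (congrFun h1 0) 1
  have e10 := congrFun (congrFun h1 1) 0
  have e11 := congrFun (congrFun h1 1) 1
  rw [Matrix.mul_apply, Fin.sum_univ_two] at e00 e01 e10 e11
  rw [← ha, ← hb, ← hc] at e00
  rw [← ha, ← hb, ← hd] at e01
  rw [← ha, ← hc, ← hd] at e10
  rw [← hb, ← hc, ← hd] at e11
  simp only [Matrix.one_apply_eq, ne_eq, Fin.isValue, zero_ne_one, not_false_eq_true, Matrix.one_apply_ne,
    one_ne_zero] at e00 e01 e10 e11
  -- a*a + b*c = 1, a*b + b*d = 0, c*a+d*c = 0, c*b+d*d = 1, a*d - b*c = 1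
  have h3 : a * (a + d) = 2 := by linear_combination e00 + hdet
  have h4 : d * (a + d) = 2 := by linear_combination e11 + hdet
  have h5 : a + d ≠ 0 := by
    intro h
    rw [h, mul_zero] at h3
    exact h2 h3.symm
  have hbz : b = 0 := by
    have : b * (a + d) = 0 := by linear_combination e01
    exact (mul_eq_zero.1 this).resolve_right h5
  have hcz : c = 0 := by
    have : c * (a + d) = 0 := by linear_combination e10
    exact (mul_eq_zero.1 this).resolve_right h5
  have had : a = d := mul_right_cancel₀ h5 (h3.trans h4.symm)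
  have haa : (a - 1) * (a + 1) = 0 := by
    rw [hbz, zero_mul, add_zero] at e00
    linear_combination e00
  rcases mul_eq_zero.1 haa with h | h
  · left
    have ha1 : a = 1 := sub_eq_zero.1 h
    ext i j
    fin_cases i <;> fin_cases j
    · exact ha1
    · exact hbz
    · exact hcz
    · exact had.symm.trans ha1
  · right
    have ha1 : a = -1 := eq_neg_of_add_eq_zero_left h
    ext i j
    change (A : Matrix (Fin 2) (Fin 2) F) i j = (-1 : Matrix (Fin 2) (Fin 2) F) i j
    fin_cases i <;> fin_cases j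
    · simpa using ha1
    · simpa using hbz
    · simpa using hcz
    · have : d = -1 := had.symm.trans ha1
      simpa using this

theorem neg_one_ne (h2 : (2 : F) ≠ 0) : (-1 : SpecialLinearGroup (Fin 2) F) ≠ 1 := by
  intro h
  have h1 : (-1 : Matrix (Fin 2) (Fin 2) F) 0 0 = (1 : Matrix (Fin 2) (Fin 2) F) 0 0 :=
    congrArg (fun A : SpecialLinearGroup (Fin 2) F => (A : Matrix (Fin 2) (Fin 2) F) 0 0) h
  rw [Matrix.neg_apply, Matrix.one_apply_eq] at h1
  apply h2
  linear_combination -h1

theorem orderOf_iff (h2 : (2 : F) ≠ 0) (x : G F) : orderOf x = 2 ↔ x.right = -1 := by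
  rw [orderOf_eq_prime_iff]
  constructor
  · rintro ⟨h, hne⟩
    rw [pow_two] at h
    have hr : x.right * x.right = 1 := by
      have := congrArg SemidirectProduct.right h
      simpa using this
    rcases sq_eq_one h2 _ hr with h1 | h1
    · exfalso
      have hl : x.left * phi F x.right x.left = 1 := by
        have := congrArg SemidirectProduct.left h
        simpa using this
      rw [h1, map_one, MulAut.one_apply] at hl
      have hl2 : x.left.toAdd + x.left.toAdd = 0 := congrArg Multiplicative.toAdd hl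
      have hl3 : x.left = 1 := by
        apply Multiplicative.toAdd.injective
        have h3 : (2 : F) • x.left.toAdd = 0 := by rw [two_smul]; exact hl2
        exact (smul_eq_zero.1 h3).resolve_left h2
      exact hne (SemidirectProduct.ext hl3 h1)
    · exact h1
  · intro h
    refine ⟨?_, ?_⟩
    · rw [pow_two]
      refine SemidirectProduct.ext ?_ ?_
      · rw [SemidirectProduct.mul_left, h, phi_neg_one]
        simp
      · rw [SemidirectProduct.mul_right, h]
        simp
    · intro h1
      rw [h1] at h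
      exact neg_one_ne h2 (by simpa using h.symm)

theorem main [Fintype F] (h2 : (2 : F) ≠ 0) (x : F) (hx : x ≠ 0) (hx2 : x ^ 2 ≠ 1) :
    ∃ (G : Type) (_ : Group G) (_ : Finite G), Nat.card {x : G // orderOf x = 2} = Nat.card F ^ 2 ∧
      (∀ x y : G, orderOf x = 2 → orderOf y = 2 → ∃ g : G, g * x * g⁻¹ = y) ∧ ¬ Group.IsSolvable G := by
  refine ⟨G F, inferInstance, ?_, ?_, ?_, ?_⟩
  · exact Finite.of_equiv (V F × SpecialLinearGroup (Fin 2) F) SemidirectProduct.equivProd.symm
  · have e : {x : G F // orderOf x = 2} ≃ (Fin 2 → F) :=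
      { toFun := fun x => x.1.left.toAdd
        invFun := fun v => ⟨⟨Multiplicative.ofAdd v, -1⟩, (orderOf_iff h2 _).2 rfl⟩
        left_inv := fun x => Subtype.ext (SemidirectProduct.ext rfl ((orderOf_iff h2 _).1 x.2).symm)
        right_inv := fun v => rfl }
    rw [Nat.card_congr e, Nat.card_fun]
    simp
  · intro a b ha hb
    rw [orderOf_iff h2] at ha hb
    -- conjugate by the translation (b - a)/2
    refine ⟨⟨Multiplicative.ofAdd ((2 : F)⁻¹ • (b.left.toAdd - a.left.toAdd)), 1⟩, ?_⟩
    rw [mul_inv_eq_iff_eq_mul]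
    refine SemidirectProduct.ext ?_ ?_
    · rw [SemidirectProduct.mul_left, SemidirectProduct.mul_left, hb, phi_neg_one, map_one, MulAut.one_apply]
      apply Multiplicative.toAdd.injective
      rw [toAdd_mul, toAdd_mul, toAdd_inv, toAdd_ofAdd]
      have h3 : ∀ u : Fin 2 → F, (2 : F)⁻¹ • u + (2 : F)⁻¹ • u = u := by
        intro u
        rw [← add_smul, ← two_mul, mul_inv_cancel₀ h2, one_smul]
      have h4 := h3 (b.left.toAdd - a.left.toAdd)
      have h5 : (2 : F)⁻¹ • (b.left.toAdd - a.left.toAdd) + a.left.toAdd =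
        b.left.toAdd + -((2 : F)⁻¹ • (b.left.toAdd - a.left.toAdd)) := by
        rw [eq_add_neg_iff_add_eq]
        calc _ = ((2 : F)⁻¹ • (b.left.toAdd - a.left.toAdd) + (2 : F)⁻¹ • (b.left.toAdd - a.left.toAdd)) + a.left.toAdd := by
              abel
          _ = _ := by rw [h4]; abel
      exact h5
    · rw [SemidirectProduct.mul_right, SemidirectProduct.mul_right, ha, hb]
      simp
  · intro hs
    have h3 : Group.IsSolvable (SpecialLinearGroup (Fin 2) F) := Group.isSolvable_of_surjective (f := (SemidirectProduct.rightHom : G F →* SpecialLinearGroup (Fin 2) F))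
      SemidirectProduct.rightHom_surjective
    have h4 := H32.sl2_commutator_eq_top x hx hx2
    have : Nontrivial (SpecialLinearGroup (Fin 2) F) := ⟨-1, 1, neg_one_ne h2⟩
    have h7 := Group.IsSolvable.commutator_lt_top_of_nontrivial (SpecialLinearGroup (Fin 2) F)
    rw [h4] at h7
    exact absurd h7 (lt_irrefl _)

end

/-- (REV) -/
theorem rev (p k : ℕ) (hp : p.Prime) (hp2 : p ≠ 2) (hk : 1 ≤ k) (hk2 : Even k) (h9 : p ^ k ≠ 9) :
    ∃ (G : Type) (_ : Group G) (_ : Finite G), Nat.card {x : G // orderOf x = 2} = p ^ k ∧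
      (∀ x y : G, orderOf x = 2 → orderOf y = 2 → ∃ g : G, g * x * g⁻¹ = y) ∧ ¬ Group.IsSolvable G := by
  have : Fact p.Prime := ⟨hp⟩
  obtain ⟨j, hj⟩ := hk2
  have hj0 : j ≠ 0 := by omega
  let F := GaloisField p j
  have hcard : Nat.card F = p ^ j := GaloisField.card p j hj0
  classical
  have : Fintype F := Fintype.ofFinite F
  have hp3 : 3 ≤ p := by
    have := hp.two_le
    omega
  have h2 : (2 : F) ≠ 0 := by
    intro h
    have h1 : ((2 : ℕ) : F) = 0 := by exact_mod_cast h
    rw [CharP.cast_eq_zero_iff F p] at h1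
    have := Nat.le_of_dvd (by norm_num) h1
    omega
  have hq : 3 < Nat.card F := by
    rw [hcard]
    have h1 : p ^ 1 ≤ p ^ j := Nat.pow_le_pow_right (by omega) (by omega)
    rw [pow_one] at h1
    rcases Nat.lt_or_ge 3 (p ^ j) with h | h
    · exact h
    · exfalso
      have h3 : p ^ j = 3 := by omega
      apply h9
      rw [hj, pow_add, h3]
      norm_num
  obtain ⟨x, hx, hx2⟩ : ∃ x : F, x ≠ 0 ∧ x ^ 2 ≠ 1 := by
    by_contra hcon
    push Not at hcon
    have h1 : (Finset.univ : Finset F) ⊆ {0, 1, -1} := by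
      intro y _
      by_cases hy : y = 0
      · simp [hy]
      · have := hcon y hy
        rw [pow_two] at this
        rcases mul_self_eq_one_iff.1 this with h | h <;> simp [h]
    have h2 := Finset.card_le_card h1
    have h3 : Finset.card ({0, 1, -1} : Finset F) ≤ 3 := Finset.card_le_three
    rw [Finset.card_univ, ← Nat.card_eq_fintype_card] at h2
    omega
  obtain ⟨G, i1, i2, h3, h4, h5⟩ := main (F := F) h2 x hx hx2
  refine ⟨G, i1, i2, ?_, h4, h5⟩
  rw [h3, hcard, ← pow_mul, hj]
  congr 1
  omega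

end Cfsg.Agent.H72.PyrREV
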