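import Cfsg.Agent.OddP.Alperin

set_option autoImplicit false
set_option linter.style.haveILetI false

/-! Alperin's theorem on maximal normal abelian subgroups of exponent dividing `p^n`, relative to a normal
subgroup `Q` (helper72, adapted from `Cfsg.Agent.OddP.alperin`). -/

namespace Cfsg.Agent.H72

open Cfsg.Agent.OddP

variable {G : Type*} [Group G]

open scoped commutatorElement

/-- Alperin: a maximal normal abelian subgroup of exponent dividing `p^n ≠ 2` contains all the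
elements of order dividing `p^n` of its centralizer (inside a normal subgroup `Q`). -/
theorem alperin_in [Finite G] {p : ℕ} [hpf : Fact p.Prime] (hG : IsPGroup p G) (n : ℕ)
    (hn : p ^ n ≠ 2) (Q : Subgroup G) [hQn : Q.Normal] (A : Subgroup G) [hAn : A.Normal] (hAQ : A ≤ Q) (hA : IsMulCommutative A)
    (hAe : ∀ a ∈ A, a ^ p ^ n = 1)
    (hmax : ∀ B : Subgroup G, B.Normal → B ≤ Q → IsMulCommutative B → (∀ b ∈ B, b ^ p ^ n = 1) →
      A ≤ B → B = A) (x₀ : G) (hx₀Q : x₀ ∈ Q) (hx₀ : x₀ ∈ Subgroup.centralizer (A : Set G))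
    (hx₀n : x₀ ^ p ^ n = 1) : x₀ ∈ A := by
  classical
  have hp : p.Prime := hpf.out
  by_contra hx₀A
  by_cases hn0 : n = 0
  · rw [hn0, pow_zero, pow_one] at hx₀n
    exact hx₀A (hx₀n ▸ A.one_mem)
  set q := p ^ n with hq
  have hq2 : p ∣ q.choose 2 := by
    rw [hq]; exact hp.dvd_choose_pow (by norm_num) (fun h => hn h.symm)
  set C := Subgroup.centralizer (A : Set G) with hC
  have hcomm : ∀ c ∈ C, ∀ a ∈ A, Commute c a := fun c hc a ha =>
    (Subgroup.mem_centralizer_iff.mp hc a ha).symm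
  have hAC : A ≤ C := by
    intro a ha
    rw [hC, Subgroup.mem_centralizer_iff]
    intro b hb
    exact congrArg Subtype.val (hA.is_comm.comm (⟨b, hb⟩ : A) ⟨a, ha⟩)
  have hCn : C.Normal := inferInstance
  have hQCn : (Q ⊓ C).Normal := inferInstance
  -- a minimal counterexample `B`
  obtain ⟨B, ⟨hBn, hAB, hBQC, x, hxB, hxq, hxA⟩, hBmin⟩ := Set.exists_min_image
    {B : Subgroup G | B.Normal ∧ A ≤ B ∧ B ≤ Q ⊓ C ∧ ∃ x ∈ B, x ^ q = 1 ∧ x ∉ A}
    (fun B => Nat.card B) (Set.toFinite _) ⟨Q ⊓ C, hQCn, le_inf hAQ hAC, le_rfl, x₀, ⟨hx₀Q, hx₀⟩, hx₀n, hx₀A⟩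
  have hBC : B ≤ C := hBQC.trans inf_le_right
  have hBQ : B ≤ Q := hBQC.trans inf_le_left
  have hBmin' : ∀ K : Subgroup G, K.Normal → A ≤ K → K < B → ∀ y ∈ K, y ^ q = 1 → y ∈ A := by
    intro K hKn hAK hKB y hy hyq
    by_contra hyA
    have h1 := hBmin K ⟨hKn, hAK, hKB.le.trans hBQC, y, hy, hyq, hyA⟩
    exact absurd (Subgroup.eq_of_le_of_card_ge hKB.le h1) hKB.ne
  have hAltB : A < B := lt_of_le_of_ne hAB (fun h => hxA (h ▸ hxB))
  obtain ⟨K, hKn, hAK, hKB, hKp, hKc, -⟩ := exists_normal_index_p hG hAn hBn hAltB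
  have hKS := hBmin' K hKn hAK hKB
  have hKC : K ≤ C := hKB.le.trans hBC
  -- the core computation
  have core : ∀ x ∈ B, x ^ q = 1 → ∀ g : G, x⁻¹ * g⁻¹ * x * g ∈ K →
      (x⁻¹ * g⁻¹ * x * g)⁻¹ * x⁻¹ * (x⁻¹ * g⁻¹ * x * g) * x ∈ A →
      x⁻¹ * g⁻¹ * x * g ∈ A := by
    intro x hxB hxq g hzK hcA
    set z := x⁻¹ * g⁻¹ * x * g with hz
    set c := z⁻¹ * x⁻¹ * z * x with hc
    have hrel : z * x = x * z * c := by rw [hc]; group
    have hcx : Commute c x := (hcomm x (hBC hxB) c hcA).symm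
    have hcz : Commute c z := (hcomm z (hKC hzK) c hcA).symm
    have hxp : x ^ p ∈ A := by
      apply hKS _ (hKp x hxB)
      rw [← pow_mul, mul_comm, pow_mul, hxq, one_pow]
    have hcp : c ^ p = 1 := by
      have hrel' : x * z = z * x * c⁻¹ := by
        rw [hrel]; group
      have h1 : (c⁻¹) ^ p = 1 := by
        apply comm_pow_eq_one hrel' hcx.inv_left
        exact (hcomm z (hKC hzK) _ hxp).symm
      rw [inv_pow, inv_eq_one] at h1
      exact h1
    have h2 : (x * z) ^ q = 1 := by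
      have h3 : x * z = g⁻¹ * x * g⁻¹⁻¹ := by rw [hz]; group
      rw [h3, conj_pow, hxq]; group
    rw [Cfsg.Agent.BG.mul_pow_of_comm hrel hcx hcz, hxq, one_mul,
      pow_eq_one_of_dvd hcp hq2, mul_one] at h2
    exact hKS z hzK h2
  -- `[K, B] ≤ A`
  have hKB' : ∀ k ∈ K, ∀ b ∈ B, k * b * k⁻¹ * b⁻¹ ∈ A := by
    let π := QuotientGroup.mk' A
    have hmem : ∀ u v : G, u * v * u⁻¹ * v⁻¹ ∈ A ↔ π u * π v = π v * π u := by
      intro u v
      rw [← QuotientGroup.eq_one_iff]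
      have : ((u * v * u⁻¹ * v⁻¹ : G) : G ⧸ A) = π u * π v * (π u)⁻¹ * (π v)⁻¹ := by
        rfl
      rw [this, mul_inv_eq_one, mul_inv_eq_iff_eq_mul]
    let Z : Subgroup G := K ⊓ (Subgroup.centralizer ((B.map π : Subgroup (G ⧸ A)) : Set (G ⧸ A))).comap π
    have hBmn : (B.map π).Normal := hBn.map π (QuotientGroup.mk'_surjective A)
    have hZn : Z.Normal := by
      haveI := hKn
      haveI := hBmn
      infer_instance
    have hmemZ : ∀ k, k ∈ Z ↔ k ∈ K ∧ ∀ b ∈ B, k * b * k⁻¹ * b⁻¹ ∈ A := by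
      intro k
      rw [Subgroup.mem_inf, Subgroup.mem_comap, Subgroup.mem_centralizer_iff]
      refine and_congr_right (fun _ => ?_)
      constructor
      · intro h b hb
        rw [hmem]
        exact (h (π b) ⟨b, hb, rfl⟩).symm
      · rintro h _ ⟨b, hb, rfl⟩
        exact ((hmem k b).mp (h b hb)).symm
    suffices hKZ : K = Z by
      intro k hk
      rw [hKZ] at hk
      exact ((hmemZ k).mp hk).2
    by_contra hne
    have hZK : Z < K := lt_of_le_of_ne inf_le_left (Ne.symm hne)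
    obtain ⟨k, hkK, hkZ, -, hkc, -, -⟩ := Cfsg.Agent.H23.exists_step hG hZn hKn hZK
    apply hkZ
    rw [hmemZ]
    refine ⟨hkK, ?_⟩
    -- `B` is generated by its elements of order dividing `q`
    have hBgen : Subgroup.closure {y : G | y ∈ B ∧ y ^ q = 1} = B := by
      have hle : Subgroup.closure {y : G | y ∈ B ∧ y ^ q = 1} ≤ B := by
        rw [Subgroup.closure_le]; exact fun y hy => hy.1
      by_contra hne
      have hn' : (Subgroup.closure {y : G | y ∈ B ∧ y ^ q = 1}).Normal := by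
        refine ⟨fun m hm g => ?_⟩
        induction hm using Subgroup.closure_induction with
        | mem y hy =>
          apply Subgroup.subset_closure
          refine ⟨hBn.conj_mem y hy.1 g, ?_⟩
          rw [conj_pow, hy.2]; group
        | one => simp
        | mul u v _ _ hu hv =>
          have : g * (u * v) * g⁻¹ = (g * u * g⁻¹) * (g * v * g⁻¹) := by group
          rw [this]; exact Subgroup.mul_mem _ hu hv
        | inv u _ hu =>
          have : g * u⁻¹ * g⁻¹ = (g * u * g⁻¹)⁻¹ := by group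
          rw [this]; exact Subgroup.inv_mem _ hu
      apply hxA
      apply hBmin' _ hn' _ (lt_of_le_of_ne hle hne) x _ hxq
      · intro a ha
        exact Subgroup.subset_closure ⟨hAB ha, hAe a ha⟩
      · exact Subgroup.subset_closure ⟨hxB, hxq⟩
    have hle : B ≤ (Subgroup.centralizer ({π k} : Set (G ⧸ A))).comap π := by
      rw [← hBgen, Subgroup.closure_le]
      rintro y ⟨hyB, hyq⟩
      rw [SetLike.mem_coe, Subgroup.mem_comap, Subgroup.mem_centralizer_iff]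
      rintro _ rfl
      rw [← hmem]
      -- `z = y⁻¹ k⁻¹ y k`
      have hzZ : y⁻¹ * k⁻¹ * y * k ∈ Z := by
        have h1 := hkc (y⁻¹)
        have h2 := hZn.conj_mem _ h1 k⁻¹
        have h3 : k⁻¹ * (k * y⁻¹ * k⁻¹ * y⁻¹⁻¹) * k⁻¹⁻¹ = y⁻¹ * k⁻¹ * y * k := by group
        rwa [h3] at h2
      have hz := (hmemZ _).mp hzZ
      have hzA := core y hyB hyq k hz.1 (by
        have h1 := hz.2 y hyB
        have h4 : (y⁻¹ * k⁻¹ * y * k)⁻¹ * y⁻¹ * (y⁻¹ * k⁻¹ * y * k) * y =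
          (y⁻¹ * k⁻¹ * y * k)⁻¹ * y⁻¹ * ((y⁻¹ * k⁻¹ * y * k) * y * (y⁻¹ * k⁻¹ * y * k)⁻¹ * y⁻¹) *
            ((y⁻¹ * k⁻¹ * y * k)⁻¹ * y⁻¹)⁻¹ := by group
        rw [h4]
        exact hAn.conj_mem _ h1 _)
      have h5 : k * y * k⁻¹ * y⁻¹ = (k * y) * (y⁻¹ * k⁻¹ * y * k)⁻¹ * (k * y)⁻¹ := by group
      rw [h5]
      exact hAn.conj_mem _ (A.inv_mem hzA) _
    intro b hb
    rw [hmem]
    have := Subgroup.mem_centralizer_iff.mp (hle hb) (π k) rfl
    exact this
  -- `A ⟨x⟩` is normal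
  have hconj : ∀ g : G, g⁻¹ * x * g ∈ A ⊔ Subgroup.zpowers x := by
    intro g
    have hzK : x⁻¹ * g⁻¹ * x * g ∈ K := by
      have h1 := hKc x⁻¹ (B.inv_mem hxB) g⁻¹
      rw [inv_inv, inv_inv] at h1
      exact h1
    have hzA := core x hxB hxq g hzK (by
      have h1 := hKB' _ hzK x hxB
      have h4 : (x⁻¹ * g⁻¹ * x * g)⁻¹ * x⁻¹ * (x⁻¹ * g⁻¹ * x * g) * x =
          (x⁻¹ * g⁻¹ * x * g)⁻¹ * x⁻¹ * ((x⁻¹ * g⁻¹ * x * g) * x * (x⁻¹ * g⁻¹ * x * g)⁻¹ * x⁻¹) *
            ((x⁻¹ * g⁻¹ * x * g)⁻¹ * x⁻¹)⁻¹ := by group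
      rw [h4]
      exact hAn.conj_mem _ h1 _)
    have h2 : g⁻¹ * x * g = x * (x⁻¹ * g⁻¹ * x * g) := by group
    rw [h2]
    exact Subgroup.mul_mem _ (Subgroup.mem_sup_right (Subgroup.mem_zpowers x))
      (Subgroup.mem_sup_left hzA)
  have hDn : (A ⊔ Subgroup.zpowers x).Normal := by
    have hle : ∀ g : G, ∀ y ∈ A ⊔ Subgroup.zpowers x, g⁻¹ * y * g ∈ A ⊔ Subgroup.zpowers x := by
      intro g
      have : A ⊔ Subgroup.zpowers x ≤
          (A ⊔ Subgroup.zpowers x).comap (MulAut.conj g⁻¹).toMonoidHom := by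
        apply sup_le
        · intro a ha
          rw [Subgroup.mem_comap]
          apply Subgroup.mem_sup_left
          exact hAn.conj_mem a ha g⁻¹
        · rw [Subgroup.zpowers_le, Subgroup.mem_comap]
          have := hconj g
          simpa using this
      intro y hy
      have := this hy
      rw [Subgroup.mem_comap] at this
      simpa using this
    refine ⟨fun y hy g => ?_⟩
    have := hle g⁻¹ y hy
    rwa [inv_inv] at this
  have hxC : x ∈ C := hBC hxB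
  have hDform : ∀ y ∈ A ⊔ Subgroup.zpowers x, ∃ a ∈ A, ∃ i : ℤ, y = a * x ^ i := by
    intro y hy
    rw [Subgroup.mem_sup_of_normal_left] at hy
    obtain ⟨a, ha, b, hb, rfl⟩ := hy
    obtain ⟨i, rfl⟩ := Subgroup.mem_zpowers_iff.mp hb
    exact ⟨a, ha, i, rfl⟩
  have hDeq := hmax (A ⊔ Subgroup.zpowers x) hDn (sup_le hAQ (Subgroup.zpowers_le.2 (hBQ hxB))) (by
      refine ⟨⟨?_⟩⟩
      rintro ⟨y, hy⟩ ⟨y', hy'⟩
      apply Subtype.ext
      obtain ⟨a, ha, i, rfl⟩ := hDform y hy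
      obtain ⟨a', ha', i', rfl⟩ := hDform y' hy'
      change Commute (a * x ^ i) (a' * x ^ i')
      have h1 : Commute a a' := congrArg Subtype.val (hA.is_comm.comm (⟨a, ha⟩ : A) ⟨a', ha'⟩)
      have h2 : Commute a (x ^ i') := ((hcomm x hxC a ha).symm).zpow_right i'
      have h3 : Commute (x ^ i) a' := (hcomm x hxC a' ha').zpow_left i
      exact ((h1.mul_right h2)).mul_left (h3.mul_right ((Commute.refl x).zpow_zpow i i')))
    (by
      intro y hy
      obtain ⟨a, ha, i, rfl⟩ := hDform y hy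
      have h2 : Commute a (x ^ i) := ((hcomm x hxC a ha).symm).zpow_right i
      rw [h2.mul_pow, hAe a ha, one_mul, ← zpow_natCast, ← zpow_mul, mul_comm, zpow_mul,
        zpow_natCast, hxq, one_zpow]) le_sup_left
  apply hxA
  rw [← hDeq]
  exact Subgroup.mem_sup_right (Subgroup.mem_zpowers x)

end Cfsg.Agent.H72
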