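import Cfsg.Agent.Fus.Iso3
import Cfsg.Agent.Fus.Radical
import Cfsg.Agent.Fus.NormalChar

set_option autoImplicit false
set_option linter.style.haveILetI false
set_option linter.unusedSectionVars false

/-!
# The fusion system over `S` whose maps are the restrictions of a group `K` of automorphisms of `S`
-/

namespace Cfsg.Agent.H72

open Cfsg Cfsg.FusionSystem Cfsg.Agent.Fus

variable {Ω : Type*} [Group Ω] {S : Subgroup Ω} {p : ℕ}

theorem autSpec (K : Subgroup (MulAut S)) (hK : Inn S ≤ K) :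
    MapSpec S (fun P f => P ≤ S ∧ ∃ κ ∈ K, ∀ x ∈ P, f x = ofAut κ x) where
  congr := by
    rintro P f g ⟨hP, k, hk, hkf⟩ hfg
    exact ⟨hP, k, hk, fun x hx => (hfg x hx).symm.trans (hkf x hx)⟩
  le := fun h => h.1
  mem := by
    rintro P f ⟨hP, k, hk, hkf⟩ x hx
    rw [hkf x hx]
    exact ofAut_mem _ (hP hx)
  mul := by
    rintro P f ⟨hP, k, hk, hkf⟩ x hx y hy
    rw [hkf x hx, hkf y hy, hkf _ (P.mul_mem hx hy), ofAut_map_mul _ (hP hx) (hP hy)]
  inj := by
    rintro P f ⟨hP, k, hk, hkf⟩ x hx y hy hxy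
    rw [hkf x hx, hkf y hy] at hxy
    rw [← ofAut_inv_apply k (hP hx), hxy, ofAut_inv_apply k (hP hy)]
  conj := by
    rintro P g hP hg
    refine ⟨hP, MulAut.conj ⟨g, hg⟩, hK ⟨_, rfl⟩, fun x hx => ?_⟩
    rw [ofAut_apply _ (hP hx)]
    rfl
  comp := by
    rintro P Q f g ⟨hP, k, hk, hkf⟩ ⟨hQ, l, hl, hlg⟩ h
    refine ⟨hP, l * k, K.mul_mem hl hk, fun x hx => ?_⟩
    rw [ofAut_mul _ _ (hP hx), ← hkf x hx]
    exact hlg _ (h x hx)
  inv := by
    rintro P f ⟨hP, k, hk, hkf⟩
    have himg : img P f ≤ S := by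
      unfold img
      rw [Subgroup.closure_le]
      rintro _ ⟨x, hx, rfl⟩
      rw [SetLike.mem_coe, hkf x hx]
      exact ofAut_mem _ (hP hx)
    refine ⟨ofAut k⁻¹, fun x hx => ?_, himg, k⁻¹, K.inv_mem hk, fun x _ => rfl⟩
    rw [hkf x hx, ofAut_inv_apply _ (hP hx)]

/-- The system of restrictions of elements of `K`. -/
def autSys (K : Subgroup (MulAut S)) (hK : Inn S ≤ K) : FusionSystem S := (autSpec K hK).toFS

theorem isMap_autSys {K : Subgroup (MulAut S)} {hK : Inn S ≤ K} {P : Subgroup Ω} {f : Ω → Ω} :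
    IsMap (autSys K hK) P f ↔ P ≤ S ∧ ∃ κ ∈ K, ∀ x ∈ P, f x = ofAut κ x := (autSpec K hK).isMap_toFS

theorem autGroup_autSys {K : Subgroup (MulAut S)} {hK : Inn S ≤ K} : (autSys K hK).autGroup S = K := by
  ext α
  rw [mem_autGroup_iff le_rfl, isMap_autSys]
  constructor
  · rintro ⟨-, κ, hκ, h⟩
    rwa [ofAut_injective h]
  · intro h
    exact ⟨le_rfl, α, h, fun _ _ => rfl⟩

theorem autSys_normal [Finite S] {K : Subgroup (MulAut S)} {hK : Inn S ≤ K} : (autSys K hK).IsNormal S := by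
  rw [isNormal_self_iff]
  intro P f hf
  obtain ⟨hP, κ, hκ, h⟩ := isMap_autSys.1 hf
  exact ⟨ofAut κ, isMap_autSys.2 ⟨le_rfl, κ, hκ, fun _ _ => rfl⟩, fun x hx => (h x hx).symm⟩

theorem autSys_le {F : FusionSystem S} {K : Subgroup (MulAut S)} {hK : Inn S ≤ K} (h : K ≤ F.autGroup S) :
    autSys K hK ≤ F := by
  rw [le_iff]
  intro P f hf
  obtain ⟨hP, κ, hκ, h'⟩ := isMap_autSys.1 hf
  exact ((isMap_ofAut le_rfl (h hκ)).mono hP).congr fun x hx => (h' x hx).symm

instance inn_normal' : (Inn S).Normal := by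
  refine ⟨?_⟩
  rintro _ ⟨s, rfl⟩ a
  refine ⟨a s, ?_⟩
  ext x
  simp

/-- The fusion system of `S ⋊ H`, `H` a `p'`-group of automorphisms. -/
theorem autSys_saturated [Finite S] [hp : Fact p.Prime] (hS : IsPGroup p S) (H : Subgroup (MulAut S))
    (hH : (Nat.card H).Coprime p) {hK : Inn S ≤ Inn S ⊔ H} : (autSys (Inn S ⊔ H) hK).IsSaturated p := by
  haveI : Finite (MulAut S) := Finite.of_injective (fun a : MulAut S => (a : S → S)) (fun a b h => by
    ext x; exact congrArg Subtype.val (congrFun h x))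
  let X := S ⋊[H.subtype] H
  haveI : Finite X := Finite.of_equiv _ SemidirectProduct.equivProd.symm
  let ι : S →* X := SemidirectProduct.inl
  have hι : Function.Injective ι := SemidirectProduct.inl_injective
  have hconj : ∀ (s : S) (h : H) (x : S), (SemidirectProduct.inl s * SemidirectProduct.inr h : X) * ι x *
      (SemidirectProduct.inl s * SemidirectProduct.inr h : X)⁻¹ = ι (s * (h : MulAut S) x * s⁻¹) := by
    intro s h x
    have h1 := SemidirectProduct.inl_aut (φ := H.subtype) h x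
    have h2 : (SemidirectProduct.inr h : X) * ι x * (SemidirectProduct.inr h : X)⁻¹ = ι ((h : MulAut S) x) := by
      rw [← map_inv]; exact h1.symm
    have h3 : ι (s * (h : MulAut S) x * s⁻¹) = ι s * ((SemidirectProduct.inr h : X) * ι x * (SemidirectProduct.inr h : X)⁻¹) * (ι s)⁻¹ := by
      rw [map_mul, map_mul, map_inv, h2]
    rw [h3]
    show ι s * SemidirectProduct.inr h * ι x * (ι s * SemidirectProduct.inr h)⁻¹ = _
    rw [mul_inv_rev]
    simp only [mul_assoc]
  have hreal : (autSys (Inn S ⊔ H) hK).IsRealizedBy ι := by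
    refine ⟨hι, ?_⟩
    intro P hP φ hφ
    rw [mem_hom_iff (f := ofHom φ) (fun x => (ofHom_coe φ x).symm), isMap_autSys]
    constructor
    · rintro ⟨-, κ, hκ, h⟩
      rw [← SetLike.mem_coe, Subgroup.normal_mul] at hκ
      obtain ⟨_, ⟨s, rfl⟩, b, hb, rfl⟩ := hκ
      refine ⟨SemidirectProduct.inl s * SemidirectProduct.inr ⟨b, hb⟩, fun x => ?_⟩
      rw [hconj]
      congr 1
      apply Subtype.ext
      have h1 := h x x.2
      rw [ofHom_coe] at h1
      show φ x = _
      rw [h1, ofAut_apply _ (hP x.2)]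
      rfl
    · rintro ⟨g, hg⟩
      obtain ⟨s, b, rfl⟩ : ∃ (s : S) (b : H), g = SemidirectProduct.inl s * SemidirectProduct.inr b :=
        ⟨g.left, g.right, (SemidirectProduct.inl_left_mul_inr_right g).symm⟩
      refine ⟨hP, MulAut.conj s * (b : MulAut S), ?_, fun x hx => ?_⟩
      · exact mul_mem (Subgroup.mem_sup_left ⟨s, rfl⟩) (Subgroup.mem_sup_right b.2)
      · have h1 := hg ⟨x, hx⟩
        rw [hconj] at h1
        have h2 := hι h1
        rw [ofHom_apply _ hx, ofAut_apply _ (hP hx)]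
        exact congrArg Subtype.val h2
  have htr := tr_of_isRealizedBy hreal
  have hcardX : Nat.card X = Nat.card S * Nat.card H := SemidirectProduct.card
  have hcardr : Nat.card ι.range = Nat.card S :=
    (Nat.card_congr (MonoidHom.ofInjective hι).toEquiv).symm
  have hidx : ι.range.index = Nat.card H := by
    have h1 := ι.range.card_mul_index
    rw [hcardr, hcardX] at h1
    exact Nat.eq_of_mul_eq_mul_left Nat.card_pos h1
  have hpg : IsPGroup p ι.range := hS.of_surjective ι.rangeRestrict (MonoidHom.rangeRestrict_surjective _)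
  let P : Sylow p X := hpg.toSylow (by
    rw [hidx]
    intro h
    have h1 : p ∣ 1 := by
      have := Nat.dvd_gcd h (dvd_refl p)
      rwa [hH] at this
    exact hp.out.one_lt.ne' (Nat.dvd_one.1 h1))
  have hsat : (groupFusionSystem ι.range).IsSaturated p := group_saturated P
  exact htr.symm.isSaturated hsat

end Cfsg.Agent.H72
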