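import Cfsg.Agent.H72.SmallExp
import Cfsg.Agent.Fus.Extend
import Cfsg.Agent.Fus.Alperin
import Cfsg.Agent.Fus.PolarGen

set_option autoImplicit false
set_option linter.style.haveILetI false
set_option linter.unusedSectionVars false
set_option linter.unusedVariables false

/-!
# Small exponent abelian subgroups control fusion (helper72)
-/

namespace Cfsg.Agent.H72.BGH

open Subgroup Cfsg Cfsg.Agent.Fus

variable {Ω : Type*} [Group Ω] {S : Subgroup Ω} {p : ℕ}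

/-- the large abelian subgroup of small exponent -/
theorem exists_A [Finite S] [hp : Fact p.Prime] (hS : IsPGroup p S) {F : FusionSystem S} {W : Subgroup Ω}
    (hW : F.StronglyClosed W) {m : ℕ} (hm : p ^ m ≠ 2) {P : Subgroup Ω} (hP : P ≤ S) :
    ∃ A : Subgroup Ω, A ≤ P ⊓ W ∧ (∀ a ∈ A, ∀ b ∈ A, a * b = b * a) ∧ (∀ a ∈ A, a ^ p ^ m = 1) ∧
      FusionSystem.normalizerIn S P ≤ normalizer (A : Set Ω) ∧
      (∀ x ∈ P ⊓ W, (∀ a ∈ A, x * a = a * x) → x ^ p ^ m = 1 → x ∈ A) := by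
  classical
  set N := FusionSystem.normalizerIn S P with hN
  have hNS : N ≤ S := normalizerIn_le P
  have hfN : Finite N := finite_of_le hNS
  have hNp : IsPGroup p N := isPGroup_of_le hS hNS
  have hPN : P ≤ N := fun x hx => mem_normalizerIn.2 ⟨hP hx, le_normalizer hx⟩
  set Q : Subgroup N := (P ⊓ W).subgroupOf N with hQ
  have hQn : Q.Normal := by
    refine ⟨fun x hx g => ?_⟩
    rw [mem_subgroupOf] at hx ⊢
    obtain ⟨h1, h2⟩ := mem_normalizerIn.1 g.2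
    refine mem_inf.2 ⟨?_, ?_⟩
    · exact (mem_normalizer_iff.1 h2 _).1 hx.1
    · exact sc_conj_mem hW h1 hx.2
  obtain ⟨A, ⟨hAn, hAQ, hAc, hAe⟩, hAmax⟩ := Set.exists_max_image
    {A : Subgroup N | A.Normal ∧ A ≤ Q ∧ IsMulCommutative A ∧ ∀ a ∈ A, a ^ p ^ m = 1} (fun K => Nat.card K) (Set.toFinite _)
    ⟨⊥, inferInstance, bot_le, inferInstance, fun a ha => by rw [mem_bot.1 ha, one_pow]⟩
  have hmax : ∀ B : Subgroup N, B.Normal → B ≤ Q → IsMulCommutative B → (∀ b ∈ B, b ^ p ^ m = 1) → A ≤ B → B = A := by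
    intro B h1 h2 h3 h4 h5
    exact (eq_of_le_of_card_ge h5 (hAmax B ⟨h1, h2, h3, h4⟩)).symm
  refine ⟨A.map N.subtype, ?_, ?_, ?_, ?_, ?_⟩
  · rintro _ ⟨a, ha, rfl⟩
    exact mem_subgroupOf.1 (hAQ ha)
  · rintro _ ⟨a, ha, rfl⟩ _ ⟨b, hb, rfl⟩
    have := hAc.is_comm.comm (⟨a, ha⟩ : A) ⟨b, hb⟩
    exact congrArg (fun z : A => ((z : N) : Ω)) this
  · rintro _ ⟨a, ha, rfl⟩
    exact congrArg Subtype.val (hAe a ha)
  · intro g hg
    have hfA : Finite (A.map N.subtype) := finite_of_le (S := N) (map_subtype_le A)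
    apply mem_normalizer_of_conj
    rintro _ ⟨a, ha, rfl⟩
    exact ⟨_, hAn.conj_mem a ha ⟨g, hg⟩, rfl⟩
  · intro x hx hxa hxe
    have h1 := alperin_in hNp m hm Q A hAQ hAc hAe hmax ⟨x, hPN hx.1⟩ (mem_subgroupOf.2 hx) (by
      rw [mem_centralizer_iff]
      intro y hy
      exact Subtype.ext (hxa _ ⟨y, hy, rfl⟩).symm) (Subtype.ext hxe)
    exact ⟨_, h1, rfl⟩

/-- automorphisms in the system fixing `A` -/
def fixY (F : FusionSystem S) (P A : Subgroup Ω) (hAP : A ≤ P) : Subgroup (MulAut P) where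
  carrier := {γ | γ ∈ F.autGroup P ∧ ∀ a ∈ A, ofAut γ a = a}
  one_mem' := ⟨one_mem _, fun a ha => ofAut_one (hAP ha)⟩
  mul_mem' := by
    rintro γ δ ⟨h1, h2⟩ ⟨h3, h4⟩
    exact ⟨mul_mem h1 h3, fun a ha => by rw [ofAut_mul _ _ (hAP ha), h4 a ha, h2 a ha]⟩
  inv_mem' := by
    rintro γ ⟨h1, h2⟩
    refine ⟨inv_mem h1, fun a ha => ?_⟩
    have := ofAut_inv_apply γ (hAP ha)
    rwa [h2 a ha] at this

theorem mem_fixY {F : FusionSystem S} {P A : Subgroup Ω} {hAP : A ≤ P} {γ : MulAut P} :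
    γ ∈ fixY F P A hAP ↔ γ ∈ F.autGroup P ∧ ∀ a ∈ A, ofAut γ a = a := Iff.rfl

theorem isPGroup_of_coprime {X : Type*} [Group X] [Finite X] [hp : Fact p.Prime] (h : ∀ x : X, (orderOf x).Coprime p → x = 1) :
    IsPGroup p X := by
  rw [IsPGroup.iff_card]
  by_contra hcon
  have hpos : 0 < Nat.card X := Nat.card_pos
  obtain ⟨q, hq, hqd, hqp⟩ : ∃ q : ℕ, q.Prime ∧ q ∣ Nat.card X ∧ q ≠ p := by
    by_contra hne
    push Not at hne
    apply hcon
    exact ⟨_, Nat.eq_prime_pow_of_unique_prime_dvd hpos.ne' (fun {d} hd hdd => hne d hd hdd)⟩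
  haveI := Fact.mk hq
  obtain ⟨x, hx⟩ := exists_prime_orderOf_dvd_card' q hqd
  have h1 := h x (by rw [hx]; exact (Nat.coprime_primes hq hp.out).2 hqp)
  rw [h1, orderOf_one] at hx
  exact hq.one_lt.ne hx

theorem fixY_isPGroup [Finite S] [hp : Fact p.Prime] (hS : IsPGroup p S) {F : FusionSystem S} {W : Subgroup Ω}
    (hWp : ∀ (P : Subgroup Ω) (α : MulAut P), P ≤ S → α ∈ F.autGroup P → (orderOf α).Coprime p → ∀ x ∈ P, x⁻¹ * ofAut α x ∈ W)
    {m : ℕ} (hm1 : 1 ≤ m) (hm2 : p = 2 → 2 ≤ m) {P : Subgroup Ω} (hP : P ≤ S) {A : Subgroup Ω}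
    (hA : A ≤ P ⊓ W) (hAc : ∀ a ∈ A, ∀ b ∈ A, a * b = b * a)
    (hAC : ∀ x ∈ P ⊓ W, (∀ a ∈ A, x * a = a * x) → x ^ p ^ m = 1 → x ∈ A) :
    IsPGroup p (fixY F P A (hA.trans inf_le_left)) := by
  have hfP : Finite P := finite_of_le hP
  have hfA := finite_mulAut (P := P)
  apply isPGroup_of_coprime
  intro γ' hγo
  have hγo' : (orderOf (γ' : MulAut P)).Coprime p := by rwa [Subgroup.orderOf_coe]
  obtain ⟨h1, h2⟩ := mem_fixY.1 γ'.2
  apply Subtype.ext
  refine SE.aut_trivial (isPGroup_of_le hS hP) (γ' : MulAut P) hγo' ((P ⊓ W).subgroupOf P) (A.subgroupOf P) ?_ ?_ ?_ ?_ ?_ ?_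
  · intro x
    refine mem_subgroupOf.2 (mem_inf.2 ⟨(x⁻¹ * (γ' : MulAut P) x).2, ?_⟩)
    have h3 := hWp P γ' hP h1 hγo' x x.2
    rw [ofAut_apply _ x.2] at h3
    exact h3
  · intro x hx
    exact mem_subgroupOf.2 (hA (mem_subgroupOf.1 hx))
  · intro x hx
    have h3 := h2 _ (mem_subgroupOf.1 hx)
    rw [ofAut_apply _ x.2] at h3
    exact Subtype.ext h3
  · intro x hx y hy
    exact Subtype.ext (hAc _ (mem_subgroupOf.1 hx) _ (mem_subgroupOf.1 hy))
  · intro x hx hxa hxp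
    refine mem_subgroupOf.2 (hAC _ (mem_subgroupOf.1 hx)
      (fun a ha => congrArg Subtype.val (hxa ⟨a, (hA ha).1⟩ (mem_subgroupOf.2 ha))) ?_)
    have : (x : Ω) ^ p = 1 := congrArg Subtype.val hxp
    obtain ⟨k, rfl⟩ : ∃ k, m = k + 1 := ⟨m - 1, by omega⟩
    rw [pow_succ', pow_mul, this, one_pow]
  · intro hp2 x hx hxa hxp
    refine mem_subgroupOf.2 (hAC _ (mem_subgroupOf.1 hx)
      (fun a ha => congrArg Subtype.val (hxa ⟨a, (hA ha).1⟩ (mem_subgroupOf.2 ha))) ?_)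
    have : (x : Ω) ^ 4 = 1 := congrArg Subtype.val hxp
    obtain ⟨k, rfl⟩ : ∃ k, m = k + 2 := ⟨m - 2, by have := hm2 hp2; omega⟩
    rw [hp2, pow_add, show 2 ^ k * 2 ^ 2 = 4 * 2 ^ k by ring, pow_mul, this, one_pow]

theorem fixY_conj {F : FusionSystem S} {P : Subgroup Ω} (hP : P ≤ S) {A : Subgroup Ω} (hAP : A ≤ P)
    (hAN : FusionSystem.normalizerIn S P ≤ normalizer (A : Set Ω)) {t γ : MulAut P} (ht : t ∈ autInducedBy S P)
    (hγ : γ ∈ fixY F P A hAP) : t * γ * t⁻¹ ∈ fixY F P A hAP := by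
  obtain ⟨g, hg, hgt⟩ := mem_autInducedBy'.1 ht
  have hgN : g ∈ normalizer (P : Set Ω) := mem_normalizer_of_ofAut hgt
  have hgA := hAN (mem_normalizerIn.2 ⟨hg, hgN⟩)
  obtain ⟨h1, h2⟩ := mem_fixY.1 hγ
  have htF : t ∈ F.autGroup P := autInducedBy_le_autGroup hP ht
  refine mem_fixY.2 ⟨mul_mem (mul_mem htF h1) (inv_mem htF), fun a ha => ?_⟩
  have haP := hAP ha
  rw [ofAut_mul _ _ haP]
  have ht' : ofAut t⁻¹ a = g⁻¹ * a * g := by
    have h4 : g⁻¹ * a * g ∈ P := by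
      have := (mem_normalizer_iff.1 (inv_mem hgN) a).1 haP
      rwa [inv_inv] at this
    have h5 : ofAut t (g⁻¹ * a * g) = a := by rw [hgt _ h4]; group
    have h6 := ofAut_inv_apply t h4
    rwa [h5] at h6
  have hmA : g⁻¹ * a * g ∈ A := by
    have := (mem_normalizer_iff.1 (inv_mem hgA) a).1 ha
    rwa [inv_inv] at this
  have hmP := hAP hmA
  rw [ht', ofAut_mul _ _ hmP, h2 _ hmA, hgt _ hmP]
  group

theorem le_of_sup {X : Type*} [Group X] [Finite X] [hp : Fact p.Prime] {T Y L : Subgroup X} (hT : H85.SylIn p T L) (hY : IsPGroup p Y)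
    (hYL : Y ≤ L) (hTY : T ≤ normalizer (Y : Set X)) : Y ≤ T := by
  have hsup : IsPGroup p (T ⊔ Y : Subgroup X) := IsPGroup.to_sup_of_normal_right' hT.2.1 hY hTY
  have h1 := hT.eq_of_le (sup_le hT.1 hYL) hsup le_sup_left
  exact le_sup_right.trans h1.ge

/-- `C_{Aut_F(P)}(A) ≤ Aut_S(P)` -/
theorem fixY_le [Finite S] [hp : Fact p.Prime] (hS : IsPGroup p S) {F : FusionSystem S} (hF : F.IsSaturated p) {W : Subgroup Ω}
    (hWp : ∀ (P : Subgroup Ω) (α : MulAut P), P ≤ S → α ∈ F.autGroup P → (orderOf α).Coprime p → ∀ x ∈ P, x⁻¹ * ofAut α x ∈ W)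
    {m : ℕ} (hm1 : 1 ≤ m) (hm2 : p = 2 → 2 ≤ m) {P : Subgroup Ω} (hP : F.IsFullyNormalized P) {A : Subgroup Ω}
    (hA : A ≤ P ⊓ W) (hAc : ∀ a ∈ A, ∀ b ∈ A, a * b = b * a)
    (hAN : FusionSystem.normalizerIn S P ≤ normalizer (A : Set Ω))
    (hAC : ∀ x ∈ P ⊓ W, (∀ a ∈ A, x * a = a * x) → x ^ p ^ m = 1 → x ∈ A) :
    fixY F P A (hA.trans inf_le_left) ≤ autInducedBy S P := by
  have hfP : Finite P := finite_of_le hP.1
  have hfA := finite_mulAut (P := P)
  have hAP : A ≤ P := hA.trans inf_le_left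
  have hYp : IsPGroup p (fixY F P A hAP) := fixY_isPGroup hS hWp hm1 hm2 hP.1 hA hAc hAC
  have hT : H85.SylIn p (autInducedBy S P) (F.autGroup P) := fa_sylIn (sat_fullyAutomized hS hF hP)
  have hTY : autInducedBy S P ≤ normalizer (fixY F P A hAP : Set (MulAut P)) := by
    intro t ht
    apply mem_normalizer_of_conj
    intro γ hγ
    exact fixY_conj hP.1 _ hAN ht hγ
  have hYF : fixY F P A hAP ≤ F.autGroup P := fun γ hγ => hγ.1
  exact le_of_sup hT hYp hYF hTY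

/-- the data of the argument -/
structure Dat (E F : FusionSystem S) (p : ℕ) (P A A2 : Subgroup Ω) (ρ : Ω → Ω) : Prop where
  hE : E.IsSaturated p
  hF : F.IsSaturated p
  hEF : ∀ (P : Subgroup Ω) (f : Ω → Ω), IsMap E P f → IsMap F P f
  hP : F.IsFullyNormalized P
  hA : A ≤ P
  hY : fixY F P A hA ≤ autInducedBy S P
  hAN : FusionSystem.normalizerIn S P ≤ normalizer (A : Set Ω)
  IH : ∀ (R : Subgroup Ω) (f : Ω → Ω), Nat.card P < Nat.card R → IsMap F R f → IsMap E R f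
  hρ : IsMap E (FusionSystem.normalizerIn S A) ρ
  himg : img A ρ = A2
  hA2 : F.IsFullyNormalized A2

variable {E F : FusionSystem S} {P A A2 : Subgroup Ω} {ρ : Ω → Ω}

theorem Dat.P_le [Finite S] (d : Dat E F p P A A2 ρ) : P ≤ FusionSystem.normalizerIn S A := fun x hx =>
  mem_normalizerIn.2 ⟨d.hP.1 hx, d.hAN (mem_normalizerIn.2 ⟨d.hP.1 hx, le_normalizer hx⟩)⟩

theorem Dat.isMap_of_fix [Finite S] (d : Dat E F p P A A2 ρ) {δ : Ω → Ω} (hδ : IsMap F P δ) (himg : img P δ = P) (hfix : ∀ a ∈ A, δ a = a) :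
    IsMap E P δ ∧ ∃ h ∈ S, ∀ x ∈ P, δ x = h * x * h⁻¹ := by
  obtain ⟨γ, hγ, hγδ⟩ := hδ.exists_aut himg
  have h1 : γ ∈ fixY F P A d.hA := mem_fixY.2 ⟨hγ, fun a ha => by rw [hγδ a (d.hA ha), hfix a ha]⟩
  obtain ⟨h, hh, hh'⟩ := mem_autInducedBy'.1 (d.hY h1)
  have h2 : ∀ x ∈ P, δ x = h * x * h⁻¹ := fun x hx => by rw [← hγδ x hx, hh' x hx]
  exact ⟨(isMap_conj d.hP.1 hh).congr (fun x hx => (h2 x hx).symm), h, hh, h2⟩

/-- an `F`-map `θ` on `P` agreeing with `ρ` on `A` is an `E`-map -/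
theorem Dat.isMap_theta [Finite S] [hp : Fact p.Prime] (hS : IsPGroup p S) (d : Dat E F p P A A2 ρ) {θ : Ω → Ω} (hθ : IsMap F P θ)
    (hθA : ∀ a ∈ A, θ a = ρ a) : IsMap E P θ := by
  have hfP : Finite P := finite_of_le d.hP.1
  have hρP : IsMap E P ρ := d.hρ.mono d.P_le
  have hρPF : IsMap F P ρ := d.hEF _ _ hρP
  have hAP := d.hA
  have hnA : ∀ u ∈ P, ∀ a ∈ A, u * a * u⁻¹ ∈ A := fun u hu a ha =>
    (mem_normalizer_iff.1 (mem_normalizerIn.1 (d.P_le hu)).2 a).1 ha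
  by_cases hC : FusionSystem.centralizerIn S A2 ≤ img P θ
  · -- `ρ(P) = θ(P)`
    have h1 : img P ρ ≤ img P θ := by
      intro y hy
      obtain ⟨u, hu, rfl⟩ := hρP.mem_img.1 hy
      have h2 : (θ u)⁻¹ * ρ u ∈ FusionSystem.centralizerIn S A2 := by
        refine mem_centralizerIn.2 ⟨mul_mem (inv_mem (hθ.mem hu)) (hρP.mem hu), ?_⟩
        intro b hb
        rw [← d.himg] at hb
        obtain ⟨a, ha, rfl⟩ := (hρP.mono hAP).mem_img.1 hb
        have h3 : ρ (u * a * u⁻¹) = ρ u * ρ a * (ρ u)⁻¹ := hρP.map_conj hu (hAP ha)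
        have h4 : θ (u * a * u⁻¹) = θ u * θ a * (θ u)⁻¹ := hθ.map_conj hu (hAP ha)
        rw [hθA _ (hnA u hu a ha), h3, hθA a ha] at h4
        have h5 : (θ u)⁻¹ * ρ u * ρ a = ρ a * ((θ u)⁻¹ * ρ u) := by
          have : (θ u)⁻¹ * (ρ u * ρ a * (ρ u)⁻¹) * ρ u = (θ u)⁻¹ * (θ u * ρ a * (θ u)⁻¹) * ρ u := by rw [h4]
          calc (θ u)⁻¹ * ρ u * ρ a = (θ u)⁻¹ * (ρ u * ρ a * (ρ u)⁻¹) * ρ u := by group
            _ = (θ u)⁻¹ * (θ u * ρ a * (θ u)⁻¹) * ρ u := this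
            _ = ρ a * ((θ u)⁻¹ * ρ u) := by group
        exact h5.symm
      have h3 := mul_mem (subset_img hu : θ u ∈ img P θ) (hC h2)
      rwa [mul_inv_cancel_left] at h3
    have h2 : img P ρ = img P θ := by
      have hf : Finite (img P θ) := finite_of_le hθ.img_le
      exact eq_of_le_of_card_ge h1 (by rw [hρP.card_img, hθ.card_img])
    -- `δ = ρ⁻¹ θ`
    have hρinv : IsMap F (img P ρ) (minv P ρ) := hρPF.minv_isMap
    have hδ : IsMap F P (fun x => minv P ρ (θ x)) := hρinv.comp hθ (fun x hx => by rw [h2]; exact subset_img hx)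
    have hδimg : img P (fun x => minv P ρ (θ x)) = P := by
      apply hδ.img_eq
      intro x hx
      exact hρPF.minv_mem (by rw [h2]; exact subset_img hx)
    have h3 := (d.isMap_of_fix hδ hδimg (fun a ha => by
      show minv P ρ (θ a) = a
      rw [hθA a ha, hρPF.minv_apply (hAP ha)])).1
    have h4 : IsMap E P (fun x => ρ (minv P ρ (θ x))) := hρP.comp h3 (fun x hx => hρPF.minv_mem (by rw [h2]; exact subset_img hx))
    refine h4.congr (fun x hx => ?_)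
    exact hρPF.apply_minv (by rw [h2]; exact subset_img hx)
  · have hP3 : img P θ ≤ S := hθ.img_le
    have hC2S : FusionSystem.centralizerIn S A2 ≤ S := centralizerIn_le _
    have hfC : Finite (FusionSystem.centralizerIn S A2) := finite_of_le hC2S
    have hmemA2 : ∀ b, b ∈ A2 ↔ ∃ a ∈ A, θ a = b := by
      intro b
      rw [← d.himg, (hρP.mono hAP).mem_img]
      constructor
      · rintro ⟨a, ha, rfl⟩; exact ⟨a, ha, hθA a ha⟩
      · rintro ⟨a, ha, rfl⟩; exact ⟨a, ha, (hθA a ha).symm⟩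
    have hnorm : img P θ ≤ normalizer (FusionSystem.centralizerIn S A2 : Set Ω) := by
      intro y hy
      obtain ⟨u, hu, rfl⟩ := hθ.mem_img.1 hy
      apply mem_normalizer_of_conj
      intro x hx
      obtain ⟨h1, h2⟩ := mem_centralizerIn.1 hx
      refine mem_centralizerIn.2 ⟨mul_mem (mul_mem (hθ.mem hu) h1) (inv_mem (hθ.mem hu)), ?_⟩
      intro b hb
      obtain ⟨a, ha, rfl⟩ := (hmemA2 b).1 hb
      have h3 : θ (u⁻¹ * a * u) = (θ u)⁻¹ * θ a * θ u := by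
        have h4 : u⁻¹ * a * u = u⁻¹ * a * u⁻¹⁻¹ := by rw [inv_inv]
        rw [h4, hθ.map_conj (inv_mem hu) (hAP ha), hθ.map_inv hu, inv_inv]
      have h4 : (θ u)⁻¹ * θ a * θ u ∈ A2 := by
        rw [← h3]
        refine (hmemA2 _).2 ⟨_, ?_, rfl⟩
        have := hnA u⁻¹ (inv_mem hu) a ha
        rwa [inv_inv] at this
      have h5 := h2 _ h4
      calc θ a * (θ u * x * (θ u)⁻¹) = θ u * (((θ u)⁻¹ * θ a * θ u) * x) * (θ u)⁻¹ := by group
        _ = θ u * (x * ((θ u)⁻¹ * θ a * θ u)) * (θ u)⁻¹ := by rw [h5]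
        _ = θ u * x * (θ u)⁻¹ * θ a := by group
    have hlt := lt_sup_inf_normalizer hS hP3 hC2S hnorm hC
    have hinv : IsMap F (img P θ) (minv P θ) := hθ.minv_isMap
    have hinvimg : img (img P θ) (minv P θ) = P := hθ.img_minv
    have hRext0 : ∀ n ∈ FusionSystem.centralizerIn S A2 ⊓ normalizer (img P θ : Set Ω), InExt S (img P θ) (minv P θ) n := by
      intro n hn
      obtain ⟨hnC, hnN⟩ := hn
      obtain ⟨hnS, hnc⟩ := mem_centralizerIn.1 hnC
      have hconj : ∀ y ∈ img P θ, n * y * n⁻¹ ∈ img P θ := fun y hy => (mem_normalizer_iff.1 hnN y).1 hy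
      have h1 : IsMap F P (fun x => minv P θ (n * θ x * n⁻¹)) := by
        have h2 : IsMap F P (fun x => n * θ x * n⁻¹) := (isMap_conj hP3 hnS).comp hθ (fun x hx => subset_img hx)
        exact hinv.comp h2 (fun x hx => hconj _ (subset_img hx))
      have h2 : img P (fun x => minv P θ (n * θ x * n⁻¹)) = P := by
        apply h1.img_eq
        intro x hx
        exact hθ.minv_mem (hconj _ (subset_img hx))
      obtain ⟨-, h, hh, hh'⟩ := d.isMap_of_fix h1 h2 (fun a ha => by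
        show minv P θ (n * θ a * n⁻¹) = a
        have h3 : θ a * n = n * θ a := hnc _ ((hmemA2 _).2 ⟨a, ha, rfl⟩)
        rw [← h3, mul_inv_cancel_right, hθ.minv_apply (hAP ha)])
      refine ⟨hnS, hnN, h, hh, ?_⟩
      intro y hy
      obtain ⟨x, hx, rfl⟩ := hθ.mem_img.1 hy
      rw [hθ.minv_apply hx]
      exact hh' x hx
    have hRext : ∀ n ∈ img P θ ⊔ (FusionSystem.centralizerIn S A2 ⊓ normalizer (img P θ : Set Ω)), InExt S (img P θ) (minv P θ) n := by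
      have hle : img P θ ⊔ (FusionSystem.centralizerIn S A2 ⊓ normalizer (img P θ : Set Ω)) ≤
          FusionSystem.extender S (img P θ) hinv.hom := by
        refine sup_le (le_extender_hom hinv) ?_
        intro n hn
        exact (mem_extender_hom hinv).2 (hRext0 n hn)
      exact fun n hn => (mem_extender_hom hinv).1 (hle hn)
    obtain ⟨g, hg, hgx⟩ := recep_exists_extend_of_le (sat_receptive' hS d.hF d.hP) hinv hinvimg hlt.le hRext
    have hRS : img P θ ⊔ (FusionSystem.centralizerIn S A2 ⊓ normalizer (img P θ : Set Ω)) ≤ S := hg.le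
    have h1 := card_lt_of_lt hRS hlt
    rw [hθ.card_img] at h1
    have h2 := d.IH _ _ h1 hg
    have h3 : IsMap E (img P θ) (minv P θ) := (h2.mono hlt.le).congr hgx
    have h4 := h3.minv_isMap
    rw [hinvimg] at h4
    refine h4.congr (fun x hx => ?_)
    have h5 := h3.minv_apply (subset_img hx : θ x ∈ img P θ)
    rwa [hθ.minv_apply hx] at h5

/-- the automorphism group of a fully normalized subgroup lies in `E` -/
theorem key [Finite S] [hp : Fact p.Prime] (hS : IsPGroup p S) {E F : FusionSystem S} (hE : E.IsSaturated p) (hF : F.IsSaturated p)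
    (hEF : ∀ (P : Subgroup Ω) (f : Ω → Ω), IsMap E P f → IsMap F P f) {W : Subgroup Ω} (hW : F.StronglyClosed W)
    (hWp : ∀ (P : Subgroup Ω) (α : MulAut P), P ≤ S → α ∈ F.autGroup P → (orderOf α).Coprime p → ∀ x ∈ P, x⁻¹ * ofAut α x ∈ W)
    {m : ℕ} (hm : p ^ m ≠ 2) (hm1 : 1 ≤ m) (hm2 : p = 2 → 2 ≤ m)
    (hsmall : ∀ (A : Subgroup Ω) (f : Ω → Ω), A ≤ W → (∀ a ∈ A, ∀ b ∈ A, a * b = b * a) → (∀ a ∈ A, a ^ p ^ m = 1) → IsMap F A f → IsMap E A f)
    {P : Subgroup Ω} (hP : F.IsFullyNormalized P)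
    (IH : ∀ (R : Subgroup Ω) (f : Ω → Ω), Nat.card P < Nat.card R → IsMap F R f → IsMap E R f) :
    ∀ α ∈ F.autGroup P, IsMap E P (ofAut α) := by
  intro α hα
  have hfP : Finite P := finite_of_le hP.1
  obtain ⟨A, hA, hAc, hAe, hAN, hAC⟩ := exists_A hS hW hm hP.1
  have hAP : A ≤ P := hA.trans inf_le_left
  have hAW : A ≤ W := hA.trans inf_le_right
  have hAS : A ≤ S := hAP.trans hP.1
  have hY := fixY_le hS hF hWp hm1 hm2 hP hA hAc hAN hAC
  obtain ⟨ρ, A2, hρ, himg, hA2⟩ : ∃ (ρ : Ω → Ω) (A2 : Subgroup Ω), IsMap E (FusionSystem.normalizerIn S A) ρ ∧ img A ρ = A2 ∧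
      F.IsFullyNormalized A2 := by
    by_cases hPS : P = S
    · refine ⟨id, A, isMap_id (normalizerIn_le A), img_id, hAS, ?_⟩
      intro Q hQ
      have h1 : FusionSystem.normalizerIn S A = S := by
        apply le_antisymm (normalizerIn_le A)
        intro x hx
        refine mem_normalizerIn.2 ⟨hx, hAN (mem_normalizerIn.2 ⟨hx, ?_⟩)⟩
        exact le_normalizer (by rw [hPS]; exact hx)
      rw [h1]
      exact Subgroup.card_le_of_le (normalizerIn_le Q)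
    · obtain ⟨A2, hc, hA2⟩ := exists_fullyNormalized (F := F) hAS
      obtain ⟨ρ, hρ, himg, -⟩ := sat_exists_normalizer_map hS hF hA2 hc
      refine ⟨ρ, A2, IH _ _ ?_ hρ, himg, hA2⟩
      have h1 := card_lt_of_lt (normalizerIn_le P) (lt_normalizerIn hS (lt_of_le_of_ne hP.1 hPS))
      refine h1.trans_le ?_
      have hf : Finite (FusionSystem.normalizerIn S A) := finite_of_le (normalizerIn_le A)
      refine Subgroup.card_le_of_le (fun x hx => ?_)
      exact mem_normalizerIn.2 ⟨(mem_normalizerIn.1 hx).1, hAN hx⟩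
  have d : Dat E F p P A A2 ρ := ⟨hE, hF, hEF, hP, hAP, hY, hAN, IH, hρ, himg, hA2⟩
  have hf : IsMap F P (ofAut α) := isMap_ofAut hP.1 hα
  have hfA : IsMap E A (ofAut α) := hsmall A _ hAW hAc hAe (hf.mono hAP)
  have hBP : img A (ofAut α) ≤ P := by
    intro y hy
    obtain ⟨a, ha, rfl⟩ := hfA.mem_img.1 hy
    exact ofAut_mem α (hAP ha)
  have hinvE : IsMap E (img A (ofAut α)) (minv A (ofAut α)) := hfA.minv_isMap
  have hρA : IsMap E A ρ := hρ.mono (hAP.trans d.P_le)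
  have hκ : IsMap E (img A (ofAut α)) (fun y => ρ (minv A (ofAut α) y)) := hρA.comp hinvE (fun y hy => hfA.minv_mem hy)
  have hκimg : img (img A (ofAut α)) (fun y => ρ (minv A (ofAut α) y)) = A2 := by
    rw [← himg]
    have h1 := hinvE.img_comp (g := ρ)
    rw [h1, hfA.img_minv]
  have hA2E : E.IsFullyNormalized A2 := ⟨hA2.1, fun Q hQ => by
    obtain ⟨g, hg, hgQ⟩ := isConj_iff.1 hQ
    exact hA2.2 Q (isConj_iff.2 ⟨g, hEF _ _ hg, hgQ⟩)⟩
  have hρP : IsMap E P ρ := hρ.mono d.P_le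
  have hext : ∀ n ∈ P, InExt S (img A (ofAut α)) (fun y => ρ (minv A (ofAut α) y)) n := by
    intro n hn
    obtain ⟨u, hu, rfl⟩ : ∃ u ∈ P, ofAut α u = n := ⟨ofAut α⁻¹ n, ofAut_mem _ hn, ofAut_apply_inv α hn⟩
    have hconj : ∀ v ∈ P, ∀ a ∈ A, v * a * v⁻¹ ∈ A := fun v hv a ha =>
      (mem_normalizer_iff.1 (mem_normalizerIn.1 (d.P_le hv)).2 a).1 ha
    refine ⟨hP.1 hn, ?_, ρ u, hρP.mem hu, ?_⟩
    · have hfB : Finite (img A (ofAut α)) := finite_of_le hfA.img_le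
      apply mem_normalizer_of_conj
      intro y hy
      obtain ⟨a, ha, rfl⟩ := hfA.mem_img.1 hy
      rw [← hf.map_conj hu (hAP ha)]
      exact subset_img (hconj u hu a ha)
    · intro y hy
      obtain ⟨a, ha, rfl⟩ := hfA.mem_img.1 hy
      show ρ (minv A (ofAut α) (ofAut α u * ofAut α a * (ofAut α u)⁻¹)) = ρ u * ρ (minv A (ofAut α) (ofAut α a)) * (ρ u)⁻¹
      rw [← hf.map_conj hu (hAP ha), hfA.minv_apply (hconj u hu a ha), hfA.minv_apply ha, hρP.map_conj hu (hAP ha)]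
  obtain ⟨ψ, hψ, hψκ⟩ := recep_exists_extend_of_le (sat_receptive' hS hE hA2E) hκ hκimg hBP hext
  have hθ : IsMap F P (fun x => ψ (ofAut α x)) := (hEF _ _ hψ).comp hf (fun x hx => ofAut_mem α hx)
  have hθE : IsMap E P (fun x => ψ (ofAut α x)) := d.isMap_theta hS hθ (fun a ha => by
    show ψ (ofAut α a) = ρ a
    rw [hψκ _ (subset_img ha)]
    show ρ (minv A (ofAut α) (ofAut α a)) = ρ a
    rw [hfA.minv_apply ha])
  have h1 : IsMap E P (fun x => minv P ψ (ψ (ofAut α x))) := hψ.minv_isMap.comp hθE (fun x hx => subset_img (ofAut_mem α hx))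
  exact h1.congr (fun x hx => hψ.minv_apply (ofAut_mem α hx))

/-- **small exponent abelian subgroups of `W` control fusion** -/
theorem main [Finite S] [hp : Fact p.Prime] (hS : IsPGroup p S) {E F : FusionSystem S} (hE : E.IsSaturated p) (hF : F.IsSaturated p)
    (hEF : ∀ (P : Subgroup Ω) (f : Ω → Ω), IsMap E P f → IsMap F P f) {W : Subgroup Ω} (hW : F.StronglyClosed W)
    (hWp : ∀ (P : Subgroup Ω) (α : MulAut P), P ≤ S → α ∈ F.autGroup P → (orderOf α).Coprime p → ∀ x ∈ P, x⁻¹ * ofAut α x ∈ W)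
    {m : ℕ} (hm : p ^ m ≠ 2) (hm1 : 1 ≤ m) (hm2 : p = 2 → 2 ≤ m)
    (hsmall : ∀ (A : Subgroup Ω) (f : Ω → Ω), A ≤ W → (∀ a ∈ A, ∀ b ∈ A, a * b = b * a) → (∀ a ∈ A, a ^ p ^ m = 1) → IsMap F A f → IsMap E A f)
    (P : Subgroup Ω) (f : Ω → Ω) (hf : IsMap F P f) : IsMap E P f := by
  have key2 : ∀ k : ℕ, ∀ (P : Subgroup Ω) (f : Ω → Ω), Nat.card S - Nat.card P = k → IsMap F P f → IsMap E P f := by
    intro k
    induction k using Nat.strong_induction_on with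
    | _ k ih =>
      intro P f hk hf
      have hcP : Nat.card P ≤ Nat.card S := Subgroup.card_le_of_le hf.le
      have IH : ∀ (R : Subgroup Ω) (f : Ω → Ω), Nat.card P < Nat.card R → IsMap F R f → IsMap E R f := by
        intro R g hR hg
        have hcR : Nat.card R ≤ Nat.card S := Subgroup.card_le_of_le hg.le
        exact ih (Nat.card S - Nat.card R) (by omega) R g rfl hg
      by_cases hPS : P = S
      · subst hPS
        have himg : img P f = P := hf.img_eq (fun x hx => hf.mem hx)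
        obtain ⟨γ, hγ, hγf⟩ := hf.exists_aut himg
        exact (key hS hE hF hEF hW hWp hm hm1 hm2 hsmall isFullyNormalized_self IH γ hγ).congr hγf
      · obtain ⟨Q, hPQ, hQ⟩ := exists_fullyNormalized (F := F) hf.le
        have hcard : Nat.card Q = Nat.card P := by
          obtain ⟨g, hg, rfl⟩ := isConj_iff.1 hPQ
          exact hg.card_img
        exact alperin_reduce hS hF hPS IH hPQ hQ (key hS hE hF hEF hW hWp hm hm1 hm2 hsmall hQ (by rw [hcard]; exact IH)) hf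
  exact key2 _ P f rfl hf

end Cfsg.Agent.H72.BGH
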