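import Mathlib
import Cfsg.Agent.Glaub.Cyclic

/-!
A variant of the values of canonical extensions (Glauberman correspondence, cyclic group).
-/

set_option autoImplicit false
set_option linter.unusedSectionVars false
set_option linter.style.haveILetI false

universe u v w

namespace Cfsg.Agent.H72.EC

open scoped ComplexConjugate BigOperators
open Cfsg Cfsg.Agent.CharBase Cfsg.Agent.Char Cfsg.Agent.Glaub

variable {Γ : Type u} [Group Γ] [Fintype Γ] (G : Subgroup Γ) [hGn : G.Normal] [Fintype G]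
  (S C : Subgroup Γ) [Fintype C]

/-- the same value at all generators -/
theorem pow_gen' (hcop : (Nat.card G).Coprime G.index) (hcopS : (Nat.card G).Coprime (Nat.card S))
    (hidx : ∀ k : ℕ, k.Coprime (Nat.card S) → k.Coprime G.index)
    (hC : C = G ⊓ Subgroup.centralizer (S : Set Γ)) (hCG : C ≤ G)
    (χh : IrrCharacter Γ) (hirr : IsIrrCharacter G (fun g : G => (χh : Γ → ℂ) g))
    (hdet : (detOrder (χh : Γ → ℂ)).Coprime G.index) (c : C) (s : S) {j : ℕ}
    (hj : j.Coprime (Nat.card S)) :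
    (χh : Γ → ℂ) ((c : Γ) * (s : Γ) ^ j) = (χh : Γ → ℂ) ((c : Γ) * s) := by
  have hcop' : (Nat.card G).Coprime (Nat.card S) := hcopS
  obtain ⟨k, hk1, hk2⟩ := Nat.chineseRemainder hcop' 1 j
  have hcard : Nat.card Γ = Nat.card G * G.index := (Subgroup.card_mul_index G).symm
  have hkG : k.Coprime (Nat.card G) := by
    have := hk1.gcd_eq
    rw [Nat.gcd_one_left] at this
    exact this
  have hkS : k.Coprime (Nat.card S) := by
    have := hk2.gcd_eq
    unfold Nat.Coprime
    rw [this]; exact hj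
  have hkΓ : k.Coprime (Nat.card Γ) := by rw [hcard]; exact hkG.mul_right (hidx k hkS)
  have h1 := aut_fix G hcop χh hirr hdet hk1 hkΓ ((c : Γ) * s)
  rw [← h1]
  have hcomm : Commute (c : Γ) (s : Γ) := comm_C_S G S C hC c s s.2
  rw [hcomm.mul_pow]
  have e1 : (c : Γ) ^ k = c := by
    have h2 : ((⟨c, hCG c.2⟩ : G) ^ k) = (⟨c, hCG c.2⟩ : G) ^ (1 : ℕ) := by
      rw [pow_eq_pow_iff_modEq]
      exact hk1.of_dvd (orderOf_dvd_natCard _)
    rw [pow_one] at h2
    exact congrArg Subtype.val h2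
  have e2 : (s : Γ) ^ k = (s : Γ) ^ j := by
    have h2 : s ^ k = s ^ j := by
      rw [pow_eq_pow_iff_modEq]
      exact hk2.of_dvd (orderOf_dvd_natCard _)
    exact congrArg Subtype.val h2
  rw [e1, e2]

/-- **Values of the canonical extension.** -/
theorem exists_beta' [Fintype S] (hcop : (Nat.card G).Coprime G.index) (hcopS : (Nat.card G).Coprime (Nat.card S))
    (hidx : ∀ k : ℕ, k.Coprime (Nat.card S) → k.Coprime G.index)
    (hC : C = G ⊓ Subgroup.centralizer (S : Set Γ)) (hCG : C ≤ G) (s : S)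
    (hs : Subgroup.zpowers (s : Γ) = S)
    (χh : IrrCharacter Γ) (hirr : IsIrrCharacter G (fun g : G => (χh : Γ → ℂ) g))
    (hdet : (detOrder (χh : Γ → ℂ)).Coprime G.index) :
    ∃ (β : IrrCharacter C) (ε : ℤ), (ε = 1 ∨ ε = -1) ∧
      (∀ c : C, (χh : Γ → ℂ) ((c : Γ) * s) = (ε : ℂ) * (β : C → ℂ) c) := by
  classical
  haveI : Fintype (IrrCharacter C) := Fintype.ofFinite _
  have hScomm : ∀ a b : S, a * b = b * a := by
    intro a b
    have ha : (a : Γ) ∈ Subgroup.zpowers (s : Γ) := by rw [hs]; exact a.2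
    have hb : (b : Γ) ∈ Subgroup.zpowers (s : Γ) := by rw [hs]; exact b.2
    obtain ⟨m, hm⟩ := Subgroup.mem_zpowers_iff.mp ha
    obtain ⟨n, hn⟩ := Subgroup.mem_zpowers_iff.mp hb
    apply Subtype.ext
    rw [Subgroup.coe_mul, Subgroup.coe_mul, ← hm, ← hn, ← zpow_add, ← zpow_add, add_comm]
  -- integrality
  have hint : ∀ β : IrrCharacter C, ∃ m : ℤ, gam S C (χh : Γ → ℂ) (β : C → ℂ) s = m := by
    intro β
    have hγ := gam_isCharacter G S C hC hScomm χh β
    refine exists_int_of_fixed Nat.card_pos.ne' _ (char_mem_closure hγ s (dvd_refl _)) ?_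
    intro k σ hk hσ
    rw [map_char_eq hγ s (orderOf_dvd_natCard s) σ hσ]
    unfold gam
    congr 1
    funext c
    have := pow_gen' G S C hcop hcopS hidx hC hCG χh hirr hdet c s hk
    rw [← this]
    rfl
  choose m hm using hint
  set F : C → ℂ := fun c => (χh : Γ → ℂ) ((c : Γ) * s) with hF
  have hFcf : IsClassFunction C F := by
    intro c h
    have h1 := irr_isClassFunction χh ((c : Γ) * s) (h : Γ)
    simp only [hF]
    rw [← h1]
    congr 1
    have h2 := comm_C_S G S C hC (h⁻¹ : C) s s.2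
    rw [Subgroup.coe_inv] at h2
    rw [Subgroup.coe_mul, Subgroup.coe_mul, Subgroup.coe_inv, mul_assoc, h2]
    group
  -- norm
  have hord : (orderOf (s : Γ)).Coprime (Nat.card G) := by
    rw [← Nat.card_zpowers, hs]
    exact hcopS.symm
  have hCs : ∀ n ∈ G, (n ∈ C ↔ n * s = s * n) := by
    intro n hn
    constructor
    · intro h; exact comm_C_S G S C hC ⟨n, h⟩ s s.2
    · intro h
      rw [hC]
      refine ⟨hn, Subgroup.mem_centralizer_iff.mpr ?_⟩
      intro t ht
      have ht' : t ∈ Subgroup.zpowers (s : Γ) := by rw [hs]; exact ht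
      obtain ⟨j, rfl⟩ := Subgroup.mem_zpowers_iff.mp ht'
      have hc : Commute n (s : Γ) := h
      exact (hc.zpow_right j).symm
  have hnorm : classInner F F = 1 := by
    have h1 := H79.sum_coset_eq G C hCG (s : Γ) hord hCs
      (fun x => (χh : Γ → ℂ) x * (χh : Γ → ℂ) x⁻¹) (fun x g => by
        change (χh : Γ → ℂ) (g * x * g⁻¹) * (χh : Γ → ℂ) (g * x * g⁻¹)⁻¹ = _
        have e : (g * x * g⁻¹)⁻¹ = g * x⁻¹ * g⁻¹ := by group
        rw [e, irr_isClassFunction χh, irr_isClassFunction χh])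
    have h2 := H79.sum_coset_mul_inv G χh hirr (s : Γ)
    have hG0 : (Nat.card G : ℂ) ≠ 0 := Nat.cast_ne_zero.mpr Nat.card_pos.ne'
    have hC0 : (Nat.card C : ℂ) ≠ 0 := Nat.cast_ne_zero.mpr Nat.card_pos.ne'
    have h3 : (Nat.card C : ℂ) * (Nat.card G : ℂ) = (Nat.card G : ℂ) *
        ∑ c : C, (χh : Γ → ℂ) ((c : Γ) * s) * (χh : Γ → ℂ) ((c : Γ) * s)⁻¹ := by
      calc (Nat.card C : ℂ) * (Nat.card G : ℂ) = (Nat.card C : ℂ) *
            ∑ n : G, (χh : Γ → ℂ) ((n : Γ) * s) * (χh : Γ → ℂ) ((n : Γ) * s)⁻¹ := by rw [h2]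
        _ = _ := h1
    have h4 : ∑ c : C, (χh : Γ → ℂ) ((c : Γ) * s) * (χh : Γ → ℂ) ((c : Γ) * s)⁻¹ =
        (Nat.card C : ℂ) := by
      have : (Nat.card G : ℂ) * (∑ c : C, (χh : Γ → ℂ) ((c : Γ) * s) *
        (χh : Γ → ℂ) ((c : Γ) * s)⁻¹) = (Nat.card G : ℂ) * (Nat.card C : ℂ) := by
        rw [← h3]; ring
      exact mul_left_cancel₀ hG0 this
    unfold classInner
    have h5 : ∑ c : C, F c * conj (F c) = (Nat.card C : ℂ) := by
      rw [← h4]
      refine Finset.sum_congr rfl fun c _ => ?_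
      simp only [hF]
      rw [irr_inv]
    rw [h5, inv_mul_cancel₀ hC0]
  have hsum : ∑ β : IrrCharacter C, m β ^ 2 = 1 := by
    have h1 := classInner_eq_sum (f := F) (f' := F) hFcf
    rw [hnorm] at h1
    have h2 : ∀ β : IrrCharacter C, classInner F (β : C → ℂ) * classInner (β : C → ℂ) F =
        ((m β ^ 2 : ℤ) : ℂ) := by
      intro β
      have e1 : classInner F (β : C → ℂ) = m β := hm β
      have e2 : classInner (β : C → ℂ) F = m β := by
        rw [← CharBase.classInner_conj_symm, e1, map_intCast]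
      rw [e1, e2]; push_cast; ring
    simp only [h2] at h1
    exact_mod_cast h1.symm
  -- exactly one nonzero coefficient
  obtain ⟨β, hβ⟩ : ∃ β, m β ≠ 0 := by
    by_contra hcon
    push Not at hcon
    simp [hcon] at hsum
  have hsplit := Finset.add_sum_erase Finset.univ (fun β => m β ^ 2) (Finset.mem_univ β)
  rw [hsum] at hsplit
  have hnn : 0 ≤ ∑ β' ∈ Finset.univ.erase β, m β' ^ 2 := Finset.sum_nonneg fun _ _ => sq_nonneg _
  have hpos : 0 < m β ^ 2 := by positivity
  have hsq : m β ^ 2 = 1 := by linarith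
  have hrest : ∑ β' ∈ Finset.univ.erase β, m β' ^ 2 = 0 := by linarith
  have hz : ∀ β', β' ≠ β → m β' = 0 := by
    intro β' hne
    rw [Finset.sum_eq_zero_iff_of_nonneg (fun _ _ => sq_nonneg _)] at hrest
    exact pow_eq_zero_iff two_ne_zero |>.mp
      (hrest β' (Finset.mem_erase.mpr ⟨hne, Finset.mem_univ _⟩))
  refine ⟨β, m β, ?_, fun c => ?_⟩
  · have hfac : (m β - 1) * (m β + 1) = 0 := by linear_combination hsq
    rcases mul_eq_zero.mp hfac with h | h
    · left; linarith
    · right; linarith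
  · have h1 := classFun_apply_eq_sum hFcf c
    rw [Finset.sum_eq_single β] at h1
    · rw [show classInner F (β : C → ℂ) = m β from hm β] at h1
      exact h1
    · intro β' _ hne
      rw [show classInner F (β' : C → ℂ) = m β' from hm β', hz β' hne]
      simp
    · intro h; exact absurd (Finset.mem_univ _) h

end Cfsg.Agent.H72.EC
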