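import Mathlib
import Cfsg.Agent.H72.FusTransv
import Cfsg.Agent.Extra.Basic
import Cfsg.Agent.MaxClass.Pres
set_option autoImplicit false

/-!
# `p`-groups with derived group of order `p` and an elementary abelian maximal subgroup (helper72)
-/

namespace Cfsg.Agent.H72

open Cfsg
open scoped commutatorElement

variable {G : Type*} [Group G] {p : ℕ}

theorem orderOf_eq_of_pow [Fact p.Prime] {c : G} (hc : c ^ p = 1) (hc1 : c ≠ 1) : orderOf c = p :=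
  orderOf_eq_prime hc hc1

theorem exists_complement_elem [Finite G] [Fact p.Prime] (C : Subgroup G) (hab : ∀ a ∈ C, ∀ b ∈ C, a * b = b * a)
    (hp : ∀ a ∈ C, a ^ p = 1) {z : G} (hz : z ∈ C) (hz1 : z ≠ 1) :
    ∃ A : Subgroup G, A ≤ C ∧ z ∉ A ∧ ∀ c ∈ C, ∃ a ∈ A, ∃ k : ℤ, c = a * z ^ k := by
  have hne : {A : Subgroup G | A ≤ C ∧ z ∉ A}.Nonempty := ⟨⊥, bot_le, fun h => hz1 (Subgroup.mem_bot.1 h)⟩
  obtain ⟨A, hA⟩ := (Set.toFinite {A : Subgroup G | A ≤ C ∧ z ∉ A}).exists_maximal hne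
  refine ⟨A, hA.prop.1, hA.prop.2, fun c hc => ?_⟩
  by_cases hcA : c ∈ A
  · exact ⟨c, hcA, 0, by simp⟩
  have hc1 : c ≠ 1 := fun h => hcA (h ▸ A.one_mem)
  have hAC := hA.prop.1
  have hcom : ∀ a ∈ A, ∀ i : ℤ, c ^ i * a = a * c ^ i := fun a ha i => hab _ (C.zpow_mem hc i) _ (hAC ha)
  let H : Subgroup G :=
    { carrier := {g | ∃ a ∈ A, ∃ i : ℤ, g = a * c ^ i}
      one_mem' := ⟨1, A.one_mem, 0, by simp⟩
      mul_mem' := by
        rintro _ _ ⟨a, ha, i, rfl⟩ ⟨b, hb, j, rfl⟩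
        refine ⟨a * b, A.mul_mem ha hb, i + j, ?_⟩
        calc a * c ^ i * (b * c ^ j) = a * (c ^ i * b) * c ^ j := by group
          _ = a * (b * c ^ i) * c ^ j := by rw [hcom b hb i]
          _ = a * b * c ^ (i + j) := by rw [zpow_add]; group
      inv_mem' := by
        rintro _ ⟨a, ha, i, rfl⟩
        refine ⟨a⁻¹, A.inv_mem ha, -i, ?_⟩
        rw [mul_inv_rev, ← zpow_neg]
        exact hcom _ (A.inv_mem ha) _ }
  have hHC : H ≤ C := by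
    rintro _ ⟨a, ha, i, rfl⟩
    exact C.mul_mem (hAC ha) (C.zpow_mem hc i)
  have hAH : A ≤ H := fun a ha => ⟨a, ha, 0, by simp⟩
  have hcH : c ∈ H := ⟨1, A.one_mem, 1, by simp⟩
  have hzH : z ∈ H := by
    by_contra hcon
    have : H ≤ A := hA.le_of_ge (y := H) ⟨hHC, hcon⟩ hAH
    exact hcA (this hcH)
  obtain ⟨a, ha, i, hi⟩ := hzH
  have hci : c ^ i ≠ 1 := by
    intro h
    rw [h, mul_one] at hi
    exact hA.prop.2 (hi ▸ ha)
  obtain ⟨m, hm⟩ := Subgroup.mem_zpowers_iff.1 (zpowers_of_mem_ne_one (orderOf_eq_of_pow (hp c hc) hc1)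
    (Subgroup.zpow_mem _ (Subgroup.mem_zpowers c) i) hci)
  refine ⟨(a⁻¹) ^ m, A.zpow_mem (A.inv_mem ha) m, m, ?_⟩
  have h1 : c ^ i = a⁻¹ * z := by rw [hi]; group
  have h2 : Commute a⁻¹ z := hab _ (C.inv_mem (hAC ha)) _ hz
  rw [← hm, h1, h2.mul_zpow]

/-- the decomposition data -/
theorem exists_decomp [Finite G] [Fact p.Prime] (hG : IsPGroup p G) (D : Subgroup G)
    (hDab : ∀ a ∈ D, ∀ b ∈ D, a * b = b * a) (hDp : ∀ a ∈ D, a ^ p = 1) {z x₀ d₀ : G} (hz : orderOf z = p)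
    (hzc : ∀ x, x * z = z * x) (hzD : z ∈ D) (hcomm : ∀ x y : G, ⁅x, y⁆ ∈ Subgroup.zpowers z)
    (hd₀ : d₀ ∈ D) (hx₀ : x₀ ^ p = 1) (hne : ⁅x₀, d₀⁆ ≠ 1) (hP : ∀ x, ∃ k : ℤ, x * (x₀ ^ k)⁻¹ ∈ D) :
    ∃ E A : Subgroup G, Nat.card E = p ^ 3 ∧ (∀ g ∈ E, ∃ i j k : ℤ, g = x₀ ^ i * d₀ ^ j * z ^ k) ∧
      x₀ ∈ E ∧ d₀ ∈ E ∧ z ∈ E ∧ (∀ g ∈ E, g * x₀ = x₀ * g → g * d₀ = d₀ * g → g ∈ Subgroup.zpowers z) ∧
      (∀ a ∈ A, ∀ g : G, a * g = g * a) ∧ (∀ a ∈ A, a ^ p = 1) ∧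
      Nonempty (G ≃* E × A) := by
  have hpr := (Fact.out : p.Prime)
  have hzp : z ^ p = 1 := by rw [← hz]; exact pow_orderOf_eq_one z
  have hz1 : z ≠ 1 := by rintro rfl; rw [orderOf_one] at hz; exact hpr.one_lt.ne hz
  have hzc' : ∀ (k : ℤ) (x : G), z ^ k * x = x * z ^ k := fun k x =>
    ((Commute.zpow_right (show Commute x z from hzc x) k).eq).symm
  set c := ⁅x₀, d₀⁆ with hc
  have hcz := hcomm x₀ d₀
  have hzcm : z ∈ Subgroup.zpowers c := zpowers_of_mem_ne_one hz hcz hne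
  have hcc : ∀ x : G, Commute c x := by
    intro x
    obtain ⟨k, hk⟩ := Subgroup.mem_zpowers_iff.1 hcz
    rw [hc, ← hk]; exact hzc' k x
  have hco : orderOf c = p := by
    apply orderOf_eq_of_pow _ hne
    obtain ⟨k, hk⟩ := Subgroup.mem_zpowers_iff.1 hcz
    rw [hc, ← hk, ← zpow_natCast, ← zpow_mul, mul_comm, zpow_mul, zpow_natCast, hzp, one_zpow]
  have hxd : x₀ * d₀ * x₀⁻¹ = c * d₀ := by rw [hc, commutatorElement_def]; group
  -- conj by x₀ of d₀^j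
  have hconj1 : ∀ j : ℤ, x₀ * d₀ ^ j * x₀⁻¹ = c ^ j * d₀ ^ j := by
    intro j
    rw [← conj_zpow, hxd, (hcc d₀).mul_zpow]
  have hconj2 : ∀ i : ℤ, d₀ * x₀ ^ i * d₀⁻¹ = (c⁻¹) ^ i * x₀ ^ i := by
    intro i
    have h1 : d₀ * x₀ * d₀⁻¹ = c⁻¹ * x₀ := by rw [hc, commutatorElement_def]; group
    rw [← conj_zpow, h1, ((hcc x₀).inv_left).mul_zpow]
  have hd₀p := hDp d₀ hd₀
  -- the group C
  let C : Subgroup G := D ⊓ Subgroup.centralizer {x₀}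
  have hCmem : ∀ g, g ∈ C ↔ g ∈ D ∧ g * x₀ = x₀ * g := fun g => by
    show g ∈ D ⊓ Subgroup.centralizer {x₀} ↔ _
    rw [Subgroup.mem_inf, Subgroup.mem_centralizer_singleton_iff]
  have hCcen : ∀ a ∈ C, ∀ g : G, a * g = g * a := by
    intro a ha g
    obtain ⟨haD, hax⟩ := (hCmem a).1 ha
    obtain ⟨k, hk⟩ := hP g
    have h1 : g = g * (x₀ ^ k)⁻¹ * x₀ ^ k := by group
    rw [h1]
    have h2 : Commute a (g * (x₀ ^ k)⁻¹) := hDab a haD _ hk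
    have h3 : Commute a (x₀ ^ k) := Commute.zpow_right hax k
    exact (h2.mul_right h3).eq
  obtain ⟨A, hAC, hzA, hAz⟩ := exists_complement_elem C (fun a ha b hb => hDab a ((hCmem a).1 ha).1 b ((hCmem b).1 hb).1)
    (fun a ha => hDp a ((hCmem a).1 ha).1) ((hCmem z).2 ⟨hzD, (hzc x₀).symm⟩) hz1
  -- the group E
  have hswap : ∀ (j i : ℤ), ∃ m : ℤ, d₀ ^ j * x₀ ^ i = x₀ ^ i * d₀ ^ j * z ^ m := by
    intro j i
    obtain ⟨m, hm⟩ := Subgroup.mem_zpowers_iff.1 (hcomm ((d₀ ^ j)⁻¹) ((x₀ ^ i)⁻¹))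
    refine ⟨m, ?_⟩
    rw [hm, commutatorElement_def]; group
  let E : Subgroup G :=
    { carrier := {g | ∃ i j k : ℤ, g = x₀ ^ i * d₀ ^ j * z ^ k}
      one_mem' := ⟨0, 0, 0, by simp⟩
      mul_mem' := by
        rintro _ _ ⟨i, j, k, rfl⟩ ⟨i', j', k', rfl⟩
        obtain ⟨m, hm⟩ := hswap j i'
        refine ⟨i + i', j + j', m + k + k', ?_⟩
        calc x₀ ^ i * d₀ ^ j * z ^ k * (x₀ ^ i' * d₀ ^ j' * z ^ k')
            = x₀ ^ i * d₀ ^ j * (z ^ k * (x₀ ^ i' * d₀ ^ j')) * z ^ k' := by group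
          _ = x₀ ^ i * (d₀ ^ j * x₀ ^ i') * d₀ ^ j' * z ^ k * z ^ k' := by rw [hzc']; group
          _ = x₀ ^ i * x₀ ^ i' * d₀ ^ j * (z ^ m * d₀ ^ j') * z ^ k * z ^ k' := by rw [hm]; group
          _ = _ := by rw [hzc', zpow_add, zpow_add, zpow_add, zpow_add]; group
      inv_mem' := by
        rintro _ ⟨i, j, k, rfl⟩
        obtain ⟨m, hm⟩ := hswap (-j) (-i)
        refine ⟨-i, -j, m - k, ?_⟩
        calc (x₀ ^ i * d₀ ^ j * z ^ k)⁻¹ = z ^ (-k) * (d₀ ^ (-j) * x₀ ^ (-i)) := by group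
          _ = x₀ ^ (-i) * d₀ ^ (-j) * z ^ m * z ^ (-k) := by rw [hzc', hm]
          _ = _ := by rw [sub_eq_add_neg, zpow_add]; group }
  have hx₀E : x₀ ∈ E := ⟨1, 0, 0, by simp⟩
  have hd₀E : d₀ ∈ E := ⟨0, 1, 0, by simp⟩
  have hzE : z ∈ E := ⟨0, 0, 1, by simp⟩
  have hcent : ∀ g ∈ E, g * x₀ = x₀ * g → g * d₀ = d₀ * g → g ∈ Subgroup.zpowers z := by
    rintro _ ⟨i, j, k, rfl⟩ h1 h2
    -- commutes with `d₀`: p ∣ i
    have e1 : d₀ * (x₀ ^ i * d₀ ^ j * z ^ k) * d₀⁻¹ = (c⁻¹) ^ i * (x₀ ^ i * d₀ ^ j * z ^ k) := by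
      calc d₀ * (x₀ ^ i * d₀ ^ j * z ^ k) * d₀⁻¹ = (d₀ * x₀ ^ i * d₀⁻¹) * d₀ ^ j * (d₀ * z ^ k) * d₀⁻¹ := by group
        _ = (c⁻¹) ^ i * x₀ ^ i * d₀ ^ j * (z ^ k * d₀) * d₀⁻¹ := by rw [hconj2, hzc']
        _ = _ := by group
    have e2 : (c⁻¹) ^ i = 1 := by
      have h3 : d₀ * (x₀ ^ i * d₀ ^ j * z ^ k) * d₀⁻¹ = x₀ ^ i * d₀ ^ j * z ^ k := by rw [← h2]; group
      rw [h3] at e1
      exact (mul_eq_right.1 e1.symm)
    have hpi : (p : ℤ) ∣ i := by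
      rw [inv_zpow, inv_eq_one, ← orderOf_dvd_iff_zpow_eq_one, hco] at e2
      exact e2
    have e3 : x₀ * (x₀ ^ i * d₀ ^ j * z ^ k) * x₀⁻¹ = c ^ j * (x₀ ^ i * d₀ ^ j * z ^ k) := by
      have h5 : c ^ j * x₀ ^ i = x₀ ^ i * c ^ j := (((hcc x₀).zpow_left j).zpow_right i).eq
      calc x₀ * (x₀ ^ i * d₀ ^ j * z ^ k) * x₀⁻¹ = x₀ ^ i * (x₀ * d₀ ^ j * x₀⁻¹) * (x₀ * z ^ k * x₀⁻¹) := by group
        _ = x₀ ^ i * (c ^ j * d₀ ^ j) * (z ^ k) := by rw [hconj1, ← hzc']; group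
        _ = (x₀ ^ i * c ^ j) * d₀ ^ j * z ^ k := by group
        _ = _ := by rw [← h5]; group
    have e4 : c ^ j = 1 := by
      have h3 : x₀ * (x₀ ^ i * d₀ ^ j * z ^ k) * x₀⁻¹ = x₀ ^ i * d₀ ^ j * z ^ k := by rw [← h1]; group
      rw [h3] at e3
      exact (mul_eq_right.1 e3.symm)
    have hpj : (p : ℤ) ∣ j := by
      rw [← orderOf_dvd_iff_zpow_eq_one, hco] at e4
      exact e4
    have hx1 : x₀ ^ i = 1 := by
      obtain ⟨q, rfl⟩ := hpi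
      rw [zpow_mul, zpow_natCast, hx₀, one_zpow]
    have hd1 : d₀ ^ j = 1 := by
      obtain ⟨q, rfl⟩ := hpj
      rw [zpow_mul, zpow_natCast, hd₀p, one_zpow]
    rw [hx1, hd1, one_mul, one_mul]
    exact ⟨k, rfl⟩
  have hAcen : ∀ a ∈ A, ∀ g : G, a * g = g * a := fun a ha => hCcen a (hAC ha)
  -- cardinality of `E`
  have hEcard : Nat.card E = p ^ 3 := by
    have hEp : IsPGroup p E := hG.to_subgroup E
    obtain ⟨n, hn⟩ := IsPGroup.iff_card.1 hEp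
    -- upper bound
    have hup : Nat.card E ≤ p ^ 3 := by
      have hx₀o : orderOf x₀ ≤ p := orderOf_le_of_pow_eq_one hpr.pos hx₀
      have hd₀o : orderOf d₀ ≤ p := orderOf_le_of_pow_eq_one hpr.pos hd₀p
      let f : Subgroup.zpowers x₀ × Subgroup.zpowers d₀ × Subgroup.zpowers z → E := fun t =>
        ⟨(t.1 : G) * t.2.1 * t.2.2, E.mul_mem (E.mul_mem ((Subgroup.zpowers_le.2 hx₀E) t.1.2)
          ((Subgroup.zpowers_le.2 hd₀E) t.2.1.2)) ((Subgroup.zpowers_le.2 hzE) t.2.2.2)⟩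
      have hf : Function.Surjective f := by
        rintro ⟨_, i, j, k, rfl⟩
        exact ⟨(⟨x₀ ^ i, i, rfl⟩, ⟨d₀ ^ j, j, rfl⟩, ⟨z ^ k, k, rfl⟩), rfl⟩
      have h1 := Nat.card_le_card_of_surjective f hf
      rw [Nat.card_prod, Nat.card_prod, Nat.card_zpowers, Nat.card_zpowers, Nat.card_zpowers, hz] at h1
      calc Nat.card E ≤ orderOf x₀ * (orderOf d₀ * p) := h1
        _ ≤ p * (p * p) := Nat.mul_le_mul hx₀o (Nat.mul_le_mul_right p hd₀o)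
        _ = p ^ 3 := by ring
    have hn3 : n ≤ 3 := by
      rw [hn] at hup
      exact (Nat.pow_le_pow_iff_right hpr.one_lt).1 hup
    have hnc : ¬ (∀ a b : E, a * b = b * a) := by
      intro h
      apply hne
      rw [hc, commutatorElement_eq_one_iff_mul_comm]
      exact congrArg Subtype.val (h ⟨x₀, hx₀E⟩ ⟨d₀, hd₀E⟩)
    have hn2 : ¬ n ≤ 2 := by
      intro h
      apply hnc
      interval_cases n
      · rw [pow_zero] at hn
        have := (Nat.card_eq_one_iff_unique.1 hn).1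
        intro a b; exact Subsingleton.elim _ _
      · rw [pow_one] at hn
        have : IsCyclic E := isCyclic_of_prime_card hn
        intro a b
        exact IsMulCommutative.is_comm.comm a b
      · have := IsPGroup.commutative_of_card_eq_prime_sq hn
        intro a b
        exact this a b
    have : n = 3 := by omega
    rw [hn, this]
  refine ⟨E, A, hEcard, fun g hg => hg, hx₀E, hd₀E, hzE, hcent, hAcen, fun a ha => hDp a ((hCmem a).1 (hAC ha)).1, ?_⟩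
  -- the isomorphism
  let φ : E × A →* G :=
    { toFun := fun t => (t.1 : G) * t.2
      map_one' := by simp
      map_mul' := by
        rintro ⟨a, b⟩ ⟨a', b'⟩
        show ((a * a' : E) : G) * ((b * b' : A) : G) = (a : G) * b * (a' * b')
        rw [Subgroup.coe_mul, Subgroup.coe_mul]
        calc (a : G) * a' * (b * b') = a * (a' * b) * b' := by group
          _ = a * (b * a') * b' := by rw [hAcen b b.2 a']
          _ = _ := by group }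
  have hinj : Function.Injective φ := by
    rw [injective_iff_map_eq_one]
    rintro ⟨⟨e, he⟩, ⟨a, ha⟩⟩ h
    have h' : e * a = 1 := h
    have hea : e = a⁻¹ := eq_inv_of_mul_eq_one_left h'
    have heA : e ∈ A := by rw [hea]; exact A.inv_mem ha
    have h1 := hcent e he (hAcen e heA x₀) (hAcen e heA d₀)
    have he1 : e = 1 := by
      by_contra hcon
      have := zpowers_of_mem_ne_one hz h1 hcon
      exact hzA ((Subgroup.zpowers_le.2 heA) this)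
    have ha1 : a = 1 := by rw [he1, one_mul] at h'; exact h'
    subst he1
    subst ha1
    rfl
  have hsurj : Function.Surjective φ := by
    intro g
    obtain ⟨k, hk⟩ := hP g
    set d := g * (x₀ ^ k)⁻¹ with hd
    -- `d = c' * d₀ ^ l`
    obtain ⟨l0, hl0⟩ := Subgroup.mem_zpowers_iff.1 (hcomm x₀ d)
    obtain ⟨l, hl⟩ := Subgroup.mem_zpowers_iff.1 (Subgroup.zpow_mem _ hzcm l0)
    have hxdd : x₀ * d * x₀⁻¹ = c ^ l * d := by rw [hl, hl0, commutatorElement_def]; group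
    have hc' : d * (d₀ ^ l)⁻¹ ∈ C := by
      rw [hCmem]
      refine ⟨D.mul_mem hk (D.inv_mem (D.zpow_mem hd₀ l)), ?_⟩
      have h3 : x₀ * (d * (d₀ ^ l)⁻¹) * x₀⁻¹ = d * (d₀ ^ l)⁻¹ := by
        calc x₀ * (d * (d₀ ^ l)⁻¹) * x₀⁻¹ = (x₀ * d * x₀⁻¹) * (x₀ * d₀ ^ l * x₀⁻¹)⁻¹ := by group
          _ = c ^ l * d * (c ^ l * d₀ ^ l)⁻¹ := by rw [hxdd, hconj1]
          _ = c ^ l * d * (d₀ ^ l)⁻¹ * (c ^ l)⁻¹ := by group
          _ = c ^ l * (d * (d₀ ^ l)⁻¹ * (c ^ l)⁻¹) := by group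
          _ = c ^ l * ((c ^ l)⁻¹ * (d * (d₀ ^ l)⁻¹)) := by
              rw [((((hcc (d * (d₀ ^ l)⁻¹)).zpow_left l).inv_left).eq).symm]
          _ = _ := by group
      calc d * (d₀ ^ l)⁻¹ * x₀ = x₀ * (d * (d₀ ^ l)⁻¹) * x₀⁻¹ * x₀ := by rw [h3]
        _ = _ := by group
    obtain ⟨a, ha, m, ham⟩ := hAz _ hc'
    have hdeq : d = a * z ^ m * d₀ ^ l := by rw [← ham]; group
    refine ⟨(⟨z ^ m * d₀ ^ l * x₀ ^ k, E.mul_mem (E.mul_mem (E.zpow_mem hzE m) (E.zpow_mem hd₀E l)) (E.zpow_mem hx₀E k)⟩,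
      ⟨a, ha⟩), ?_⟩
    show z ^ m * d₀ ^ l * x₀ ^ k * a = g
    rw [← hAcen a ha]
    have : g = d * x₀ ^ k := by rw [hd]; group
    rw [this, hdeq]; group
  exact ⟨(MulEquiv.ofBijective φ ⟨hinj, hsurj⟩).symm⟩

end Cfsg.Agent.H72
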