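import Cfsg.Agent.Blk.Orth
import Cfsg.Agent.Char.ClassSum
import Cfsg.Agent.H4.CharKer
import Cfsg.Agent.CharBase.Basic

/-!
The character theoretic part of Kazarin's theorem: if `x` has order a power of `q`, class size a
power of `p ≠ q`, and `G` is generated by the conjugates of `x`, then `|G|` is a `{p, q}`-number.
-/

set_option autoImplicit false

namespace Cfsg.Agent.H72

open scoped ComplexConjugate
open Cfsg Cfsg.Agent.CharBase Cfsg.Agent.Blk

universe u

variable {G : Type u} [Group G]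

theorem isPBlock_principal (M : Ideal AlgInt) : IsPBlock M (principalBlock M G) :=
  ⟨oneIrr G, rfl⟩

/-- Key step: in the principal `r`-block every nontrivial character has degree divisible by `p`. -/
theorem dvd_degree_of_mem_principal [Finite G] {p q r a k : ℕ} (hp : p.Prime)
    {M : Ideal AlgInt} (hM : IsPModular r M) (hrp : r ≠ p) (hrq : r ≠ q) (hq : q.Prime)
    {x : G} (hxo : orderOf x = q ^ k) (hxi : (Subgroup.centralizer ({x} : Set G)).index = p ^ a)
    (hgen : Subgroup.normalClosure ({x} : Set G) = ⊤)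
    {n : ℕ} (ρ : Representation ℂ G (Fin n → ℂ)) (hρ : ρ.IsIrreducible)
    (hB : SameBlock M (fun _ : G => (1 : ℂ)) ρ.character) :
    p ∣ n ∨ ρ.character = fun _ => (1 : ℂ) := by
  have hMp := isPrime_of_isPModular hM
  by_cases hpn : p ∣ n
  · exact Or.inl hpn
  right
  have hfr : Module.finrank ℂ (Fin n → ℂ) = n := by simp
  have hr := hM.1
  have hrpa : ¬ r ∣ p ^ a := fun h => hrp ((Nat.prime_dvd_prime_iff_eq hr hp).1 (hr.dvd_of_dvd_pow h))
  have hcop : Nat.Coprime (Module.finrank ℂ (Fin n → ℂ)) (Subgroup.centralizer ({x} : Set G)).index := by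
    rw [hfr, hxi]
    exact (Nat.Coprime.pow_right a ((Nat.Prime.coprime_iff_not_dvd hp).2 hpn).symm)
  have hpos : 0 < n := by
    have := Char.finrank_pos_of_isIrreducible ρ
    rwa [hfr] at this
  have hn0 : (n : ℂ) ≠ 0 := by exact_mod_cast hpos.ne'
  have hB' := hB x
  have hc1 : centralChar (fun _ : G => (1 : ℂ)) x = (p : ℂ) ^ a := by
    unfold centralChar
    rw [hxi]; push_cast; simp
  have hchar1 : ρ.character 1 = (n : ℂ) := by
    rw [Representation.char_one, hfr]
  have hc2 : centralChar ρ.character x = (p : ℂ) ^ a * (ρ.character x / n) := by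
    unfold centralChar
    rw [hxi, hchar1]; push_cast; ring
  rw [hc1, hc2] at hB'
  have hpa : ¬ MemLocalIdeal M ((p : ℂ) ^ a) := by
    have := (mli_natCast_iff hM (p ^ a)).not.2 hrpa
    push_cast at this
    exact this
  rcases Char.character_eq_zero_or_norm_eq ρ x hcop with h0 | h1
  · rw [h0] at hB'
    simp only [zero_div, mul_zero, sub_zero] at hB'
    exact absurd hB' hpa
  rw [Char.rep_norm_character_eq_iff] at h1
  obtain ⟨ω, hω⟩ := h1
  have hω' : ρ x = ω • (1 : (Fin n → ℂ) →ₗ[ℂ] (Fin n → ℂ)) := hω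
  have hnt : Nontrivial (Fin n → ℂ) := Char.nontrivial_of_isIrreducible ρ
  have hpow : ∀ m : ℕ, ρ (x ^ m) = ω ^ m • (1 : (Fin n → ℂ) →ₗ[ℂ] (Fin n → ℂ)) := by
    intro m
    rw [map_pow, hω', smul_pow, one_pow]
  have hωq : ω ^ q ^ k = 1 := by
    have h2 := hpow (q ^ k)
    rw [← hxo, pow_orderOf_eq_one, map_one] at h2
    obtain ⟨v, hv⟩ := exists_ne (0 : Fin n → ℂ)
    have h3 := congrArg (fun f : (Fin n → ℂ) →ₗ[ℂ] (Fin n → ℂ) => f v) h2
    simp only [LinearMap.smul_apply, Module.End.one_apply] at h3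
    have h4 : (ω ^ orderOf x - 1) • v = 0 := by rw [sub_smul, one_smul, ← h3, sub_self]
    rw [hxo] at h4
    rcases smul_eq_zero.1 h4 with h5 | h5
    · exact sub_eq_zero.1 h5
    · exact absurd h5 hv
  have hcx : ρ.character x = n * ω := by
    show LinearMap.trace ℂ _ (ρ x) = _
    rw [hω', map_smul, LinearMap.trace_one, hfr, smul_eq_mul, mul_comm]
  rw [hcx, mul_div_cancel_left₀ _ hn0] at hB'
  have h2 : MemLocalIdeal M (ω - 1) := by
    have h3 : (p : ℂ) ^ a - (p : ℂ) ^ a * ω = -((p : ℂ) ^ a * (ω - 1)) := by ring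
    rw [h3] at hB'
    have h4 := mli_neg hB'
    rw [neg_neg] at h4
    have hωi : IsIntegral ℤ ω := by
      refine ⟨Polynomial.X ^ (q ^ k) - 1, Polynomial.monic_X_pow_sub_C 1 (pow_pos hq.pos k).ne', ?_⟩
      simp [hωq]
    have hωR : MemLocalRing M (ω - 1) := mlr_sub (mlr_of_isIntegral hωi) mlr_one
    have hpR : MemLocalRing M ((p : ℂ) ^ a) := mlr_pow (mlr_natCast p) a
    rcases mli_or_of_mul hpR hωR h4 with h5 | h5
    · exact absurd h5 hpa
    · exact h5
  have hrqk : ¬ r ∣ q ^ k := fun h => hrq ((Nat.prime_dvd_prime_iff_eq hr hq).1 (hr.dvd_of_dvd_pow h))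
  have hω1 : ω = 1 := eq_one_of_mli_sub_one hM hrqk hωq h2
  rw [hω1, one_smul] at hω'
  have hker : (⊤ : Subgroup G) ≤ ρ.toHomUnits.ker := by
    rw [← hgen]
    apply Subgroup.normalClosure_le_normal
    intro y hy
    rw [Set.mem_singleton_iff] at hy
    rw [hy, SetLike.mem_coe, MonoidHom.mem_ker]
    ext1
    exact hω'
  have hall : ∀ g : G, ρ g = 1 := by
    intro g
    have := hker (Subgroup.mem_top g)
    rw [MonoidHom.mem_ker] at this
    exact congrArg Units.val this
  -- so n = 1
  have hn1 : n = 1 := by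
    have : Fintype G := Fintype.ofFinite G
    have h5 := classInner_irr_self (G := G) ⟨ρ.character, n, ρ, hρ, rfl⟩
    have h6 : ∀ g : G, ρ.character g = (n : ℂ) := by
      intro g
      show LinearMap.trace ℂ _ (ρ g) = n
      rw [hall g, LinearMap.trace_one, hfr]
    have hc : (Nat.card G : ℂ) ≠ 0 := Nat.cast_ne_zero.2 Nat.card_pos.ne'
    simp only [classInner, h6, Complex.conj_natCast, Finset.sum_const, Finset.card_univ, nsmul_eq_mul,
      ← Nat.card_eq_fintype_card] at h5
    rw [← mul_assoc, inv_mul_cancel₀ hc, one_mul] at h5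
    have h7 : n * n = 1 := by exact_mod_cast h5
    exact Nat.eq_one_of_mul_eq_one_left h7
  funext g
  show LinearMap.trace ℂ _ (ρ g) = 1
  rw [hall g, LinearMap.trace_one, hfr, hn1, Nat.cast_one]

/-- Kazarin's argument: `|G|` is a `{p, q}`-number. -/
theorem not_dvd_card_of_primePow_class [Finite G] {p q r a k : ℕ} (hp : p.Prime) (hr : r.Prime)
    (hrp : r ≠ p) (hrq : r ≠ q) (hq : q.Prime)
    {x : G} (hxo : orderOf x = q ^ k) (hxi : (Subgroup.centralizer ({x} : Set G)).index = p ^ a)
    (hgen : Subgroup.normalClosure ({x} : Set G) = ⊤) : ¬ r ∣ Nat.card G := by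
  intro hdvd
  have : Fintype G := Fintype.ofFinite G
  have hfr : Fact r.Prime := ⟨hr⟩
  have hfp : Fact p.Prime := ⟨hp⟩
  obtain ⟨u, hu⟩ := exists_prime_orderOf_dvd_card' (G := G) r hdvd
  obtain ⟨M, hM⟩ := H4.exists_isPModular r
  obtain ⟨N, hN⟩ := H4.exists_isPModular p
  have hMp := isPrime_of_isPModular hM
  have hNp := isPrime_of_isPModular hN
  have h1 : ¬ r ∣ orderOf (1 : G) := by rw [orderOf_one]; exact fun h => hr.one_lt.ne' (Nat.dvd_one.1 h)
  have hw := weak_block_orthogonality hM (isPBlock_principal (G := G) M) h1 (y := u) (by rw [hu])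
  have hmem : oneIrr G ∈ principalBlock M G := fun g => by
    show MemLocalIdeal M (centralChar (fun _ : G => (1 : ℂ)) g - centralChar (fun _ : G => (1 : ℂ)) g)
    rw [sub_self]
    exact mli_zero
  have hins : principalBlock M G = insert (oneIrr G) (principalBlock M G \ {oneIrr G}) := by
    rw [Set.insert_sdiff_singleton, Set.insert_eq_of_mem hmem]
  rw [hins, finsum_mem_insert _ (by simp) (Set.toFinite _)] at hw
  have h2 : MemLocalIdeal N (∑ᶠ χ ∈ principalBlock M G \ {oneIrr G},
      (χ : G → ℂ) 1 * conj ((χ : G → ℂ) u)) := by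
    apply mli_finsum_mem
    rintro χ ⟨hχ, hχ1⟩
    obtain ⟨χ, n, ρ, hρ, rfl⟩ := χ
    have hB : SameBlock M (fun _ : G => (1 : ℂ)) ρ.character := hχ
    rcases dvd_degree_of_mem_principal hp hM hrp hrq hq hxo hxi hgen ρ hρ hB with h3 | h3
    · have h4 : ρ.character 1 = (n : ℂ) := by
        rw [Representation.char_one]; simp
      show MemLocalIdeal N (ρ.character 1 * conj (ρ.character u))
      rw [h4]
      apply mli_mul_right ((mli_natCast_iff hN n).2 h3)
      have h5 : conj (ρ.character u) = ρ.character u⁻¹ := by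
        have := irr_inv (G := G) ⟨ρ.character, n, ρ, hρ, rfl⟩ u
        exact this.symm
      rw [h5]
      exact mlr_of_isIntegral (irr_isIntegral (G := G) ⟨ρ.character, n, ρ, hρ, rfl⟩ u⁻¹)
    · exfalso
      apply hχ1
      rw [Set.mem_singleton_iff]
      apply Subtype.ext
      exact h3
  have h3 : (∑ᶠ χ ∈ principalBlock M G \ {oneIrr G},
      (χ : G → ℂ) 1 * conj ((χ : G → ℂ) u)) = -1 := by
    have h4 : ((oneIrr G : IrrCharacter G) : G → ℂ) 1 * conj (((oneIrr G : IrrCharacter G) : G → ℂ) u) = 1 := by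
      simp
    rw [h4] at hw
    linear_combination hw
  rw [h3] at h2
  have h4 := mli_neg h2
  rw [neg_neg] at h4
  exact not_mli_one h4

end Cfsg.Agent.H72
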