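import Cfsg.Agent.Fus.Saturated
import Cfsg.Agent.Fus.NormalChar
import Cfsg.Agent.Fus.ModelNorm
import Cfsg.Agent.Fus.LocalSat2
import Cfsg.Agent.Fus.Centric

set_option autoImplicit false
set_option linter.style.haveILetI false
set_option linter.unusedSectionVars false

/-!
# `O_p` of automizers, centric radical overgroups, quadratic automorphisms
-/

namespace Cfsg.Agent.H72

open Cfsg Cfsg.FusionSystem Cfsg.Agent.Fus

section Core

variable {G H : Type*} [Group G] [Group H] {p : ℕ}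

/-- `O_p(A)` as a subgroup of `G`. -/
theorem mem_coreMap_iff {A : Subgroup G} {x : G} :
    x ∈ ((pCore p A).map A.subtype : Subgroup G) ↔
      ∃ N : Subgroup G, N ≤ A ∧ IsPGroup p N ∧ (∀ a ∈ A, ∀ n ∈ N, a * n * a⁻¹ ∈ N) ∧ x ∈ N := by
  constructor
  · intro hx
    refine ⟨(pCore p A).map A.subtype, ?_, ?_, ?_, hx⟩
    · rintro _ ⟨y, -, rfl⟩
      exact y.2
    · exact (isPGroup_pCore p A).map _
    · rintro a ha _ ⟨n, hn, rfl⟩
      exact ⟨⟨a, ha⟩ * n * ⟨a, ha⟩⁻¹, (pCore_normal' p A).conj_mem n hn ⟨a, ha⟩, rfl⟩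
  · rintro ⟨N, hNA, hNp, hNn, hx⟩
    refine ⟨⟨x, hNA hx⟩, ?_, rfl⟩
    have hn : (N.subgroupOf A).Normal := by
      refine ⟨fun n hn g => ?_⟩
      exact hNn g g.2 n hn
    have hp : IsPGroup p (N.subgroupOf A) := hNp.comap_subtype
    exact le_pCore hn hp hx

theorem coreMap_of_le {A B : Subgroup G} (hBA : B ≤ A) {x : G}
    (hx : x ∈ ((pCore p A).map A.subtype : Subgroup G)) (hxB : x ∈ B) :
    x ∈ ((pCore p B).map B.subtype : Subgroup G) := by
  obtain ⟨N, hNA, hNp, hNn, hxN⟩ := mem_coreMap_iff.1 hx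
  refine mem_coreMap_iff.2 ⟨N ⊓ B, inf_le_right, hNp.to_le inf_le_left, ?_, hxN, hxB⟩
  rintro a ha n ⟨hn, hn'⟩
  exact ⟨hNn a (hBA ha) n hn, B.mul_mem (B.mul_mem ha hn') (B.inv_mem ha)⟩

theorem coreMap_equiv (e : G ≃* H) {A : Subgroup G} {B : Subgroup H} (h : ∀ x, e x ∈ B ↔ x ∈ A) {x : G}
    (hx : x ∈ ((pCore p A).map A.subtype : Subgroup G)) :
    e x ∈ ((pCore p B).map B.subtype : Subgroup H) := by
  obtain ⟨N, hNA, hNp, hNn, hxN⟩ := mem_coreMap_iff.1 hx
  refine mem_coreMap_iff.2 ⟨N.map e.toMonoidHom, ?_, hNp.map _, ?_, ⟨x, hxN, rfl⟩⟩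
  · rintro _ ⟨y, hy, rfl⟩
    exact (h y).2 (hNA hy)
  · rintro b hb _ ⟨y, hy, rfl⟩
    refine ⟨e.symm b * y * (e.symm b)⁻¹, hNn _ ((h _).1 (by simpa using hb)) _ hy, ?_⟩
    show e (e.symm b * y * (e.symm b)⁻¹) = b * e y * b⁻¹
    simp

end Core

variable {Ω : Type*} [Group Ω] {S : Subgroup Ω} {F : FusionSystem S} {p : ℕ}

/-- `Q` fully centralized: `Q C_S(Q)` is centric. -/
theorem isCentric_sup [Finite S] {Q : Subgroup Ω} (hQ : F.IsFullyCentralized Q) :
    F.IsCentric (Q ⊔ centralizerIn S Q) := by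
  have hle : Q ⊔ centralizerIn S Q ≤ S := sup_le hQ.1 inf_le_left
  refine ⟨hle, ?_⟩
  intro W' hW'
  obtain ⟨f, hf, rfl⟩ := isConj_iff.1 hW'
  have hfQ := hf.mono (le_sup_left : Q ≤ Q ⊔ centralizerIn S Q)
  have hfC := hf.mono (le_sup_right : centralizerIn S Q ≤ Q ⊔ centralizerIn S Q)
  have h1 : img (centralizerIn S Q) f ≤ centralizerIn S (img Q f) := by
    rw [hfC.img_le_iff]
    intro x hx
    refine ⟨hfC.mem hx, ?_⟩
    refine Subgroup.mem_centralizer_iff.2 ?_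
    intro y hy
    obtain ⟨q, hq, rfl⟩ := hfQ.mem_img.1 hy
    rw [← hf.map_mul (Subgroup.mem_sup_left hq) (Subgroup.mem_sup_right hx),
      ← hf.map_mul (Subgroup.mem_sup_right hx) (Subgroup.mem_sup_left hq)]
    congr 1
    exact Subgroup.mem_centralizer_iff.1 hx.2 q hq
  have h2 := hQ.2 (img Q f) hfQ.isConj
  have h3 : img (centralizerIn S Q) f = centralizerIn S (img Q f) :=
    eq_of_le_of_card_le (S := S) inf_le_left h1 (by rw [hfC.card_img]; exact h2)
  intro x hx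
  have h4 : x ∈ centralizerIn S (img Q f) := by
    refine ⟨hx.1, ?_⟩
    exact Subgroup.centralizer_le (SetLike.coe_subset_coe.2 (img_mono le_sup_left)) hx.2
  rw [← h3] at h4
  exact img_mono le_sup_right h4

theorem inn_le_coreMap {W : Subgroup Ω} (hWS : W ≤ S) (hW : IsPGroup p W) :
    Inn W ≤ ((pCore p (F.autGroup W)).map (F.autGroup W).subtype : Subgroup (MulAut W)) := by
  intro α hα
  refine mem_coreMap_iff.2 ⟨Inn W, ?_, ?_, ?_, hα⟩
  · rintro _ ⟨w, rfl⟩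
    rw [mem_autGroup_iff hWS]
    refine (isMap_conj (F := F) (P := W) hWS (hWS w.2)).congr ?_
    intro x hx
    rw [ofAut_apply _ hx]; rfl
  · exact hW.of_surjective (MulAut.conj : W →* MulAut W).rangeRestrict (MonoidHom.rangeRestrict_surjective _)
  · rintro a - _ ⟨w, rfl⟩
    refine ⟨a w, ?_⟩
    ext x
    simp

/-- Transport of the extension property. -/
theorem ext_transport {P W W' : Subgroup Ω} {f : Ω → Ω} (hf : IsMap F W f) (himg : img W f = W') (hPW : P ≤ W)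
    (h : ∀ α ∈ F.autGroup P, ∃ β ∈ F.autGroup W, ∀ x ∈ P, ofAut β x = ofAut α x) :
    ∀ α ∈ F.autGroup (img P f), ∃ β ∈ F.autGroup W', ∀ x ∈ img P f, ofAut β x = ofAut α x := by
  intro α hα
  have hfP := hf.mono hPW
  obtain ⟨β, hβ, hβ'⟩ := h ((hfP.trans rfl).symm α) (by
    rw [← hfP.trans_mem_iff rfl]; simpa using hα)
  refine ⟨hf.trans himg β, (hf.trans_mem_iff himg).2 hβ, ?_⟩
  intro y hy
  obtain ⟨x, hx, rfl⟩ := hfP.mem_img.1 hy
  rw [hf.ofAut_trans himg β (hPW hx), hβ' x hx, ← hfP.ofAut_trans rfl _ hx]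
  congr 1
  simp

/-- Every pair `P ≤ W`, `W` centric, with automorphisms of `P` extending to `W` lies, up to conjugacy, in a fully
normalized centric radical subgroup with the same property. -/
theorem exists_radical_over [Finite S] [hp : Fact p.Prime] (hS : IsPGroup p S) (hF : F.IsSaturated p) :
    ∀ (k : ℕ) (P W : Subgroup Ω), Nat.card S - Nat.card W ≤ k → F.IsCentric W → P ≤ W →
      (∀ α ∈ F.autGroup P, ∃ β ∈ F.autGroup W, ∀ x ∈ P, ofAut β x = ofAut α x) →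
      ∃ (f : Ω → Ω) (R : Subgroup Ω), IsMap F P f ∧ img P f ≤ R ∧ F.IsFullyNormalized R ∧ F.IsCentric R ∧
        F.IsRadical p R ∧
        ∀ α ∈ F.autGroup (img P f), ∃ β ∈ F.autGroup R, ∀ x ∈ img P f, ofAut β x = ofAut α x := by
  intro k
  induction k using Nat.strong_induction_on with
  | _ k IH =>
  intro P W hk hWc hPW hext
  -- make `W` fully normalized
  obtain ⟨W', hWW', hW'n⟩ := exists_fullyNormalized (F := F) hWc.1
  obtain ⟨f, hf, himg⟩ := isConj_iff.1 hWW'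
  have hW'c : F.IsCentric W' := IsCentric_of_isConj hWc hWW'
  have hfP := hf.mono hPW
  have hP' : img P f ≤ W' := by rw [← himg]; exact img_mono hPW
  have hext' := ext_transport hf himg hPW hext
  have hcard : Nat.card W' = Nat.card W := isConj_card_eq hWW'
  set K : Subgroup (MulAut W') := (pCore p (F.autGroup W')).map (F.autGroup W').subtype with hK
  have hKle : K ≤ F.autGroup W' := by
    rintro _ ⟨y, -, rfl⟩
    exact y.2
  have hKn : ∀ α ∈ F.autGroup W', ∀ κ ∈ K, α * κ * α⁻¹ ∈ K := by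
    rintro a ha _ ⟨n, hn, rfl⟩
    exact ⟨⟨a, ha⟩ * n * ⟨a, ha⟩⁻¹, (pCore_normal' p _).conj_mem n hn ⟨a, ha⟩, rfl⟩
  obtain ⟨hW'S, R0, hR0⟩ := sat_fullyAutomized hS hF hW'n
  have hKS : K ≤ autInducedBy S W' := by
    rintro _ ⟨y, hy, rfl⟩
    have h1 := pCore_le_sylow R0 hy
    rw [hR0] at h1
    exact h1
  have hrec := sat_receptive' hS hF hW'n
  by_cases hKI : K ≤ Inn W'
  · refine ⟨f, W', hfP, hP', hW'n, hW'c, ⟨hW'S, le_antisymm hKI ?_⟩, hext'⟩
    exact inn_le_coreMap hW'S (hS.to_le hW'S)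
  · -- enlarge
    set W1 := kNorm S W' K with hW1
    have hW1S : W1 ≤ S := kNorm_le
    have hWW1 : W' ≤ W1 := by
      intro w hw
      rw [hW1, mem_kNorm]
      refine ⟨hW'S hw, conjAut w (Subgroup.le_normalizer hw), ?_, fun x hx => ofAut_conjAut _ _ hx⟩
      refine inn_le_coreMap hW'S (hS.to_le hW'S) ⟨⟨w, hw⟩, ?_⟩
      apply ofAut_injective
      intro x hx
      rw [ofAut_conjAut _ _ hx, ofAut_apply _ hx]; rfl
    have hlt : W' < W1 := by
      refine lt_of_le_of_ne hWW1 fun he => hKI ?_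
      intro κ hκ
      obtain ⟨s, hs, hs'⟩ := mem_autInducedBy'.1 (hKS hκ)
      have h1 : s ∈ W1 := by
        rw [hW1, mem_kNorm]; exact ⟨hs, κ, hκ, hs'⟩
      rw [← he] at h1
      refine ⟨⟨s, h1⟩, ?_⟩
      apply ofAut_injective
      intro x hx
      rw [hs' x hx, ofAut_apply _ hx]; rfl
    have hW1c : F.IsCentric W1 := isCentric_mono hW'c hWW1 hW1S
    have hext1 : ∀ α ∈ F.autGroup (img P f), ∃ β ∈ F.autGroup W1, ∀ x ∈ img P f, ofAut β x = ofAut α x := by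
      intro α hα
      obtain ⟨β, hβ, hβ'⟩ := hext' α hα
      have hβm := isMap_ofAut hW'S hβ
      have hcond : ∀ n ∈ W1, ∃ κ ∈ K, (∀ x ∈ W', ofAut κ x = n * x * n⁻¹) := by
        intro n hn
        exact (mem_kNorm.1 hn).2
      have hkey : ∀ n ∈ W1, ∀ κ ∈ K, (∀ x ∈ W', ofAut κ x = n * x * n⁻¹) → ∀ x ∈ W',
          ofAut β (n * x * n⁻¹) = ofAut (β * κ * β⁻¹) (ofAut β x) := by
        intro n hn κ hκ hκ' x hx
        rw [ofAut_mul _ _ (ofAut_mem _ hx), ofAut_mul _ _ (ofAut_mem _ (ofAut_mem _ hx)),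
          ofAut_inv_apply _ hx, hκ' x hx]
      obtain ⟨g, hg, hg'⟩ := recep_exists_extend_of_le hrec hβm (img_ofAut β) hWW1 (by
        intro n hn
        obtain ⟨κ, hκ, hκ'⟩ := hcond n hn
        refine ⟨hW1S hn, kNorm_le_normalizer hn, ?_⟩
        obtain ⟨s, hs, hs'⟩ := mem_autInducedBy'.1 (hKS (hKn β hβ κ hκ))
        refine ⟨s, hs, fun x hx => ?_⟩
        rw [hkey n hn κ hκ hκ' x hx, hs' _ (ofAut_mem _ hx)])
      have hgW : ∀ n ∈ W1, g n ∈ W1 := by
        intro n hn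
        obtain ⟨κ, hκ, hκ'⟩ := hcond n hn
        rw [hW1, mem_kNorm]
        refine ⟨hg.mem hn, β * κ * β⁻¹, hKn β hβ κ hκ, ?_⟩
        intro y hy
        have h1 : ofAut β (ofAut β⁻¹ y) = y := ofAut_apply_inv _ hy
        have h2 : ofAut β⁻¹ y ∈ W' := ofAut_mem _ hy
        have h3 := hkey n hn κ hκ hκ' (ofAut β⁻¹ y) h2
        rw [h1] at h3
        rw [← h3, ← hg' _ ((Subgroup.mem_normalizer_iff.1 (kNorm_le_normalizer hn) _).1 h2), hg.map_conj hn (hWW1 h2), hg' _ h2, h1]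
      haveI : Finite W1 := Finite.Set.subset (S : Set Ω) hW1S
      have himg1 := hg.img_eq hgW
      refine ⟨hg.aut himg1, hg.aut_mem himg1, ?_⟩
      intro x hx
      rw [hg.ofAut_aut himg1 (hWW1 (hP' hx)), hg' x (hP' hx), hβ' x hx]
    have hlt2 : Nat.card W' < Nat.card W1 := card_lt_of_lt hW1S hlt
    have hle2 : Nat.card W1 ≤ Nat.card S := Nat.card_le_card_of_injective _ (Subgroup.inclusion_injective hW1S)
    obtain ⟨g, R, hg, hgR, hRn, hRc, hRr, hRe⟩ := IH (Nat.card S - Nat.card W1) (by omega) (img P f) W1 le_rfl hW1c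
      (hP'.trans hWW1) hext1
    refine ⟨fun x => g (f x), R, hg.comp hfP (fun x hx => subset_img hx), ?_, hRn, hRc, hRr, ?_⟩
    · rw [hfP.img_comp]; exact hgR
    · rw [hfP.img_comp]; exact hRe

/-! ### `p`-stability -/

/-- quadratic automorphisms -/
def Quad {Q : Subgroup Ω} (χ : MulAut ↥Q) : Prop := ∀ a : ↥Q, (χ a⁻¹) * a * (χ a⁻¹) * (χ (χ a)) = 1

/-- `p`-stability of a system -/
def PStab (p : ℕ) {T : Subgroup Ω} (E : FusionSystem T) : Prop :=
  ∀ Q : Subgroup Ω, E.IsFullyNormalized Q → ∀ χ : MulAut ↥Q, χ ∈ E.autGroup Q → Quad χ →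
    χ ∈ ((Cfsg.pCore p ↥(E.autGroup Q)).map (E.autGroup Q).subtype : Subgroup (MulAut ↥Q))

theorem quad_trans {P Q : Subgroup Ω} {f : Ω → Ω} (hf : IsMap F P f) (himg : img P f = Q) {χ : MulAut P}
    (h : Quad χ) : Quad (hf.trans himg χ) := by
  intro b
  obtain ⟨a, rfl⟩ := (hf.equiv himg).surjective b
  rw [← map_inv, hf.trans_apply, hf.trans_apply, hf.trans_apply, ← map_mul, ← map_mul, ← map_mul]
  have := h a
  rw [this, map_one]

theorem coreMap_trans {P Q : Subgroup Ω} {f : Ω → Ω} (hf : IsMap F P f) (himg : img P f = Q) {χ : MulAut P}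
    (h : χ ∈ ((pCore p (F.autGroup P)).map (F.autGroup P).subtype : Subgroup (MulAut P))) :
    hf.trans himg χ ∈ ((pCore p (F.autGroup Q)).map (F.autGroup Q).subtype : Subgroup (MulAut Q)) :=
  coreMap_equiv (hf.trans himg) (fun _ => hf.trans_mem_iff himg) h

theorem coreMap_trans_iff {P Q : Subgroup Ω} {f : Ω → Ω} (hf : IsMap F P f) (himg : img P f = Q) {χ : MulAut P} :
    hf.trans himg χ ∈ ((pCore p (F.autGroup Q)).map (F.autGroup Q).subtype : Subgroup (MulAut Q)) ↔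
    χ ∈ ((pCore p (F.autGroup P)).map (F.autGroup P).subtype : Subgroup (MulAut P)) := by
  refine ⟨fun h => ?_, coreMap_trans hf himg⟩
  have h1 := coreMap_equiv (p := p) (hf.trans himg).symm (A := F.autGroup Q) (B := F.autGroup P) (by
    intro x
    rw [← hf.trans_mem_iff himg]
    simp) h
  simpa using h1

theorem pstab_all [Finite S] (h : PStab p F) {Q : Subgroup Ω} (hQ : Q ≤ S) {χ : MulAut ↥Q} (hχ : χ ∈ F.autGroup Q)
    (hq : Quad χ) : χ ∈ ((Cfsg.pCore p ↥(F.autGroup Q)).map (F.autGroup Q).subtype : Subgroup (MulAut ↥Q)) := by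
  obtain ⟨Q', hQQ', hQ'⟩ := exists_fullyNormalized (F := F) hQ
  obtain ⟨f, hf, himg⟩ := isConj_iff.1 hQQ'
  rw [← coreMap_trans_iff hf himg]
  exact h Q' hQ' _ ((hf.trans_mem_iff himg).2 hχ) (quad_trans hf himg hq)

theorem pstab_sub [Finite S] {T : Subgroup Ω} {E : FusionSystem T} (hE : E.IsSubsystemOf F) (h : PStab p F) :
    PStab p E := by
  intro Q hQ χ hχ hq
  have hQT := hQ.1
  have hm : IsMap F Q (ofAut χ) := (isSubsystemOf_iff.1 hE) _ _ (isMap_ofAut hQT hχ)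
  have hQS : Q ≤ S := hm.le
  have hle : E.autGroup Q ≤ F.autGroup Q := by
    intro α hα
    rw [mem_autGroup_iff hQS]
    exact (isSubsystemOf_iff.1 hE) _ _ (isMap_ofAut hQT hα)
  exact coreMap_of_le hle (pstab_all h hQS (hle hχ) hq) hχ

/-- `χ ∈ Aut_F(Q)` quadratic, `Q ≤ R` with automorphisms of `Q` extending to `R`, and `N_F(R)` `p`-stable. -/
theorem core_of_norm [Finite S] {Q R : Subgroup Ω} (hQR : Q ≤ R) (hR : R ≤ S)
    (hext : ∀ α ∈ F.autGroup Q, ∃ β ∈ F.autGroup R, ∀ x ∈ Q, ofAut β x = ofAut α x)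
    {N : FusionSystem (normalizerIn S R)} (hN : F.IsNormalizerSystem R N) (hst : PStab p N)
    {χ : MulAut ↥Q} (hχ : χ ∈ F.autGroup Q) (hq : Quad χ) :
    χ ∈ ((Cfsg.pCore p ↥(F.autGroup Q)).map (F.autGroup Q).subtype : Subgroup (MulAut ↥Q)) := by
  have hRN : R ≤ normalizerIn S R := le_inf hR Subgroup.le_normalizer
  have heq : N.autGroup Q = F.autGroup Q := by
    apply le_antisymm
    · intro α hα
      rw [mem_autGroup_iff (hQR.trans hR)]
      exact isMap_of_normSys hN (isMap_ofAut (hQR.trans hRN) hα)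
    · intro α hα
      obtain ⟨β, hβ, hβ'⟩ := hext α hα
      rw [mem_autGroup_iff (hQR.trans hRN)]
      have h1 : IsMap N R (ofAut β) :=
        (isMap_normSys_of_le hN le_rfl).2 ⟨hRN, isMap_ofAut hR hβ, img_ofAut β⟩
      exact (h1.mono hQR).congr hβ'
  haveI : Finite (normalizerIn S R) := Finite.Set.subset (S : Set Ω) (fun x hx => hx.1)
  have h1 := pstab_all hst (hQR.trans hRN) (by rw [heq]; exact hχ) hq
  rwa [heq] at h1

end Cfsg.Agent.H72
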