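import Cfsg.Agent.H72.AutSys
import Cfsg.Agent.H50.SSolv
import Cfsg.Agent.Fus.Chain

set_option autoImplicit false
set_option linter.style.haveILetI false
set_option linter.unusedSectionVars false

/-!
# Supersoluble fusion systems
-/

namespace Cfsg.Agent.H72

open Cfsg Cfsg.FusionSystem Cfsg.Agent.Fus
open scoped commutatorElement

universe u

variable {Ω : Type u} [Group Ω] {S : Subgroup Ω} {p : ℕ}

/-- Supersoluble fusion systems, as in the statements. -/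
def SuperSol (F : FusionSystem S) : Prop :=
  ∃ (m : ℕ) (c : Fin (m + 1) → Subgroup Ω), c 0 = ⊥ ∧ c (Fin.last m) = S ∧
    (∀ i : Fin (m + 1), F.StronglyClosed (c i)) ∧
    ∀ i : Fin m, c i.castSucc ≤ c i.succ ∧ ∃ x ∈ S, c i.succ = c i.castSucc ⊔ Subgroup.zpowers x

theorem ss_of_comm (n : ℕ) : ∀ {K : Type*} [Group K] [Finite K], Nat.card K = n → (∀ a b : K, a * b = b * a) →
    Cfsg.IsSupersolvable K := by
  induction n using Nat.strong_induction_on with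
  | _ n ih =>
  intro K _ _ hn hc
  by_cases hs : Subsingleton K
  · exact Supersolvable.of_subsingleton
  rw [not_subsingleton_iff_nontrivial] at hs
  obtain ⟨x, hx⟩ := exists_ne (1 : K)
  have hN : (Subgroup.zpowers x).Normal := ⟨fun n hn g => by rwa [hc g n, mul_inv_cancel_right]⟩
  have hne : Subgroup.zpowers x ≠ ⊥ := by rwa [Ne, Subgroup.zpowers_eq_bot]
  have hlt := Supersolvable.card_quotient_lt (Subgroup.zpowers x) hne
  refine Supersolvable.of_isCyclic_normal (Subgroup.zpowers x) inferInstance (ih _ (hn ▸ hlt) rfl ?_)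
  intro a b
  induction a using QuotientGroup.induction_on with
  | H a =>
  induction b using QuotientGroup.induction_on with
  | H b =>
  rw [← QuotientGroup.mk_mul, hc a b, QuotientGroup.mk_mul]

theorem comap_step {K G : Type*} [Group K] [Group G] (f : K →* G) {A B : Subgroup G} [hA : A.Normal]
    (h : ∃ g, B = A ⊔ Subgroup.zpowers g) : ∃ k, B.comap f = A.comap f ⊔ Subgroup.zpowers k := by
  have : (A.comap f).Normal := hA.comap f
  obtain ⟨hle, hc⟩ := (Supersolvable.exists_eq_sup_zpowers_iff A B).1 h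
  refine (Supersolvable.exists_eq_sup_zpowers_iff (A.comap f) (B.comap f)).2
    ⟨Subgroup.comap_mono hle, ?_⟩
  let φ : K ⧸ (A.comap f) →* G ⧸ A := QuotientGroup.map _ _ f le_rfl
  have hφ : Function.Injective φ := by
    rw [← MonoidHom.ker_eq_bot_iff, eq_bot_iff]
    intro x hx
    induction x using QuotientGroup.induction_on with
    | H k =>
      rw [MonoidHom.mem_ker] at hx
      have : ((f k : G) : G ⧸ A) = 1 := hx
      rw [QuotientGroup.eq_one_iff] at this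
      rw [Subgroup.mem_bot]
      exact (QuotientGroup.eq_one_iff k).2 this
  let ψ : (B.comap f).map (QuotientGroup.mk' (A.comap f)) →* B.map (QuotientGroup.mk' A) :=
    (φ.domRestrict _).codRestrict _ (by
      rintro ⟨_, k, hk, rfl⟩
      exact ⟨f k, hk, rfl⟩)
  refine @isCyclic_of_injective _ _ _ _ hc ψ ?_
  intro a b hab
  have : φ a = φ b := congrArg Subtype.val hab
  exact Subtype.ext (hφ this)

theorem superSol_of_aut [Finite S] [hp : Fact p.Prime] (hS : IsPGroup p S) {F : FusionSystem S} (hn : F.IsNormal S)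
    (H : Subgroup (MulAut S)) (hHc : ∀ a ∈ H, ∀ b ∈ H, a * b = b * a) (hHe : ∀ h ∈ H, h ^ (p - 1) = 1)
    (hA : F.autGroup S ≤ Inn S ⊔ H) : SuperSol F := by
  haveI : Finite (MulAut S) := Finite.of_injective (fun a : MulAut S => (a : S → S)) (fun a b h => by
    ext x; exact congrArg Subtype.val (congrFun h x))
  let X := S ⋊[H.subtype] H
  haveI : Finite X := Finite.of_equiv _ SemidirectProduct.equivProd.symm
  let ι : S →* X := SemidirectProduct.inl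
  have hι : Function.Injective ι := SemidirectProduct.inl_injective
  have hker : (SemidirectProduct.rightHom : X →* H).ker = ι.range := SemidirectProduct.range_inl_eq_ker_rightHom.symm
  haveI : ι.range.Normal := by rw [← hker]; infer_instance
  have hPp : IsPGroup p ι.range := hS.of_surjective ι.rangeRestrict (MonoidHom.rangeRestrict_surjective _)
  have hss : Cfsg.IsSupersolvable X := by
    refine H50.SSolv.of_core _ rfl p ι.range ι.range hPp ?_ ?_ ?_ ?_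
    · intro g hg hgo
      have h1 : g = 1 := by
        obtain ⟨k, hk⟩ := hPp ⟨g, hg⟩
        have h2 : g ^ p ^ k = 1 := congrArg Subtype.val hk
        have h3 := Nat.Coprime.eq_one_of_dvd (hgo.pow_right k) (orderOf_dvd_of_pow_eq_one h2)
        exact orderOf_eq_one_iff.1 h3
      rw [h1]; exact one_mem _
    · rw [← hker, commutator_def, Subgroup.commutator_le]
      intro a _ b _
      rw [MonoidHom.mem_ker, map_commutatorElement, commutatorElement_eq_one_iff_mul_comm]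
      exact Subtype.ext (hHc _ (SemidirectProduct.rightHom a).2 _ (SemidirectProduct.rightHom b).2)
    · intro g
      rw [← hker, MonoidHom.mem_ker, map_pow]
      exact Subtype.ext (hHe _ (SemidirectProduct.rightHom g).2)
    · refine ss_of_comm _ rfl ?_
      intro a b
      induction a using QuotientGroup.induction_on with
      | H a =>
      induction b using QuotientGroup.induction_on with
      | H b =>
      rw [← QuotientGroup.mk_mul, ← QuotientGroup.mk_mul, QuotientGroup.eq, ← hker, MonoidHom.mem_ker]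
      rw [map_mul, map_inv, map_mul, map_mul]
      rw [show SemidirectProduct.rightHom a * SemidirectProduct.rightHom b = SemidirectProduct.rightHom b * SemidirectProduct.rightHom a from
        Subtype.ext (hHc _ (SemidirectProduct.rightHom a).2 _ (SemidirectProduct.rightHom b).2)]
      rw [inv_mul_cancel]
  obtain ⟨m, D, h0, h1, hnorm, hstep⟩ := hss
  have hmemS : ∀ {D : Subgroup X} {x : Ω}, x ∈ (D.comap ι).map S.subtype ↔ ∃ h : x ∈ S, ι ⟨x, h⟩ ∈ D := by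
    intro D x
    constructor
    · rintro ⟨y, hy, rfl⟩; exact ⟨y.2, hy⟩
    · rintro ⟨h, hy⟩; exact ⟨⟨x, h⟩, hy, rfl⟩
  refine ⟨m, fun i => ((D i).comap ι).map S.subtype, ?_, ?_, ?_, ?_⟩
  · show ((D 0).comap ι).map S.subtype = ⊥
    rw [h0]
    have : (⊥ : Subgroup X).comap ι = ⊥ := (MonoidHom.ker_eq_bot_iff ι).2 hι
    rw [this, Subgroup.map_bot]
  · show ((D (Fin.last m)).comap ι).map S.subtype = S
    rw [h1, Subgroup.comap_top, ← MonoidHom.range_eq_map, Subgroup.range_subtype]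
  · intro i
    haveI := hnorm i
    rw [stronglyClosed_iff_isMap]
    refine ⟨fun x hx => (hmemS.1 hx).1, ?_⟩
    intro P f hf x hxP hx
    obtain ⟨hxS, hx⟩ := hmemS.1 hx
    obtain ⟨g, hg, hgf⟩ := isNormal_self_iff.1 hn P f hf
    -- `g` is an automorphism of `S`
    obtain ⟨α, hα, hαg⟩ := hg.exists_aut (hg.img_eq fun y hy => hg.mem hy)
    rw [← hgf x hxP, ← hαg x hxS]
    have h2 := hA hα
    rw [← SetLike.mem_coe, Subgroup.normal_mul] at h2
    obtain ⟨_, ⟨s, rfl⟩, b, hb, rfl⟩ := h2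
    rw [ofAut_apply _ hxS]
    refine hmemS.2 ⟨Subtype.coe_prop _, ?_⟩
    have h3 := SemidirectProduct.inl_aut (φ := H.subtype) ⟨b, hb⟩ ⟨x, hxS⟩
    have h4 : ι (b ⟨x, hxS⟩) ∈ D i := by
      have h5 : ι (b ⟨x, hxS⟩) = (SemidirectProduct.inr ⟨b, hb⟩ : X) * ι ⟨x, hxS⟩ * (SemidirectProduct.inr ⟨b, hb⟩ : X)⁻¹ := by
        rw [← map_inv]; exact h3
      rw [h5]
      exact (hnorm i).conj_mem _ hx _
    have h6 : ι ((MulAut.conj s * b) ⟨x, hxS⟩) = ι s * ι (b ⟨x, hxS⟩) * (ι s)⁻¹ := by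
      rw [← map_inv, ← map_mul, ← map_mul]; rfl
    show ι ((MulAut.conj s * b) ⟨x, hxS⟩) ∈ D i
    rw [h6]
    exact (hnorm i).conj_mem _ h4 _
  · intro i
    haveI := hnorm i.castSucc
    obtain ⟨k, hk⟩ := comap_step ι (hstep i)
    have h2 : ((D i.succ).comap ι).map S.subtype = ((D i.castSucc).comap ι).map S.subtype ⊔ Subgroup.zpowers (k : Ω) := by
      rw [hk, Subgroup.map_sup, MonoidHom.map_zpowers]; rfl
    refine ⟨?_, k, k.2, h2⟩
    show ((D i.castSucc).comap ι).map S.subtype ≤ ((D i.succ).comap ι).map S.subtype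
    rw [h2]; exact le_sup_left

theorem exists_quot {E D : Subgroup Ω} (hD : ∀ g ∈ E, ∀ x ∈ D, g * x * g⁻¹ ∈ D) :
    ∃ (Q : Type u) (_ : Group Q) (π : E →* Q), Function.Surjective π ∧
      ∀ z w : E, π z = π w ↔ (z : Ω)⁻¹ * w ∈ D := by
  haveI : (D.subgroupOf E).Normal := ⟨fun n hn g => hD g g.2 n hn⟩
  refine ⟨E ⧸ D.subgroupOf E, inferInstance, QuotientGroup.mk' _, QuotientGroup.mk'_surjective _, ?_⟩
  intro z w
  rw [QuotientGroup.mk'_apply, QuotientGroup.mk'_apply, QuotientGroup.eq]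
  rfl

theorem pow_act {E D : Subgroup Ω} (hD : ∀ g ∈ E, ∀ x ∈ D, g * x * g⁻¹ ∈ D) (hDE : D ≤ E)
    {x : Ω} (hx : x ∈ E) (hgen : ∀ z ∈ E, ∃ k : ℤ, (x ^ k)⁻¹ * z ∈ D) (a : Ω → Ω) (haE : ∀ z ∈ E, a z ∈ E)
    (hmul : ∀ y ∈ E, ∀ z ∈ E, a (y * z) = a y * a z) (haD : ∀ z ∈ D, a z ∈ D) :
    ∃ k : ℤ, ∀ z ∈ E, (z ^ k)⁻¹ * a z ∈ D := by
  obtain ⟨Q, _, π, -, hπ⟩ := exists_quot hD
  let f : E →* E :=
    { toFun := fun z => ⟨a z, haE z z.2⟩
      map_one' := by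
        apply Subtype.ext
        have h1 := hmul 1 E.one_mem 1 E.one_mem
        rw [mul_one] at h1
        show a 1 = 1
        exact left_eq_mul.1 h1
      map_mul' := fun y z => Subtype.ext (hmul y y.2 z z.2) }
  obtain ⟨k, hk⟩ := hgen _ (haE x hx)
  have hk' : π (⟨x, hx⟩ ^ k) = π (f ⟨x, hx⟩) := (hπ _ _).2 hk
  refine ⟨k, fun z hz => ?_⟩
  have hgoal : π (⟨z, hz⟩ ^ k) = π (f ⟨z, hz⟩) := by
    obtain ⟨j, hj⟩ := hgen z hz
    let e : E := ⟨(x ^ j)⁻¹ * z, hDE hj⟩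
    have h1 : (⟨z, hz⟩ : E) = ⟨x, hx⟩ ^ j * e := by
      apply Subtype.ext
      show z = x ^ j * ((x ^ j)⁻¹ * z)
      rw [mul_inv_cancel_left]
    have hone : ∀ y : E, (y : Ω) ∈ D → π y = 1 := by
      intro y hy
      rw [← map_one π]
      refine (hπ _ _).2 ?_
      show (y : Ω)⁻¹ * 1 ∈ D
      rw [mul_one]; exact D.inv_mem hy
    have he : π e = 1 := hone e hj
    have hfe : π (f e) = 1 := hone (f e) (haD _ hj)
    have h2 : π ⟨z, hz⟩ = π ⟨x, hx⟩ ^ j := by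
      rw [h1, map_mul, map_zpow, he, mul_one]
    have h3 : π (f ⟨z, hz⟩) = π (f ⟨x, hx⟩) ^ j := by
      rw [h1, map_mul, map_mul, map_zpow, map_zpow, hfe, mul_one]
    rw [map_zpow, h2, h3, ← hk', map_zpow, ← zpow_mul, ← zpow_mul, mul_comm]
  exact (hπ _ _).1 hgoal

section CycChain

variable {P : Subgroup Ω} {A : Subgroup (MulAut P)} {C : ℕ → Subgroup Ω}

theorem chain_pow_act (hCP : ∀ i, C i ≤ P) (hinv : ∀ α ∈ A, ∀ i, ∀ x ∈ C i, ofAut α x ∈ C i) (hmono : ∀ i, C i ≤ C (i + 1)) (hnorm : ∀ i, ∀ g ∈ C (i + 1), ∀ x ∈ C i, g * x * g⁻¹ ∈ C i)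
    (hcyc : ∀ i, ∃ x ∈ C (i + 1), ∀ z ∈ C (i + 1), ∃ k : ℤ, (x ^ k)⁻¹ * z ∈ C i) {α : MulAut P} (hα : α ∈ A) (i : ℕ) :
    ∃ k : ℤ, ∀ z ∈ C (i + 1), (z ^ k)⁻¹ * ofAut α z ∈ C i := by
  obtain ⟨x, hx, hgen⟩ := hcyc i
  exact pow_act (hnorm i) (hmono i) hx hgen (ofAut α) (fun z hz => hinv α hα _ z hz)
    (fun y hy z hz => ofAut_map_mul α (hCP _ hy) (hCP _ hz)) (fun z hz => hinv α hα _ z hz)

theorem comm_mem_chainStab (hCP : ∀ i, C i ≤ P) (hinv : ∀ α ∈ A, ∀ i, ∀ x ∈ C i, ofAut α x ∈ C i) (hmono : ∀ i, C i ≤ C (i + 1))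
    (hnorm : ∀ i, ∀ g ∈ C (i + 1), ∀ x ∈ C i, g * x * g⁻¹ ∈ C i)
    (hcyc : ∀ i, ∃ x ∈ C (i + 1), ∀ z ∈ C (i + 1), ∃ k : ℤ, (x ^ k)⁻¹ * z ∈ C i) {α β : MulAut P} (hα : α ∈ A)
    (hβ : β ∈ A) : ⁅α, β⁆ ∈ chainStab A C hCP hinv := by
  refine ⟨?_, ?_⟩
  · rw [commutatorElement_def]
    exact A.mul_mem (A.mul_mem (A.mul_mem hα hβ) (A.inv_mem hα)) (A.inv_mem hβ)
  intro i x hx
  obtain ⟨k, hk⟩ := chain_pow_act hCP hinv hmono hnorm hcyc hα i
  obtain ⟨l, hl⟩ := chain_pow_act hCP hinv hmono hnorm hcyc hβ i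
  set w := ofAut (α⁻¹ * β⁻¹) x with hw
  have hwC : w ∈ C (i + 1) := hinv _ (A.mul_mem (A.inv_mem hα) (A.inv_mem hβ)) _ x hx
  have hxP := hCP _ hx
  have hwP := hCP _ hwC
  have e1 : x = ofAut β (ofAut α w) := by
    rw [← ofAut_mul β α hwP, hw, ← ofAut_mul _ _ hxP]
    rw [show β * α * (α⁻¹ * β⁻¹) = 1 by group, ofAut_one hxP]
  have e2 : ofAut ⁅α, β⁆ x = ofAut α (ofAut β w) := by
    rw [← ofAut_mul α β hwP, hw, ← ofAut_mul _ _ hxP, commutatorElement_def]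
    congr 1
  rw [e2]
  have hαw := hinv α hα _ w hwC
  have hβw := hinv β hβ _ w hwC
  have hβαw := hinv β hβ _ _ hαw
  have hαβw := hinv α hα _ _ hβw
  obtain ⟨Q, _, π, -, hπ⟩ := exists_quot (hnorm i)
  have e3 : π ⟨ofAut β (ofAut α w), hβαw⟩ = π ⟨w, hwC⟩ ^ (k * l) := by
    have h1 : π (⟨ofAut α w, hαw⟩ ^ l) = π ⟨ofAut β (ofAut α w), hβαw⟩ := (hπ _ _).2 (hl _ hαw)
    have h2 : π (⟨w, hwC⟩ ^ k) = π ⟨ofAut α w, hαw⟩ := (hπ _ _).2 (hk _ hwC)
    rw [← h1, map_zpow, ← h2, map_zpow, zpow_mul]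
  have e4 : π ⟨ofAut α (ofAut β w), hαβw⟩ = π ⟨w, hwC⟩ ^ (k * l) := by
    have h1 : π (⟨ofAut β w, hβw⟩ ^ k) = π ⟨ofAut α (ofAut β w), hαβw⟩ := (hπ _ _).2 (hk _ hβw)
    have h2 : π (⟨w, hwC⟩ ^ l) = π ⟨ofAut β w, hβw⟩ := (hπ _ _).2 (hl _ hwC)
    rw [← h1, map_zpow, ← h2, map_zpow, mul_comm k l, zpow_mul]
  have h5 := (hπ _ _).1 (e3.trans e4.symm)
  have e5 : x⁻¹ * ofAut α (ofAut β w) = (ofAut β (ofAut α w))⁻¹ * ofAut α (ofAut β w) := by rw [← e1]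
  rw [e5]; exact h5

theorem pow_mem_chainStab [hp : Fact p.Prime] {N : ℕ} (hN : ∀ x ∈ P, x ^ p ^ N = 1) (hCP : ∀ i, C i ≤ P)
    (hinv : ∀ α ∈ A, ∀ i, ∀ x ∈ C i, ofAut α x ∈ C i) (hmono : ∀ i, C i ≤ C (i + 1))
    (hnorm : ∀ i, ∀ g ∈ C (i + 1), ∀ x ∈ C i, g * x * g⁻¹ ∈ C i)
    (hcyc : ∀ i, ∃ x ∈ C (i + 1), ∀ z ∈ C (i + 1), ∃ k : ℤ, (x ^ k)⁻¹ * z ∈ C i) {α : MulAut P} (hα : α ∈ A)
    {n : ℕ} (hn0 : 0 < n) (hn : α ^ n = 1) :
    (α ^ (p - 1)) ^ p ^ N ∈ chainStab A C hCP hinv := by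
  refine ⟨A.pow_mem (A.pow_mem hα _) _, ?_⟩
  intro i z hz
  obtain ⟨k, hk⟩ := chain_pow_act hCP hinv hmono hnorm hcyc hα i
  obtain ⟨Q, _, π, -, hπ⟩ := exists_quot (hnorm i)
  have hpow : ∀ (m : ℕ) (z : Ω) (hz : z ∈ C (i + 1)) (hz' : ofAut (α ^ m) z ∈ C (i + 1)),
      π ⟨ofAut (α ^ m) z, hz'⟩ = π ⟨z, hz⟩ ^ (k ^ m) := by
    intro m
    induction m with
    | zero =>
      intro z hz hz'
      have h0 : (⟨ofAut (α ^ 0) z, hz'⟩ : C (i + 1)) = ⟨z, hz⟩ := Subtype.ext (by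
        show ofAut (α ^ 0) z = z
        rw [pow_zero, ofAut_one (hCP _ hz)])
      rw [h0, pow_zero, zpow_one]
    | succ m ih =>
      intro z hz hz'
      have h1 : ofAut (α ^ m) z ∈ C (i + 1) := hinv _ (A.pow_mem hα m) _ z hz
      have h2 : ofAut (α ^ (m + 1)) z = ofAut α (ofAut (α ^ m) z) := by
        rw [pow_succ', ofAut_mul _ _ (hCP _ hz)]
      have h3 : π (⟨ofAut (α ^ m) z, h1⟩ ^ k) = π ⟨ofAut (α ^ (m + 1)) z, hz'⟩ := (hπ _ _).2 (by
        have := hk _ h1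
        rw [← h2] at this; exact this)
      rw [← h3, map_zpow, ih z hz h1, ← zpow_mul, pow_succ]
  have hz' : ofAut ((α ^ (p - 1)) ^ p ^ N) z ∈ C (i + 1) := hinv _ (A.pow_mem (A.pow_mem hα _) _) _ z hz
  have hzN : π ⟨z, hz⟩ ^ p ^ N = 1 := by
    rw [← map_pow, ← map_one π]
    congr 1
    exact Subtype.ext (hN z (hCP _ hz))
  by_cases hpk : (p : ℤ) ∣ k
  · -- trivial quotient
    have h1 : ofAut (α ^ n) z ∈ C (i + 1) := hinv _ (A.pow_mem hα _) _ z hz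
    have h2 := hpow n z hz h1
    have h3 : π ⟨ofAut (α ^ n) z, h1⟩ = π ⟨z, hz⟩ := by
      congr 2
      rw [hn, ofAut_one (hCP _ hz)]
    rw [h3] at h2
    have h4 : π ⟨z, hz⟩ ^ (k ^ n - 1) = 1 := by
      rw [zpow_sub, zpow_one, ← h2, mul_inv_cancel]
    have h5 : IsCoprime (k ^ n - 1) ((p ^ N : ℕ) : ℤ) := by
      push_cast
      apply IsCoprime.pow_right
      obtain ⟨c, hc⟩ := hpk
      refine ⟨-1, c * k ^ (n - 1), ?_⟩
      have h6 : k ^ n = k * k ^ (n - 1) := by rw [← pow_succ', Nat.sub_add_cancel hn0]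
      rw [h6]
      nth_rewrite 1 [hc]
      ring
    have h6 : π ⟨z, hz⟩ = 1 := by
      obtain ⟨u, v, huv⟩ := h5
      have h7 : π ⟨z, hz⟩ ^ (u * (k ^ n - 1) + v * ((p ^ N : ℕ) : ℤ)) = π ⟨z, hz⟩ := by rw [huv, zpow_one]
      rw [← h7, zpow_add, mul_comm u, mul_comm v, zpow_mul, zpow_mul, h4, zpow_natCast, hzN, one_zpow, one_zpow, one_mul]
    have h7 : ∀ y : C (i + 1), (y : Ω) ∈ C i ↔ π y = 1 := by
      intro y
      rw [← map_one π, eq_comm, hπ]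
      simp
    have h8 : z ∈ C i := (h7 ⟨z, hz⟩).2 h6
    exact (C i).mul_mem ((C i).inv_mem h8) (hinv _ (A.pow_mem (A.pow_mem hα _) _) _ z h8)
  · have h1 : (p : ℤ) ∣ k ^ (p - 1) - 1 := by
      have h2 : IsCoprime k (p : ℤ) := by
        rw [isCoprime_comm]
        exact (Nat.prime_iff_prime_int.1 hp.out).irreducible.coprime_iff_not_dvd.2 hpk
      have h3 := Int.ModEq.pow_card_sub_one_eq_one hp.out h2
      exact (Int.modEq_iff_dvd.1 h3.symm)
    have h2 := dvd_sub_pow_of_dvd_sub h1 N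
    rw [one_pow] at h2
    obtain ⟨c, hc⟩ := h2
    have h3 : ofAut (α ^ ((p - 1) * p ^ N)) z ∈ C (i + 1) := hinv _ (A.pow_mem hα _) _ z hz
    have h4 := hpow _ z hz h3
    have h5 : k ^ ((p - 1) * p ^ N) = 1 + ((p ^ N : ℕ) : ℤ) * (p * c) := by
      rw [pow_mul]
      have : (k ^ (p - 1)) ^ p ^ N = 1 + (p : ℤ) ^ (N + 1) * c := by rw [← hc]; ring
      rw [this, pow_succ]
      push_cast
      ring
    rw [h5, zpow_add, zpow_one, zpow_mul, zpow_natCast, hzN, one_zpow, mul_one] at h4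
    have h6 := (hπ _ _).1 h4.symm
    have e : (α ^ (p - 1)) ^ p ^ N = α ^ ((p - 1) * p ^ N) := (pow_mul _ _ _).symm
    rw [e]; exact h6

end CycChain

theorem cyc_step {B E P : Subgroup Ω} {y : Ω} (hnorm : ∀ g ∈ E, ∀ x ∈ B, g * x * g⁻¹ ∈ B)
    (hE : E = B ⊔ Subgroup.zpowers y) : ∃ x ∈ E ⊓ P, ∀ z ∈ E ⊓ P, ∃ k : ℤ, (x ^ k)⁻¹ * z ∈ B ⊓ P := by
  obtain ⟨Q, _, π, hπs, hπ⟩ := exists_quot hnorm
  have hB : B ≤ E := hE ▸ le_sup_left
  have hy : y ∈ E := by rw [hE]; exact Subgroup.mem_sup_right (Subgroup.mem_zpowers y)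
  have hgen : ∀ w : E, π w ∈ Subgroup.zpowers (π ⟨y, hy⟩) := by
    have h1 : E ≤ ((Subgroup.zpowers (π ⟨y, hy⟩)).comap π).map E.subtype := by
      conv_lhs => rw [hE]
      apply sup_le
      · intro b hb
        refine ⟨⟨b, hB hb⟩, ?_, rfl⟩
        have : π ⟨b, hB hb⟩ = 1 := by
          rw [← map_one π, eq_comm, hπ]
          simpa using hb
        show π ⟨b, hB hb⟩ ∈ Subgroup.zpowers (π ⟨y, hy⟩)
        rw [this]; exact one_mem _
      · rw [Subgroup.zpowers_le]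
        exact ⟨⟨y, hy⟩, Subgroup.mem_zpowers _, rfl⟩
    intro w
    obtain ⟨w', hw', hww⟩ := h1 w.2
    have : w' = w := Subtype.ext hww
    rw [← this]; exact hw'
  haveI : IsCyclic Q := ⟨⟨π ⟨y, hy⟩, fun q => by
    obtain ⟨w, rfl⟩ := hπs q
    exact hgen w⟩⟩
  let R : Subgroup Q := ((E ⊓ P).subgroupOf E).map π
  obtain ⟨⟨r, hr⟩, hrgen⟩ := IsCyclic.exists_generator (α := R)
  obtain ⟨x, hx, hxr⟩ := hr
  refine ⟨x, hx, fun z hz => ?_⟩
  have hzR : π ⟨z, hz.1⟩ ∈ R := ⟨⟨z, hz.1⟩, hz, rfl⟩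
  obtain ⟨k, hk⟩ := hrgen ⟨π ⟨z, hz.1⟩, hzR⟩
  have hk' : r ^ k = π ⟨z, hz.1⟩ := congrArg Subtype.val hk
  refine ⟨k, ?_, ?_⟩
  · rw [← hxr, ← map_zpow] at hk'
    exact (hπ _ _).1 hk'
  · exact P.mul_mem (P.inv_mem (P.zpow_mem hx.2 k)) hz.2

theorem SuperSol.exists_chain {F : FusionSystem S} (h : SuperSol F) {P : Subgroup Ω} (hP : P ≤ S) :
    ∃ (C : ℕ → Subgroup Ω) (n : ℕ), C 0 = ⊥ ∧ C n = P ∧ (∀ i, C i ≤ P) ∧
      (∀ α ∈ F.autGroup P, ∀ i, ∀ x ∈ C i, ofAut α x ∈ C i) ∧ (∀ i, C i ≤ C (i + 1)) ∧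
      (∀ i, ∀ g ∈ C (i + 1), ∀ x ∈ C i, g * x * g⁻¹ ∈ C i) ∧
      (∀ i, ∃ x ∈ C (i + 1), ∀ z ∈ C (i + 1), ∃ k : ℤ, (x ^ k)⁻¹ * z ∈ C i) := by
  obtain ⟨m, c, h0, h1, hsc, hstep⟩ := h
  have hlt : ∀ i, min i m < m + 1 := fun i => Nat.lt_succ_of_le (min_le_right _ _)
  have hnormS : ∀ i, ∀ g ∈ S, ∀ x ∈ c i, g * x * g⁻¹ ∈ c i := by
    intro i g hg x hx
    have h2 := Fus.StronglyClosed.le_normalizer (hsc i) hg
    exact (Subgroup.mem_normalizer_iff.1 h2 x).1 hx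
  have hcS : ∀ i, c i ≤ S := fun i => (hsc i).1
  refine ⟨fun i => c ⟨min i m, hlt i⟩ ⊓ P, m, ?_, ?_, fun i => inf_le_right, ?_, ?_, ?_, ?_⟩
  · have : (⟨min 0 m, hlt 0⟩ : Fin (m + 1)) = 0 := by ext; simp
    show c ⟨min 0 m, hlt 0⟩ ⊓ P = ⊥
    rw [this, h0, bot_inf_eq]
  · have : (⟨min m m, hlt m⟩ : Fin (m + 1)) = Fin.last m := by ext; simp
    show c ⟨min m m, hlt m⟩ ⊓ P = P
    rw [this, h1]; exact inf_eq_right.2 hP
  · rintro α hα i x ⟨hx, hxP⟩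
    refine ⟨?_, ofAut_mem _ hxP⟩
    exact (stronglyClosed_iff_isMap.1 (hsc _)).2 P (ofAut α) (isMap_ofAut hP hα) x hxP hx
  · intro i
    by_cases hi : i < m
    · have e1 : (⟨min i m, hlt i⟩ : Fin (m + 1)) = (⟨i, hi⟩ : Fin m).castSucc := by ext; simp [hi.le]
      have e2 : (⟨min (i + 1) m, hlt (i + 1)⟩ : Fin (m + 1)) = (⟨i, hi⟩ : Fin m).succ := by ext; simp; omega
      show c ⟨min i m, hlt i⟩ ⊓ P ≤ c ⟨min (i + 1) m, hlt (i + 1)⟩ ⊓ P
      rw [e1, e2]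
      exact inf_le_inf_right _ (hstep ⟨i, hi⟩).1
    · have e1 : (⟨min i m, hlt i⟩ : Fin (m + 1)) = ⟨min (i + 1) m, hlt (i + 1)⟩ := by ext; simp; omega
      show c ⟨min i m, hlt i⟩ ⊓ P ≤ c ⟨min (i + 1) m, hlt (i + 1)⟩ ⊓ P
      rw [e1]
  · rintro i g ⟨hg, hgP⟩ x ⟨hx, hxP⟩
    exact ⟨hnormS _ g (hP hgP) x hx, P.mul_mem (P.mul_mem hgP hxP) (P.inv_mem hgP)⟩
  · intro i
    by_cases hi : i < m
    · have e1 : (⟨min i m, hlt i⟩ : Fin (m + 1)) = (⟨i, hi⟩ : Fin m).castSucc := by ext; simp [hi.le]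
      have e2 : (⟨min (i + 1) m, hlt (i + 1)⟩ : Fin (m + 1)) = (⟨i, hi⟩ : Fin m).succ := by ext; simp; omega
      show ∃ x ∈ c ⟨min (i + 1) m, hlt (i + 1)⟩ ⊓ P, ∀ z ∈ c ⟨min (i + 1) m, hlt (i + 1)⟩ ⊓ P, ∃ k : ℤ,
        (x ^ k)⁻¹ * z ∈ c ⟨min i m, hlt i⟩ ⊓ P
      rw [e1, e2]
      obtain ⟨hle, y, hy, hyE⟩ := hstep ⟨i, hi⟩
      exact cyc_step (fun g hg x hx => hnormS _ g (hcS _ hg) x hx) hyE
    · have e1 : (⟨min i m, hlt i⟩ : Fin (m + 1)) = ⟨min (i + 1) m, hlt (i + 1)⟩ := by ext; simp; omega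
      refine ⟨1, one_mem _, fun z hz => ⟨0, ?_⟩⟩
      show (1 ^ (0 : ℤ))⁻¹ * z ∈ c ⟨min i m, hlt i⟩ ⊓ P
      rw [e1]; simpa using hz

theorem SuperSol.isNormal_self [Finite S] [hp : Fact p.Prime] (hS : IsPGroup p S) {F : FusionSystem S}
    (hF : F.IsSaturated p) (h : SuperSol F) : F.IsNormal S := by
  haveI : Finite (MulAut S) := finite_mulAut (P := S)
  apply isNormal_self_of_pClosed hS hF
  intro P hPn hPc hPr
  have hPS := hPn.1
  haveI : Finite P := finite_of_le hPS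
  haveI : Finite (MulAut P) := finite_mulAut (P := P)
  have hPp : IsPGroup p P := hS.to_le hPS
  obtain ⟨C, n, h0, hn, hCP, hinv, hmono, hnorm, hcyc⟩ := h.exists_chain hPS
  have hK : IsPGroup p (chainStab (F.autGroup P) C hCP hinv) :=
    isPGroup_chainStab hPp h0 n (by
      intro γ _ _ hfix
      apply ofAut_injective
      intro x hx
      rw [ofAut_one hx]
      exact hfix x (by rw [hn]; exact hx))
  set A := F.autGroup P
  set K := (chainStab A C hCP hinv).subgroupOf A with hKdef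
  have hKp : IsPGroup p K := hK.of_injective (Subgroup.subgroupOfEquivOfLe (show chainStab A C hCP hinv ≤ A from fun γ hγ => hγ.1)).toMonoidHom
      (Subgroup.subgroupOfEquivOfLe (show chainStab A C hCP hinv ≤ A from fun γ hγ => hγ.1)).injective
  have hKn : K.Normal := ⟨fun κ hκ α => chainStab_conj (hCP := hCP) (hinv := hinv) α.2 hκ⟩
  have hcomm : ∀ a b : A, ⁅a, b⁆ ∈ K := fun a b => comm_mem_chainStab hCP hinv hmono hnorm hcyc a.2 b.2
  let R : Sylow p A := default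
  refine ⟨R, ⟨fun r hr g => ?_⟩⟩
  have h1 : K ≤ (R : Subgroup A) := by
    obtain ⟨Q, hQ⟩ := hKp.exists_le_sylow
    obtain ⟨g, hg⟩ := MulAction.exists_smul_eq A Q R
    intro κ hκ
    have h2 : g⁻¹ * κ * g ∈ K := by
      have := hKn.conj_mem κ hκ g⁻¹
      rwa [inv_inv] at this
    have h3 := hQ h2
    rw [← hg]
    show κ ∈ (g • Q : Sylow p A)
    rw [Sylow.smul_def]
    refine ⟨g⁻¹ * κ * g, h3, ?_⟩
    simp [mul_assoc]
  have h2 := h1 (hcomm g r)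
  have h3 : g * r * g⁻¹ = ⁅g, r⁆ * r := by rw [commutatorElement_def]; group
  rw [h3]
  exact (R : Subgroup A).mul_mem h2 hr

theorem SuperSol.auts [Finite S] [hp : Fact p.Prime] (hS : IsPGroup p S) (H : Subgroup (MulAut S))
    (hH : (Nat.card H).Coprime p) (h : SuperSol (autSys (Inn S ⊔ H) le_sup_left)) :
    (∀ a ∈ H, ∀ b ∈ H, a * b = b * a) ∧ ∀ a ∈ H, a ^ (p - 1) = 1 := by
  haveI : Finite (MulAut S) := finite_mulAut (P := S)
  obtain ⟨C, n, h0, hn, hCP, hinv, hmono, hnorm, hcyc⟩ := h.exists_chain le_rfl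
  have hle : H ≤ (autSys (Inn S ⊔ H) le_sup_left : FusionSystem S).autGroup S := by
    rw [autGroup_autSys]; exact le_sup_right
  have hcop : ∀ a ∈ H, (orderOf a).Coprime p := by
    intro a ha
    have h1 := orderOf_dvd_natCard (⟨a, ha⟩ : H)
    rw [Subgroup.orderOf_mk] at h1
    exact Nat.Coprime.coprime_dvd_left h1 hH
  have hone : ∀ a ∈ H, a ∈ chainStab _ C hCP hinv → a = 1 := by
    intro a ha hac
    have h1 := chainStab_fix hS h0 hac (hcop a ha) n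
    apply ofAut_injective
    intro x hx
    rw [ofAut_one hx]
    exact h1 x (by rw [hn]; exact hx)
  refine ⟨fun a ha b hb => ?_, fun a ha => ?_⟩
  · have h1 := hone ⁅a, b⁆ (by
      rw [commutatorElement_def]
      exact H.mul_mem (H.mul_mem (H.mul_mem ha hb) (H.inv_mem ha)) (H.inv_mem hb))
      (comm_mem_chainStab hCP hinv hmono hnorm hcyc (hle ha) (hle hb))
    exact commutatorElement_eq_one_iff_mul_comm.1 h1
  · obtain ⟨N, hN⟩ := hS.exists_card_eq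
    have hexp : ∀ x ∈ S, x ^ p ^ N = 1 := by
      intro x hx
      have h1 : (⟨x, hx⟩ : S) ^ Nat.card S = 1 := pow_card_eq_one'
      rw [hN] at h1
      exact congrArg Subtype.val h1
    have h1 := hone ((a ^ (p - 1)) ^ p ^ N) (H.pow_mem (H.pow_mem ha _) _)
      (pow_mem_chainStab hexp hCP hinv hmono hnorm hcyc (hle ha) (orderOf_pos a) (pow_orderOf_eq_one a))
    have h2 := orderOf_dvd_of_pow_eq_one h1
    have h3 := hcop _ (H.pow_mem ha (p - 1))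
    exact orderOf_eq_one_iff.1 (Nat.Coprime.eq_one_of_dvd (h3.pow_right N) h2)

/-- Schur-Zassenhaus complement to `Inn S` in `Aut_F(S)`. -/
theorem exists_compl [Finite S] [hp : Fact p.Prime] (hS : IsPGroup p S) {F : FusionSystem S} (hF : F.IsSaturated p) :
    ∃ H : Subgroup (MulAut S), H ≤ F.autGroup S ∧ (Nat.card H).Coprime p ∧ F.autGroup S = Inn S ⊔ H := by
  haveI : Finite (MulAut S) := finite_mulAut (P := S)
  obtain ⟨-, R, hR⟩ := sat_fullyAutomized hS hF (isFullyNormalized_self (F := F))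
  rw [← inn_eq_autInducedBy] at hR
  have hcop := R.card_coprime_index
  have hndvd := R.not_dvd_index
  rw [hR] at hcop hndvd
  have hle : Inn S ≤ F.autGroup S := inn_le_autGroup le_rfl
  set A := F.autGroup S with hA
  set N := (Inn S).subgroupOf A with hN
  haveI : N.Normal := inferInstance
  obtain ⟨K, hK⟩ := Subgroup.exists_right_complement'_of_coprime hcop
  refine ⟨K.map A.subtype, ?_, ?_, ?_⟩
  · rintro _ ⟨k, -, rfl⟩; exact k.2
  · have h1 : Nat.card (K.map A.subtype) = Nat.card K := (Nat.card_congr (Subgroup.equivMapOfInjective K _ A.subtype_injective).toEquiv).symm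
    rw [h1]
    have h2 : Nat.card K = N.index := hK.symm.index_eq_card.symm
    rw [h2]
    exact ((Nat.Prime.coprime_iff_not_dvd hp.out).2 hndvd).symm
  · have h1 := hK.sup_eq_top
    have h2 : (N ⊔ K).map A.subtype = A := by
      rw [h1, ← MonoidHom.range_eq_map, Subgroup.range_subtype]
    rw [Subgroup.map_sup, hN, Subgroup.subgroupOf_map_subtype, inf_eq_left.2 hle] at h2
    exact h2.symm

end Cfsg.Agent.H72
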