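import Cfsg.Agent.H72.AlperinIn
import Cfsg.Agent.BG.Semi
import Cfsg.Agent.H63.Omega
import Cfsg.Agent.Fus.AxB

set_option autoImplicit false
set_option linter.style.haveILetI false
set_option linter.unusedSectionVars false
set_option linter.unusedVariables false

/-!
# `p'`-automorphisms of `p`-groups fixing a large abelian subgroup of small exponent (helper72)
-/

namespace Cfsg.Agent.H72.SE

open Subgroup Cfsg.Agent.BG

/-- a p'-automorphism of a finite p-group fixing all elements of order dividing `p` (`4` if `p = 2`) is trivial. -/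
theorem mulAut_eq_one_of_omega {H : Type*} [Group H] [Finite H] {p : ℕ} [hp : Fact p.Prime]
    (hH : IsPGroup p H) (a : MulAut H) (ha : (orderOf a).Coprime p) (hfix : ∀ x : H, x ^ p = 1 → a x = x)
    (hfix4 : p = 2 → ∀ x : H, x ^ 4 = 1 → a x = x) : a = 1 := by
  let φ : Subgroup.zpowers a →* MulAut H := (Subgroup.zpowers a).subtype
  haveI : Finite (MulAut H) := Finite.of_injective (fun e : MulAut H => (e : H → H)) DFunLike.coe_injective
  haveI : Finite (H ⋊[φ] Subgroup.zpowers a) := Finite.of_equiv _ SemidirectProduct.equivProd.symm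
  have hcardA : Nat.card (semiA φ) = orderOf a := by rw [card_semiA, Nat.card_zpowers]
  have key : ∀ x : H, a x = x → ∀ g : Subgroup.zpowers a, φ g x = x := by
    intro x hx g
    obtain ⟨g, hg⟩ := g
    obtain ⟨k, rfl⟩ := Subgroup.mem_zpowers_iff.1 hg
    have h3 : a ∈ MulAction.stabilizer (MulAut H) x := hx
    exact (Subgroup.zpow_mem _ h3 k)
  have h1 := H63.le_centralizer_of_omega (semiA φ) (semiK φ)
    (hH.of_equiv (MonoidHom.ofInjective SemidirectProduct.inl_injective)) (semiA_le_normalizer φ) (by rw [hcardA]; exact ha) (by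
      rintro _ ⟨x, rfl⟩ hx
      rw [mem_centralizer_iff]
      rintro _ ⟨g, rfl⟩
      refine (semi_commute_iff φ g x).2 ?_
      have hxp : x ^ p = 1 := by
        apply SemidirectProduct.inl_injective (φ := φ)
        rw [map_pow, hx, map_one]
      exact key x (hfix x hxp) g) (by
      rintro hp2 _ ⟨x, rfl⟩ hx
      rw [mem_centralizer_iff]
      rintro _ ⟨g, rfl⟩
      refine (semi_commute_iff φ g x).2 ?_
      have hxp : x ^ 4 = 1 := by
        apply SemidirectProduct.inl_injective (φ := φ)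
        rw [map_pow, hx, map_one]
      exact key x (hfix4 hp2 x hxp) g)
  rw [semiA_le_centralizer_iff] at h1
  have := DFunLike.congr_fun h1 (⟨a, Subgroup.mem_zpowers a⟩ : Subgroup.zpowers a)
  exact this

/-- restriction of an automorphism of a finite group to an invariant subgroup -/
noncomputable def res {P : Type*} [Group P] [Finite P] (a : MulAut P) (Q : Subgroup P) (h : ∀ x ∈ Q, a x ∈ Q) : MulAut Q :=
  MulEquiv.ofBijective ((a.toMonoidHom.comp Q.subtype).codRestrict Q (fun x => h x x.2)) (by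
    have hinj : Function.Injective ((a.toMonoidHom.comp Q.subtype).codRestrict Q (fun x => h x x.2)) := by
      intro x y hxy
      have h1 := congrArg Subtype.val hxy
      exact Subtype.ext (a.injective h1)
    exact ⟨hinj, Finite.surjective_of_injective hinj⟩)

theorem coe_res {P : Type*} [Group P] [Finite P] (a : MulAut P) (Q : Subgroup P) (h : ∀ x ∈ Q, a x ∈ Q) (x : Q) :
    ((res a Q h x : Q) : P) = a x := rfl

theorem res_pow {P : Type*} [Group P] [Finite P] (a : MulAut P) (Q : Subgroup P) (h : ∀ x ∈ Q, a x ∈ Q) (n : ℕ) (x : Q) :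
    (((res a Q h ^ n) x : Q) : P) = (a ^ n) x := by
  induction n with
  | zero => rfl
  | succ n ih => rw [pow_succ', pow_succ', MulAut.mul_apply, MulAut.mul_apply, coe_res, ih]

theorem orderOf_res {P : Type*} [Group P] [Finite P] (a : MulAut P) (Q : Subgroup P) (h : ∀ x ∈ Q, a x ∈ Q) :
    orderOf (res a Q h) ∣ orderOf a := by
  apply orderOf_dvd_of_pow_eq_one
  ext x
  rw [res_pow, pow_orderOf_eq_one]
  rfl

theorem aut_trivial {P : Type*} [Group P] [Finite P] {p : ℕ} [hp : Fact p.Prime] (hP : IsPGroup p P) (a : MulAut P)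
    (ha : (orderOf a).Coprime p) (Q A : Subgroup P) (hQa : ∀ x, x⁻¹ * a x ∈ Q) (hAQ : A ≤ Q) (hA : ∀ x ∈ A, a x = x)
    (hAc : ∀ x ∈ A, ∀ y ∈ A, x * y = y * x)
    (hC : ∀ x ∈ Q, (∀ y ∈ A, x * y = y * x) → x ^ p = 1 → x ∈ A)
    (hC4 : p = 2 → ∀ x ∈ Q, (∀ y ∈ A, x * y = y * x) → x ^ 4 = 1 → x ∈ A) : a = 1 := by
  have hQ : ∀ x ∈ Q, a x ∈ Q := fun x hx => by
    have := mul_mem hx (hQa x)
    rwa [mul_inv_cancel_left] at this
  set C : Subgroup P := Q ⊓ centralizer (A : Set P) with hCdef
  have memC : ∀ x, x ∈ C ↔ x ∈ Q ∧ ∀ y ∈ A, x * y = y * x := fun x => by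
    rw [hCdef, mem_inf, mem_centralizer_iff]
    exact ⟨fun h => ⟨h.1, fun y hy => (h.2 y hy).symm⟩, fun h => ⟨h.1, fun y hy => (h.2 y hy).symm⟩⟩
  have hCa : ∀ x ∈ C, a x ∈ C := by
    intro x hx
    obtain ⟨h1, h2⟩ := (memC x).1 hx
    refine (memC _).2 ⟨hQ x h1, fun y hy => ?_⟩
    have h3 := congrArg a (h2 y hy)
    rwa [map_mul, map_mul, hA y hy] at h3
  -- `a` fixes `C`
  have hfixC : ∀ x ∈ C, a x = x := by
    have h1 : res a C hCa = 1 := by
      refine mulAut_eq_one_of_omega (hP.to_subgroup C) _ (Nat.Coprime.coprime_dvd_left (orderOf_res a C hCa) ha) ?_ ?_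
      · intro x hx
        apply Subtype.ext
        rw [coe_res]
        obtain ⟨h2, h3⟩ := (memC x).1 x.2
        exact hA _ (hC _ h2 h3 (congrArg Subtype.val hx))
      · intro hp2 x hx
        apply Subtype.ext
        rw [coe_res]
        obtain ⟨h2, h3⟩ := (memC x).1 x.2
        exact hA _ (hC4 hp2 _ h2 h3 (congrArg Subtype.val hx))
    intro x hx
    have h2 := DFunLike.congr_fun h1 ⟨x, hx⟩
    exact congrArg Subtype.val h2
  -- `a` fixes `Q`
  have hfixQ : ∀ x ∈ Q, a x = x := by
    have h1 : res a Q hQ = 1 := by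
      refine Fus.axb_aut (hP.to_subgroup Q) ((C.subgroupOf Q).map MulAut.conj) ?_ _
        (Nat.Coprime.coprime_dvd_left (orderOf_res a Q hQ) ha) ?_ ?_
      · exact IsPGroup.map ((hP.to_subgroup Q).to_subgroup _) _
      · rintro _ ⟨c, hc, rfl⟩
        ext x
        simp only [MulAut.mul_apply, MulAut.conj_apply]
        rw [coe_res]
        push_cast
        rw [map_mul, map_mul, map_inv, hfixC c (mem_subgroupOf.1 hc), coe_res]
      · intro r hr
        apply Subtype.ext
        rw [coe_res]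
        apply hfixC
        refine (memC _).2 ⟨r.2, fun y hy => ?_⟩
        have hyC : y ∈ C := (memC y).2 ⟨hAQ hy, fun z hz => hAc y hy z hz⟩
        have h2 := hr (MulAut.conj (⟨y, hAQ hy⟩ : Q)) ⟨_, mem_subgroupOf.2 hyC, rfl⟩
        have h3 := congrArg Subtype.val h2
        rw [MulAut.conj_apply] at h3
        have h4 : y * (r : P) * y⁻¹ = r := h3
        rw [mul_inv_eq_iff_eq_mul] at h4
        exact h4.symm
    intro x hx
    have h2 := DFunLike.congr_fun h1 ⟨x, hx⟩
    exact congrArg Subtype.val h2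
  ext x
  have h2 : ∀ n : ℕ, (a ^ n) x = x * (x⁻¹ * a x) ^ n := by
    intro n
    induction n with
    | zero => simp
    | succ n ih =>
      rw [pow_succ', MulAut.mul_apply, ih, map_mul, map_pow, hfixQ _ (hQa x)]
      conv_rhs => rw [pow_succ', ← mul_assoc, mul_inv_cancel_left]
  have h3 := h2 (orderOf a)
  rw [pow_orderOf_eq_one, MulAut.one_apply] at h3
  have h4 : (x⁻¹ * a x) ^ orderOf a = 1 := mul_eq_left.1 h3.symm
  obtain ⟨k, hk⟩ := hP (x⁻¹ * a x)
  have h6 : orderOf (x⁻¹ * a x) ∣ 1 := by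
    have e1 := orderOf_dvd_of_pow_eq_one h4
    have e2 := orderOf_dvd_of_pow_eq_one hk
    rw [← (ha.pow_right k)]
    exact Nat.dvd_gcd e1 e2
  have h7 := orderOf_eq_one_iff.1 (Nat.dvd_one.1 h6)
  rw [MulAut.one_apply]
  exact (inv_mul_eq_one.1 h7).symm

end Cfsg.Agent.H72.SE
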