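import Mathlib
import Cfsg.Prelude.Def_CaseTheorems
import Cfsg.Agent.Cop.Basic

set_option autoImplicit false

/-!
# Recognizing quasi-dihedral and wreathed Sylow 2-subgroups from elements
-/

namespace Cfsg.Agent.H72

open Subgroup

theorem card_sup_of_inf {G : Type*} [Group G] [Finite G] {F E : Subgroup G}
    (h : F ≤ Subgroup.normalizer (E : Set G)) (hEF : E ⊓ F = ⊥) : Nat.card ↥(E ⊔ F) = Nat.card E * Nat.card F := by
  have h1 := Cop.relIndex_sup_eq h
  have h2 : Nat.card E * E.relIndex (F ⊔ E) = Nat.card ↥(F ⊔ E) := by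
    rw [← Subgroup.relIndex_bot_left E, Subgroup.relIndex_mul_relIndex _ _ _ bot_le le_sup_right,
      Subgroup.relIndex_bot_left]
  rw [sup_comm E F, ← h2, h1, ← Subgroup.inf_relIndex_right, hEF, Subgroup.relIndex_bot_left]

/-- `E ⊓ ⟨y⟩ = 1` for an involution `y ∉ E`. -/
theorem inf_zpowers_invol {G : Type*} [Group G] {E : Subgroup G} {y : G} (hy : orderOf y = 2) (hyE : y ∉ E) :
    E ⊓ zpowers y = ⊥ := by
  rw [eq_bot_iff]
  rintro z ⟨hzE, hz⟩
  obtain ⟨k, rfl⟩ := mem_zpowers_iff.mp hz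
  rw [mem_bot]
  rcases Int.even_or_odd' k with ⟨l, hl | hl⟩
  · rw [hl, zpow_mul]
    have : y ^ (2 : ℤ) = 1 := by
      have := pow_orderOf_eq_one y
      rw [hy] at this
      exact_mod_cast this
    rw [this, one_zpow]
  · exfalso
    apply hyE
    have h2 : y ^ (2 : ℤ) = 1 := by
      have := pow_orderOf_eq_one y
      rw [hy] at this
      exact_mod_cast this
    have : y ^ k = y := by rw [hl, zpow_add, zpow_mul, h2, one_zpow, one_mul, zpow_one]
    rw [← this]; exact hzE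

theorem isQuasiDihedral_congr {A B : Type*} [Group A] [Group B] (e : A ≃* B) (h : Cfsg.IsQuasiDihedral A) :
    Cfsg.IsQuasiDihedral B := by
  obtain ⟨n, hn, hc, x, y, hx, hy, hxy⟩ := h
  refine ⟨n, hn, by rw [← Nat.card_congr e.toEquiv, hc], e x, e y, by rw [MulEquiv.orderOf_eq, hx],
    by rw [MulEquiv.orderOf_eq, hy], ?_⟩
  rw [← map_mul, ← map_inv, ← map_mul, hxy, map_pow]

theorem isWreathed_congr {A B : Type*} [Group A] [Group B] (e : A ≃* B) (h : Cfsg.IsWreathed A) :
    Cfsg.IsWreathed B := by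
  obtain ⟨n, hn, hc, x, y, z, hx, hxy, hinf, hz, hzx⟩ := h
  refine ⟨n, hn, by rw [← Nat.card_congr e.toEquiv, hc], e x, e y, e z, by rw [MulEquiv.orderOf_eq, hx],
    by rw [← map_mul, hxy, map_mul], ?_, by rw [MulEquiv.orderOf_eq, hz], by
    rw [← map_mul, ← map_inv, ← map_mul, hzx]⟩
  have h1 : ∀ w : A, zpowers (e w) = (zpowers w).map e.toMonoidHom := fun w => by
    rw [MonoidHom.map_zpowers]; rfl
  rw [h1, h1, ← Subgroup.map_inf _ _ _ e.injective, hinf, Subgroup.map_bot]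

theorem sylow_of_card {G : Type*} [Group G] [Finite G] (P : Sylow 2 G) (W : Subgroup G)
    (h : Nat.card W = Nat.card (P : Subgroup G)) : Nonempty (W ≃* (P : Subgroup G)) := by
  have : Fact (Nat.Prime 2) := ⟨Nat.prime_two⟩
  have h1 : Nat.card W = 2 ^ (Nat.card G).factorization 2 := by rw [h, P.card_eq_multiplicity]
  exact ⟨Sylow.equiv (Sylow.ofCard W h1) P⟩

theorem isQuasiDihedral_of_elements {G : Type*} [Group G] [Finite G] (P : Sylow 2 G) {n : ℕ} (hn : 3 ≤ n)
    (hcard : Nat.card (P : Subgroup G) = 2 ^ (n + 1)) (x y : G) (hx : orderOf x = 2 ^ n) (hy : orderOf y = 2)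
    (hxy : y * x * y⁻¹ = x ^ (2 ^ (n - 1) - 1)) : Cfsg.IsQuasiDihedral (P : Subgroup G) := by
  have h8 : 2 ^ n = 2 * 2 ^ (n - 1) := by rw [← pow_succ']; congr 1; omega
  have h4 : 4 ≤ 2 ^ (n - 1) := by
    calc 4 = 2 ^ 2 := by norm_num
      _ ≤ 2 ^ (n - 1) := Nat.pow_le_pow_right (by norm_num) (by omega)
  have hyx : y ∉ zpowers x := by
    intro h
    obtain ⟨k, rfl⟩ := mem_zpowers_iff.mp h
    have h1 : x ^ k * x * (x ^ k)⁻¹ = x := by
      rw [← zpow_neg, ← zpow_add_one, ← zpow_add]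
      have : k + 1 + -k = 1 := by ring
      rw [this, zpow_one]
    rw [h1] at hxy
    have h2 : x ^ (2 ^ (n - 1) - 2) = 1 := by
      have h3 : x ^ (2 ^ (n - 1) - 1) = x ^ (2 ^ (n - 1) - 2) * x := by rw [← pow_succ]; congr 1; omega
      rw [h3] at hxy
      exact (mul_eq_right.mp hxy.symm)
    have h3 := orderOf_dvd_of_pow_eq_one h2
    rw [hx] at h3
    have := Nat.le_of_dvd (by omega) h3
    omega
  have hnorm : zpowers y ≤ normalizer (zpowers x : Set G) := by
    rw [zpowers_le, mem_normalizer_iff]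
    have key : ∀ w ∈ zpowers x, y * w * y⁻¹ ∈ zpowers x := by
      intro w hw
      obtain ⟨k, rfl⟩ := mem_zpowers_iff.mp hw
      rw [← conj_zpow, hxy]
      exact zpow_mem (npow_mem_zpowers _ _) _
    intro w
    refine ⟨key w, fun h => ?_⟩
    have h1 := key _ h
    have hyy : y * y = 1 := by
      have := pow_orderOf_eq_one y
      rwa [hy, pow_two] at this
    have h2 : y * (y * w * y⁻¹) * y⁻¹ = (y * y) * w * (y * y)⁻¹ := by group
    rw [h2, hyy, one_mul, inv_one, mul_one] at h1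
    exact h1
  have hcW : Nat.card ↥(zpowers x ⊔ zpowers y) = 2 ^ (n + 1) := by
    rw [card_sup_of_inf hnorm (inf_zpowers_invol hy hyx), Nat.card_zpowers, Nat.card_zpowers, hx, hy, pow_succ]
  obtain ⟨e⟩ := sylow_of_card P (zpowers x ⊔ zpowers y) (by rw [hcW, hcard])
  refine isQuasiDihedral_congr e ⟨n, hn, hcW, ⟨x, mem_sup_left (mem_zpowers x)⟩, ⟨y, mem_sup_right (mem_zpowers y)⟩,
    ?_, ?_, ?_⟩
  · rw [Subgroup.orderOf_mk, hx]
  · rw [Subgroup.orderOf_mk, hy]
  · exact Subtype.ext hxy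

theorem isWreathed_of_elements {G : Type*} [Group G] [Finite G] (P : Sylow 2 G) {n : ℕ} (hn : 2 ≤ n)
    (hcard : Nat.card (P : Subgroup G) = 2 ^ (2 * n + 1)) (x y z : G) (hx : orderOf x = 2 ^ n)
    (hxy : x * y = y * x) (hinf : zpowers x ⊓ zpowers y = ⊥) (hz : orderOf z = 2) (hzx : z * x * z⁻¹ = y) :
    Cfsg.IsWreathed (P : Subgroup G) := by
  have h4 : 4 ≤ 2 ^ n := by
    calc 4 = 2 ^ 2 := by norm_num
      _ ≤ 2 ^ n := Nat.pow_le_pow_right (by norm_num) (by omega)
  have hyo : orderOf y = 2 ^ n := by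
    rw [← hzx, ← hx]
    exact (orderOf_injective (MulAut.conj z).toMonoidHom (MulAut.conj z).injective x)
  have hyy : z * z = 1 := by
    have := pow_orderOf_eq_one z
    rwa [hz, pow_two] at this
  have hzi : z⁻¹ = z := inv_eq_of_mul_eq_one_left hyy
  have hzy : z * y * z⁻¹ = x := by
    rw [← hzx]
    have h2 : z * (z * x * z⁻¹) * z⁻¹ = (z * z) * x * (z * z)⁻¹ := by group
    rw [h2, hyy, one_mul, inv_one, mul_one]
  have hne : x ≠ y := by
    intro h
    rw [h, inf_idem, zpowers_eq_bot] at hinf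
    rw [hinf, orderOf_one] at hyo
    omega
  set A := zpowers x ⊔ zpowers y with hA
  have hcomm : ∀ w ∈ A, w * x = x * w := by
    intro w hw
    have h1 : A ≤ Subgroup.centralizer ({x} : Set G) := by
      rw [hA]
      refine sup_le ?_ ?_
      · rw [zpowers_le, mem_centralizer_singleton_iff]
      · rw [zpowers_le, mem_centralizer_singleton_iff]; exact hxy.symm
    exact mem_centralizer_singleton_iff.mp (h1 hw)
  have hzA : z ∉ A := by
    intro h
    apply hne
    rw [← hzx, hcomm z h, mul_inv_cancel_right]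
  have hyn : zpowers y ≤ normalizer (zpowers x : Set G) := by
    refine (zpowers_le.mpr ?_).trans (centralizer_le_normalizer _)
    rw [mem_centralizer_iff]
    intro w hw
    obtain ⟨k, rfl⟩ := mem_zpowers_iff.mp hw
    exact (Commute.zpow_left (show Commute x y from hxy) k)
  have hcA : Nat.card A = 2 ^ (2 * n) := by
    rw [hA, card_sup_of_inf hyn hinf, Nat.card_zpowers, Nat.card_zpowers, hx, hyo, ← pow_add]
    congr 1; ring
  have hnorm : zpowers z ≤ normalizer (A : Set G) := by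
    rw [zpowers_le, mem_normalizer_iff]
    have hle : A ≤ A.comap (MulAut.conj z).toMonoidHom := by
      conv_lhs => rw [hA]
      refine sup_le ?_ ?_
      · rw [zpowers_le]
        show z * x * z⁻¹ ∈ A
        rw [hzx]; exact mem_sup_right (mem_zpowers y)
      · rw [zpowers_le]
        show z * y * z⁻¹ ∈ A
        rw [hzy]; exact mem_sup_left (mem_zpowers x)
    intro w
    refine ⟨fun h => hle h, fun h => ?_⟩
    have h1 : z * (z * w * z⁻¹) * z⁻¹ ∈ A := hle h
    have h2 : z * (z * w * z⁻¹) * z⁻¹ = (z * z) * w * (z * z)⁻¹ := by group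
    rw [h2, hyy, one_mul, inv_one, mul_one] at h1
    exact h1
  have hcW : Nat.card ↥(A ⊔ zpowers z) = 2 ^ (2 * n + 1) := by
    rw [card_sup_of_inf hnorm (inf_zpowers_invol hz hzA), Nat.card_zpowers, hcA, hz, pow_succ]
  obtain ⟨e⟩ := sylow_of_card P (A ⊔ zpowers z) (by rw [hcW, hcard])
  have hxA : x ∈ A := mem_sup_left (mem_zpowers x)
  have hyA : y ∈ A := mem_sup_right (mem_zpowers y)
  refine isWreathed_congr e ⟨n, hn, hcW, ⟨x, mem_sup_left hxA⟩, ⟨y, mem_sup_left hyA⟩,
    ⟨z, mem_sup_right (mem_zpowers z)⟩, ?_, ?_, ?_, ?_, ?_⟩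
  · rw [Subgroup.orderOf_mk, hx]
  · exact Subtype.ext hxy
  · rw [eq_bot_iff]
    rintro ⟨w, hw⟩ ⟨h1, h2⟩
    obtain ⟨k, hk⟩ := mem_zpowers_iff.mp h1
    obtain ⟨l, hl⟩ := mem_zpowers_iff.mp h2
    have hk' : x ^ k = w := congrArg Subtype.val hk
    have hl' : y ^ l = w := congrArg Subtype.val hl
    have h3 : w ∈ zpowers x ⊓ zpowers y := ⟨⟨k, hk'⟩, ⟨l, hl'⟩⟩
    rw [hinf, mem_bot] at h3
    rw [mem_bot]
    exact Subtype.ext h3
  · rw [Subgroup.orderOf_mk, hz]
  · exact Subtype.ext hzx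

/-- Sylow 2-subgroups are isomorphic along a homomorphism with kernel of odd order between groups with the same
2-part. -/
theorem sylow_equiv_of_hom {A B : Type*} [Group A] [Group B] [Finite A] [Finite B] (φ : A →* B)
    (hker : Odd (Nat.card φ.ker)) (hcard : (Nat.card A).factorization 2 = (Nat.card B).factorization 2)
    (P : Sylow 2 A) (Q : Sylow 2 B) : Nonempty ((P : Subgroup A) ≃* (Q : Subgroup B)) := by
  have : Fact (Nat.Prime 2) := ⟨Nat.prime_two⟩
  have hinj : Function.Injective (φ.comp (P : Subgroup A).subtype) := by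
    rw [← MonoidHom.ker_eq_bot_iff, eq_bot_iff]
    intro z hz
    have hz1 : (z : A) ∈ φ.ker := hz
    obtain ⟨k, hk⟩ := P.isPGroup' z
    have h1 : orderOf (z : A) ∣ Nat.card φ.ker := by
      rw [← Subgroup.orderOf_mk (z : A) hz1]; exact orderOf_dvd_natCard _
    have h2 : orderOf (z : A) ∣ 2 ^ k := by
      rw [Subgroup.orderOf_coe]; exact orderOf_dvd_of_pow_eq_one hk
    have h3 : orderOf (z : A) ∣ 1 := by
      rw [← Nat.Coprime.gcd_eq_one (Nat.Coprime.pow_right k (Nat.coprime_two_right.mpr hker))]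
      exact Nat.dvd_gcd h1 h2
    rw [Nat.dvd_one, orderOf_eq_one_iff] at h3
    rw [mem_bot]
    exact Subtype.ext h3
  let e := MonoidHom.ofInjective hinj
  have h1 : Nat.card (φ.comp (P : Subgroup A).subtype).range = Nat.card (Q : Subgroup B) := by
    rw [← Nat.card_congr e.toEquiv, P.card_eq_multiplicity, Q.card_eq_multiplicity, hcard]
  obtain ⟨e'⟩ := sylow_of_card Q _ h1
  exact ⟨e.trans e'⟩

end Cfsg.Agent.H72
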